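import Cfsg.Agent.Omega.NO1.Cfg
import Cfsg.Agent.Omega.FFThm
import Cfsg.Agent.Omega.FrameExtra

/-!
# The types of `V_P` in the leaf N1 (= NO-1', project OMEGA)

`V = V_P`, `Z = Ω₁(Z(S))`.  The types of the pair `(P/C_P(V), V)` (conclusion of the near-FF theorem (BT)):

* `Minus2 S P z` : `V = O₄⁻(2)`, five singular vectors `z i`, `Z = ⟨z 0⟩`, `P` induces at least `A₅` on them;
* `Plus2 S P z` : `V = O₄⁺(2) = N₁ ⊗ N₂`, nine singular vectors `z i j` (rows and columns are lines),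
  `Z = ⟨z 0 0⟩`, `P` induces `S₃ ≀ 2`;
* `Nat4 S P` : `V = F₄²` is the natural module of a normal subgroup `SL₂(4)`, `|Z| = 2`, `|V/E| = 2`;
* `MinusQ K σ P V` : `V = O₄⁻(q)` = the hermitian `2 × 2`-matrices over `K`, `|K| = q²`;
* `PlusQ F P V` : `V = O₄⁺(q)` = `M₂(F)` = `N ⊗ N'`, the two factors `SL₂(F)` are interchanged by `P` (and
  `|V/E| ≥ 4`).
-/

set_option autoImplicit false
set_option linter.unusedSectionVars false

namespace Cfsg.Agent.Omega.NO1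

open Subgroup Cfsg Cfsg.Agent.ZN Cfsg.Agent.Omega.MinPar Cfsg.Agent.Omega.Frame
open Cfsg.Agent.Omega.FrameFF (NatOver)

universe u

section defs

variable {G : Type u} [Group G]

/-- **(β), `q = 2`**: `V = O₄⁻(2)`, the singular vectors are `z 0, …, z 4`. -/
structure Minus2 (S P : Subgroup G) (z : Fin 5 → G) : Prop where
  inj : Function.Injective z
  ne_one : ∀ i, z i ≠ 1
  sq : ∀ i, z i * z i = 1
  comm : ∀ i j, z i * z j = z j * z i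
  prod : z 0 * z 1 * z 2 * z 3 * z 4 = 1
  gen : closure (Set.range z) = zl S P
  Z : zc S = zpowers (z 0)
  perm : ∀ m ∈ P, ∃ σ : Equiv.Perm (Fin 5), ∀ i, m * z i * m⁻¹ = z (σ i)
  alt : ∀ σ ∈ alternatingGroup (Fin 5), ∃ m ∈ P, ∀ i, m * z i * m⁻¹ = z (σ i)

/-- **(γ), `q = 2`**: `V = O₄⁺(2) = N₁ ⊗ N₂`, the singular vectors are `z i j`. -/
structure Plus2 (S P : Subgroup G) (z : Fin 3 → Fin 3 → G) : Prop where
  inj : ∀ i j k l, z i j = z k l → i = k ∧ j = l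
  ne_one : ∀ i j, z i j ≠ 1
  sq : ∀ i j, z i j * z i j = 1
  comm : ∀ i j k l, z i j * z k l = z k l * z i j
  row : ∀ i, z i 0 * z i 1 * z i 2 = 1
  col : ∀ j, z 0 j * z 1 j * z 2 j = 1
  gen : closure (Set.range fun x : Fin 3 × Fin 3 => z x.1 x.2) = zl S P
  Z : zc S = zpowers (z 0 0)
  perm : ∀ m ∈ P, ∃ σ τ : Equiv.Perm (Fin 3), (∀ i j, m * z i j * m⁻¹ = z (σ i) (τ j)) ∨
    (∀ i j, m * z i j * m⁻¹ = z (σ j) (τ i))
  full : ∀ σ τ : Equiv.Perm (Fin 3), ∃ m ∈ P, ∀ i j, m * z i j * m⁻¹ = z (σ i) (τ j)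
  swap : ∃ m ∈ P, ∀ i j, m * z i j * m⁻¹ = z j i

/-- The subgroup `E = V ∩ Q`, `Q = O₂(C_G(Z))`. -/
abbrev EE (S P : Subgroup G) : Subgroup G := zl S P ⊓ o2 (NoFF.LinesPlug.CC S)

/-- **(α)**: `V = F₄²` is the natural `SL₂(4)`-module, `|Z| = 2` (so `S` contains a field automorphism) and
`|V / E| = 2`. -/
structure Nat4 (S P : Subgroup G) : Prop where
  nat : ∃ (F : Type) (_ : Field F) (_ : Finite F) (_ : CharP F 2), Nat.card F = 4 ∧
    Nonempty (NatOver F P (zl S P) ⊥)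
  Z : Nat.card (zc S) = 2
  ind : (EE S P).relIndex (zl S P) = 2

/-- **(β)**: `V = O₄⁻(q)`, the hermitian `2 × 2`-matrices over `K`, `σ` an automorphism of order 2 of `K`,
`|K| = q²`; `SL₂(K)` acts by `X ↦ A X A^*` (a normal subgroup of the group induced by `N`). -/
structure MinusQ (K : Type) [Field K] (σ : K ≃+* K) (N V : Subgroup G) where
  e : G → Matrix (Fin 2) (Fin 2) K
  herm : ∀ v ∈ V, ((e v).map σ).transpose = e v
  mul : ∀ v ∈ V, ∀ w ∈ V, e (v * w) = e v + e w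
  surj : ∀ X : Matrix (Fin 2) (Fin 2) K, (X.map σ).transpose = X → ∃ v ∈ V, e v = X
  ker : ∀ v ∈ V, e v = 0 → v = 1
  lift : ∀ A : Matrix.SpecialLinearGroup (Fin 2) K, ∃ g ∈ N, ∀ v ∈ V,
    e (g * v * g⁻¹) = A.1 * e v * (A.1.map σ).transpose
  norm : ∀ g ∈ N, ∀ h ∈ N, ∀ A : Matrix.SpecialLinearGroup (Fin 2) K,
    (∀ v ∈ V, e (h * v * h⁻¹) = A.1 * e v * (A.1.map σ).transpose) →
      ∃ B : Matrix.SpecialLinearGroup (Fin 2) K,
        ∀ v ∈ V, e (g * h * g⁻¹ * v * (g * h * g⁻¹)⁻¹) = B.1 * e v * (B.1.map σ).transpose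

/-- **(γ)**: `V = O₄⁺(q) = M₂(F)`, `SL₂(F) × SL₂(F)` acts by `X ↦ A X Bᵀ` (a normal subgroup of the group
induced by `N`), and `N` interchanges the two factors. -/
structure PlusQ (F : Type) [Field F] (N V : Subgroup G) where
  e : G → Matrix (Fin 2) (Fin 2) F
  mul : ∀ v ∈ V, ∀ w ∈ V, e (v * w) = e v + e w
  surj : ∀ X : Matrix (Fin 2) (Fin 2) F, ∃ v ∈ V, e v = X
  ker : ∀ v ∈ V, e v = 0 → v = 1
  lift : ∀ A B : Matrix.SpecialLinearGroup (Fin 2) F, ∃ g ∈ N, ∀ v ∈ V,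
    e (g * v * g⁻¹) = A.1 * e v * B.1.transpose
  norm : ∀ g ∈ N, ∀ h ∈ N, ∀ A B : Matrix.SpecialLinearGroup (Fin 2) F,
    (∀ v ∈ V, e (h * v * h⁻¹) = A.1 * e v * B.1.transpose) →
      ∃ A' B' : Matrix.SpecialLinearGroup (Fin 2) F,
        ∀ v ∈ V, e (g * h * g⁻¹ * v * (g * h * g⁻¹)⁻¹) = A'.1 * e v * B'.1.transpose
  swap : ∃ s ∈ N, ∀ h ∈ N, ∀ A : Matrix.SpecialLinearGroup (Fin 2) F,
    (∀ v ∈ V, e (h * v * h⁻¹) = A.1 * e v) →
      ∃ B : Matrix.SpecialLinearGroup (Fin 2) F,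
        ∀ v ∈ V, e (s * h * s⁻¹ * v * (s * h * s⁻¹)⁻¹) = e v * B.1.transpose

/-- The five types. -/
inductive Ty (S P : Subgroup G) : Prop
  | minus2 (z : Fin 5 → G) (h : Minus2 S P z)
  | plus2 (z : Fin 3 → Fin 3 → G) (h : Plus2 S P z)
  | nat4 (h : Nat4 S P)
  | minusQ (K : Type) [Field K] [Finite K] [CharP K 2] (σ : K ≃+* K) (h1 : σ ≠ RingEquiv.refl K)
      (h2 : ∀ x, σ (σ x) = x) (h4 : 16 ≤ Nat.card K) (h : Nonempty (MinusQ K σ P (zl S P)))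
  | plusQ (F : Type) [Field F] [Finite F] [CharP F 2] (h4 : 4 ≤ Nat.card F)
      (hE : 4 ≤ (EE S P).relIndex (zl S P)) (h : Nonempty (PlusQ F P (zl S P)))

end defs

end Cfsg.Agent.Omega.NO1
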