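import Mathlib

/-!
# Finite fields of characteristic 2 with an involutory automorphism

`σ` an automorphism of order 2 of the finite field `F`, `char F = 2`, `F₀ = Fix σ`.

* `exists_tr`, `exists_norm` : trace and norm are onto `F₀`;
* `closed_eq_top` : an additive subgroup `≠ 0` of `F` invariant under the elements of norm one is `F`;
* `linear_of` : an additive map `φ` with `φ(l² u) = l² φ(u)` (`l` of norm one) is `u ↦ φ(1) u`;
* `alt_of` : an additive map `b` with `Tr(σ(u) b(u)) = 0` is `u ↦ c u`, `c ∈ F₀`.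
-/

set_option autoImplicit false
set_option linter.unusedSectionVars false

namespace Cfsg.Agent.Omega.NO1.HermField

variable {F : Type*} [Field F] [CharP F 2] {σ : F ≃+* F}

theorem add_self (x : F) : x + x = 0 := CharTwo.add_self_eq_zero x

theorem eq_of_add {x y : F} (h : x + y = 0) : x = y := by
  rw [CharTwo.add_eq_zero] at h
  exact h

theorem neg_eq (x : F) : -x = x := CharTwo.neg_eq x

section

variable (hσ : σ ≠ RingEquiv.refl F) (hσ2 : ∀ x, σ (σ x) = x)

include hσ in
theorem exists_moved : ∃ y : F, σ y ≠ y := by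
  by_contra hcon
  push Not at hcon
  exact hσ (RingEquiv.ext hcon)

include hσ2 in
theorem fix_tr (x : F) : σ (x + σ x) = x + σ x := by rw [map_add, hσ2, add_comm]

include hσ2 in
theorem fix_norm (x : F) : σ (x * σ x) = x * σ x := by rw [map_mul, hσ2, mul_comm]

theorem tr_eq_zero {x : F} : x + σ x = 0 ↔ σ x = x :=
  ⟨fun h => (eq_of_add h).symm, fun h => by rw [h, add_self]⟩

include hσ hσ2 in
/-- The trace is onto. -/
theorem exists_tr {c : F} (hc : σ c = c) : ∃ x : F, x + σ x = c := by
  obtain ⟨y, hy⟩ := exists_moved hσ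
  have h0 : y + σ y ≠ 0 := fun h => hy (tr_eq_zero.1 h)
  refine ⟨c / (y + σ y) * y, ?_⟩
  rw [map_mul, map_div₀, hc, fix_tr hσ2, ← mul_add, div_mul_cancel₀ _ h0]

/-- Every element is a square. -/
theorem exists_sq [Finite F] (c : F) : ∃ d : F, d * d = c := by
  obtain ⟨d, hd⟩ := FiniteField.isSquare_of_char_two (by
    have := ringChar.eq F 2
    exact this) c
  exact ⟨d, hd.symm⟩

theorem sq_inj {x y : F} (h : x * x = y * y) : x = y := by
  have h1 : (x + y) * (x + y) = 0 := by
    have : (x + y) * (x + y) = x * x + y * y + (x * y + x * y) := by ring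
    rw [this, h, add_self, add_self, add_zero]
  exact eq_of_add (mul_self_eq_zero.1 h1)

/-- The norm is onto, already on `F₀`. -/
theorem exists_norm [Finite F] {c : F} (hc : σ c = c) : ∃ x : F, σ x = x ∧ x * σ x = c := by
  obtain ⟨d, hd⟩ := exists_sq c
  have h1 : σ d = d := by
    apply sq_inj
    rw [← map_mul, hd, hc]
  exact ⟨d, h1, by rw [h1, hd]⟩

include hσ hσ2 in
/-- There is an element of norm one different from `1`. -/
theorem exists_norm_one : ∃ l : F, l * σ l = 1 ∧ l ≠ 1 := by
  obtain ⟨y, hy⟩ := exists_moved hσ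
  have h0 : y ≠ 0 := by rintro rfl; exact hy (map_zero σ)
  have h1 : σ y ≠ 0 := fun h => h0 ((map_eq_zero_iff σ σ.injective).1 h)
  refine ⟨y / σ y, ?_, ?_⟩
  · rw [map_div₀, hσ2]
    field_simp
  · intro h
    rw [div_eq_one_iff_eq h1] at h
    exact hy h.symm

/-- The square root of an element of norm one has norm one. -/
theorem sqrt_norm_one [Finite F] {l : F} (hl : l * σ l = 1) : ∃ m : F, m * σ m = 1 ∧ m * m = l := by
  obtain ⟨m, hm⟩ := exists_sq l
  refine ⟨m, ?_, hm⟩
  apply sq_inj
  rw [mul_one, ← hl, ← hm, map_mul]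
  ring

include hσ hσ2 in
/-- A subfield containing the elements of norm one is everything. -/
theorem subfield_eq_top (K : Subfield F) (hK : ∀ l : F, l * σ l = 1 → l ∈ K) : K = ⊤ := by
  obtain ⟨y, hy⟩ := exists_moved hσ
  have h0 : y + σ y ≠ 0 := fun h => hy (tr_eq_zero.1 h)
  -- `(σ y + a) / τ ∈ K` for `a ∈ F₀`
  have h1 : ∀ a : F, σ a = a → (σ y + a) / (y + σ y) ∈ K := by
    intro a ha
    have hya : σ y + a ≠ 0 := by
      intro h
      have h2 := eq_of_add h
      apply hy
      rw [h2, ← ha, ← h2, hσ2]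
    have hya' : y + a ≠ 0 := by
      intro h
      have h2 := eq_of_add h
      apply hy
      rw [h2, ha]
    have h3 : (y + a) / (σ y + a) ∈ K := by
      apply hK
      rw [map_div₀, map_add, map_add, hσ2, ha]
      field_simp
    have h4 : 1 + (y + a) / (σ y + a) = (y + σ y) / (σ y + a) := by
      have h5 : y + σ y = (σ y + a) + (y + a) := by
        have : (σ y + a) + (y + a) = y + σ y + (a + a) := by ring
        rw [this, add_self, add_zero]
      rw [h5, add_div (σ y + a) (y + a), div_self hya]
    have h6 : (y + σ y) / (σ y + a) ∈ K := by rw [← h4]; exact add_mem K.one_mem h3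
    have h7 := K.inv_mem h6
    rwa [inv_div] at h7
  have h2 : ∀ a : F, σ a = a → a / (y + σ y) ∈ K := by
    intro a ha
    have h3 := h1 a ha
    have h4 := h1 0 (map_zero σ)
    have h5 := add_mem h3 h4
    have h6 : (σ y + a) / (y + σ y) + (σ y + 0) / (y + σ y) = a / (y + σ y) := by
      rw [← add_div]
      congr 1
      have : σ y + a + (σ y + 0) = a + (σ y + σ y) := by ring
      rw [this, add_self, add_zero]
    rwa [h6] at h5
  have h3 : y + σ y ∈ K := by
    have := K.inv_mem (h2 1 (map_one σ))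
    rwa [inv_div, div_one] at this
  have h4 : ∀ a : F, σ a = a → a ∈ K := by
    intro a ha
    have := K.mul_mem (h2 a ha) h3
    rwa [div_mul_cancel₀ _ h0] at this
  have h5 : σ y ∈ K := by
    have := K.mul_mem (h1 0 (map_zero σ)) h3
    rwa [div_mul_cancel₀ _ h0, add_zero] at this
  have h6 : y ∈ K := by
    have := add_mem h3 h5
    have h7 : y + σ y + σ y = y := by rw [add_assoc, add_self, add_zero]
    rwa [h7] at this
  rw [eq_top_iff]
  intro x _
  have h7 : σ ((x + σ x) / (y + σ y)) = (x + σ x) / (y + σ y) := by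
    rw [map_div₀, fix_tr hσ2, fix_tr hσ2]
  have h8 : σ (x + (x + σ x) / (y + σ y) * y) = x + (x + σ x) / (y + σ y) * y := by
    apply tr_eq_zero.1
    rw [map_add, map_mul, h7]
    have : x + (x + σ x) / (y + σ y) * y + (σ x + (x + σ x) / (y + σ y) * σ y) =
        (x + σ x) + (x + σ x) / (y + σ y) * (y + σ y) := by ring
    rw [this, div_mul_cancel₀ _ h0, add_self]
  have h9 : x = (x + (x + σ x) / (y + σ y) * y) + (x + σ x) / (y + σ y) * y := by
    rw [add_assoc, add_self, add_zero]
  rw [h9]
  exact add_mem (h4 _ h8) (K.mul_mem (h4 _ h7) h6)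

include hσ hσ2 in
/-- An additive subgroup `≠ 0` invariant under the elements of norm one is everything. -/
theorem closed_eq_top [Finite F] (D : AddSubgroup F) (hD : ∀ l : F, l * σ l = 1 → ∀ d ∈ D, l * d ∈ D) {d0 : F}
    (hd0 : d0 ∈ D) (h0 : d0 ≠ 0) : D = ⊤ := by
  let K : Subfield F :=
    { carrier := {k | ∀ d ∈ D, k * d ∈ D}
      mul_mem' := fun {a b} ha hb d hd => by rw [mul_assoc]; exact ha _ (hb _ hd)
      one_mem' := fun d hd => by rw [one_mul]; exact hd
      add_mem' := fun {a b} ha hb d hd => by rw [add_mul]; exact D.add_mem (ha _ hd) (hb _ hd)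
      zero_mem' := fun d _ => by rw [zero_mul]; exact D.zero_mem
      neg_mem' := fun {a} ha d hd => by rw [neg_mul]; exact D.neg_mem (ha _ hd)
      inv_mem' := fun a ha => by
        intro d hd
        by_cases h : a = 0
        · rw [h, inv_zero, zero_mul]; exact D.zero_mem
        let f : D → D := fun d => ⟨a * d, ha d d.2⟩
        have hf : Function.Injective f := fun x y hxy =>
          Subtype.ext (mul_left_cancel₀ h (congrArg Subtype.val hxy))
        obtain ⟨e, he⟩ := Finite.surjective_of_injective hf ⟨d, hd⟩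
        have he' : a * e = d := congrArg Subtype.val he
        rw [← he', inv_mul_cancel_left₀ h]
        exact e.2 }
  have hK := subfield_eq_top hσ hσ2 K hD
  rw [AddSubgroup.eq_top_iff']
  intro x
  have h1 : x / d0 ∈ K := by rw [hK]; exact Subfield.mem_top _
  have h2 := h1 d0 hd0
  rwa [div_mul_cancel₀ _ h0] at h2

include hσ hσ2 in
/-- The same with the squares of the elements of norm one. -/
theorem closed_eq_top' [Finite F] (D : AddSubgroup F) (hD : ∀ l : F, l * σ l = 1 → ∀ d ∈ D, l * l * d ∈ D)
    (hne : D ≠ ⊥) : D = ⊤ := by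
  obtain ⟨⟨d, hd⟩, h0⟩ := AddSubgroup.ne_bot_iff_exists_ne_zero.1 hne
  refine closed_eq_top hσ hσ2 D (fun l hl d hd => ?_) hd (fun h => h0 (Subtype.ext h))
  obtain ⟨m, hm, rfl⟩ := sqrt_norm_one hl
  exact hD m hm d hd

include hσ hσ2 in
/-- An additive map commuting with the norm one elements is linear. -/
theorem linear_of [Finite F] (φ : F → F) (hadd : ∀ x y, φ (x + y) = φ x + φ y)
    (hφ : ∀ l : F, l * σ l = 1 → ∀ u, φ (l * l * u) = l * l * φ u) (u : F) : φ u = u * φ 1 := by
  have h0 : φ 0 = 0 := by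
    have := hadd 0 0
    rw [add_zero] at this
    exact (left_eq_add).1 this
  let K : Subfield F :=
    { carrier := {k | ∀ u, φ (k * u) = k * φ u}
      mul_mem' := fun {a b} ha hb u => by rw [mul_assoc, ha, hb, mul_assoc]
      one_mem' := fun u => by rw [one_mul, one_mul]
      add_mem' := fun {a b} ha hb u => by rw [add_mul, hadd, ha, hb, add_mul]
      zero_mem' := fun u => by rw [zero_mul, h0, zero_mul]
      neg_mem' := fun {a} ha u => by rw [neg_eq]; exact ha u
      inv_mem' := fun a ha => by
        intro u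
        by_cases h : a = 0
        · rw [h, inv_zero, zero_mul, h0, zero_mul]
        have h1 := ha (a⁻¹ * u)
        rw [mul_inv_cancel_left₀ h] at h1
        rw [h1, inv_mul_cancel_left₀ h] }
  have hK := subfield_eq_top hσ hσ2 K (fun l hl u => by
    obtain ⟨m, hm, rfl⟩ := sqrt_norm_one hl
    exact hφ m hm u)
  have h1 : u ∈ K := by rw [hK]; exact Subfield.mem_top _
  have h2 := h1 1
  rwa [mul_one] at h2

include hσ hσ2 in
/-- The maps of `(6)` : `Tr(σ(u) b(u)) = 0` for all `u`. -/
theorem alt_of (b : F → F) (hadd : ∀ x y, b (x + y) = b x + b y)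
    (hb : ∀ u, σ u * b u + σ (σ u * b u) = 0) : ∃ c : F, σ c = c ∧ ∀ u, b u = c * u := by
  obtain ⟨y, hy⟩ := exists_moved hσ
  have hy0 : y ≠ 0 := by rintro rfl; exact hy (map_zero σ)
  have h0 : b 0 = 0 := by
    have := hadd 0 0
    rw [add_zero] at this
    exact (left_eq_add).1 this
  have key : ∀ u : F, u ≠ 0 → ∃ c : F, σ c = c ∧ b u = c * u := by
    intro u hu
    refine ⟨b u / u, ?_, by rw [div_mul_cancel₀ _ hu]⟩
    have h1 := tr_eq_zero.1 (hb u)
    rw [map_mul, hσ2] at h1
    have hsu : σ u ≠ 0 := fun h => hu ((map_eq_zero_iff σ σ.injective).1 h)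
    rw [map_div₀, div_eq_div_iff hsu hu]
    rw [mul_comm, h1, mul_comm]
  -- independent vectors have the same factor
  have ind : ∀ u v c d : F, u ≠ 0 → v ≠ 0 → σ (v / u) ≠ v / u → σ c = c → σ d = d → b u = c * u → b v = d * v → c = d := by
    intro u v c d hu hv huv hc hd hbu hbv
    have huv0 : u + v ≠ 0 := by
      intro h
      have := eq_of_add h
      rw [this, div_self hv] at huv
      exact huv (map_one σ)
    obtain ⟨e, he, hbe⟩ := key (u + v) huv0
    have h1 : e * (u + v) = c * u + d * v := by rw [← hbe, hadd, hbu, hbv]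
    have h2 : (e + c) * u = (e + d) * v := by
      have h3 : (e + c) * u + (e + d) * v = 0 := by
        have : (e + c) * u + (e + d) * v = e * (u + v) + (c * u + d * v) := by ring
        rw [this, h1, add_self]
      exact eq_of_add h3
    have h4 : e + d = 0 := by
      by_contra hne
      apply huv
      have h5 : v / u = (e + c) / (e + d) := by
        rw [div_eq_div_iff hu hne]
        rw [mul_comm, ← h2]
      rw [h5, map_div₀, map_add, map_add, he, hc, hd]
    have h6 : e + c = 0 := by
      rw [h4, zero_mul] at h2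
      rcases mul_eq_zero.1 h2 with h | h
      · exact h
      · exact absurd h hu
    rw [← eq_of_add h6, ← eq_of_add h4]
  obtain ⟨c, hc, hbc⟩ := key y hy0
  obtain ⟨c1, hc1, hb1⟩ := key 1 one_ne_zero
  have hcc : c1 = c := ind 1 y c1 c one_ne_zero hy0 (by rw [div_one]; exact hy) hc1 hc hb1 hbc
  refine ⟨c, hc, fun u => ?_⟩
  by_cases hu : u = 0
  · rw [hu, h0, mul_zero]
  obtain ⟨d, hd, hbd⟩ := key u hu
  by_cases hf : σ u = u
  · have := ind u y d c hu hy0 (by
      rw [map_div₀, hf]
      intro h
      exact hy ((div_left_inj' hu).1 h)) hd hc hbd hbc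
    rw [hbd, this]
  · have := ind 1 u c1 d one_ne_zero hu (by rw [div_one]; exact hf) hc1 hd hb1 hbd
    rw [hbd, ← this, hcc]

end

end Cfsg.Agent.Omega.NO1.HermField
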