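import Cfsg.Agent.Omega.FFThmM

/-!
# Best offenders, module form (helper947, for `NO1/JMin.lean`; #15877 (ii'))

* `Best V X` : `X / C_X(V)` is elementary abelian and `|Y| |C_V(Y)| ≤ |X| |C_V(X)|` for `C_X(V) ≤ Y ≤ X`;
* `exists_best` : an offender `A` on `V` (`FFThm.OffM`) contains a best offender `X` with `[V, X] ≠ 1`;
* `Best.map_equiv`, `Best.conj`, `Best.conj_smul` : `N_G(V)` permutes the best offenders;
* `Best.offM` : a best offender on `V` which does not centralise `W ≤ V` offends on `W` (no hypothesis on `V`, `W`).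
-/

set_option autoImplicit false

namespace Cfsg.Agent.Omega.NO1.BestOff

open Subgroup Cfsg Cfsg.Agent.Omega.FFThm
open scoped Pointwise

variable {G : Type*} [Group G]

/-- `X` is a best offender on `V` (or centralises `V`). -/
structure Best (V X : Subgroup G) : Prop extends ElemM V X where
  max : ∀ Y : Subgroup G, Y ≤ X → X ⊓ centralizer (V : Set G) ≤ Y →
    Nat.card Y * Nat.card ↥(V ⊓ centralizer (Y : Set G)) ≤
      Nat.card X * Nat.card ↥(V ⊓ centralizer (X : Set G))

theorem ElemM.mono {V A X : Subgroup G} (h : ElemM V A) (hX : X ≤ A) : ElemM V X :=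
  ⟨fun a ha => h.sq a (hX ha), fun a ha b hb => h.comm a (hX ha) b (hX hb)⟩

/-- an offender contains a best offender which does not centralise `V` -/
theorem exists_best [Finite G] {V A : Subgroup G} (h : OffM V A) :
    ∃ X : Subgroup G, X ≤ A ∧ Best V X ∧ ¬ X ≤ centralizer (V : Set G) := by
  set K : Subgroup G := A ⊓ centralizer (V : Set G) with hK
  have hKV : V ⊓ centralizer (K : Set G) = V := by
    rw [inf_eq_left]
    intro v hv
    rw [mem_centralizer_iff]
    intro k hk
    exact (mem_centralizer_iff.1 hk.2 v hv).symm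
  obtain ⟨X, ⟨hKX, hXA⟩, hmax⟩ := Set.exists_max_image {Y : Subgroup G | K ≤ Y ∧ Y ≤ A}
    (fun Y => Nat.card Y * Nat.card ↥(V ⊓ centralizer (Y : Set G))) (Set.toFinite _) ⟨K, le_rfl, inf_le_left⟩
  have hbest : ∀ X' : Subgroup G, K ≤ X' → X' ≤ A →
      (∀ Y : Subgroup G, K ≤ Y → Y ≤ A → Nat.card Y * Nat.card ↥(V ⊓ centralizer (Y : Set G)) ≤
        Nat.card X' * Nat.card ↥(V ⊓ centralizer (X' : Set G))) → Best V X' := by
    intro X' h1 h2 h3
    refine { toElemM := ElemM.mono h.toElemM h2, max := fun Y hY hYc => h3 Y ?_ (hY.trans h2) }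
    exact (le_inf h1 inf_le_right : K ≤ X' ⊓ centralizer (V : Set G)).trans hYc
  by_cases hX : X ≤ centralizer (V : Set G)
  · refine ⟨A, le_rfl, hbest A inf_le_left le_rfl fun Y h1 h2 => ?_, h.ne⟩
    have hXK : X = K := le_antisymm (le_inf hXA hX) hKX
    refine (hmax Y ⟨h1, h2⟩).trans ?_
    rw [hXK, hKV, mul_comm]
    exact h.le
  · exact ⟨X, hXA, hbest X hKX hXA fun Y h1 h2 => hmax Y ⟨h1, h2⟩, hX⟩

theorem card_map_equiv (e : G ≃* G) (X : Subgroup G) : Nat.card ↥(X.map e.toMonoidHom) = Nat.card X :=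
  Nat.card_congr (X.equivMapOfInjective e.toMonoidHom e.injective).symm.toEquiv

theorem mem_map_iff (e : G ≃* G) (X : Subgroup G) (g : G) : e g ∈ X.map e.toMonoidHom ↔ g ∈ X := by
  constructor
  · rintro ⟨x, hx, h⟩
    have : x = g := e.injective h
    rwa [← this]
  · intro h; exact ⟨g, h, rfl⟩

theorem mem_centralizer_map_iff (e : G ≃* G) (X : Subgroup G) (g : G) :
    e g ∈ centralizer (X.map e.toMonoidHom : Set G) ↔ g ∈ centralizer (X : Set G) := by
  rw [mem_centralizer_iff, mem_centralizer_iff]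
  constructor
  · intro h x hx
    apply e.injective
    rw [map_mul, map_mul]
    exact h (e x) ⟨x, hx, rfl⟩
  · rintro h _ ⟨x, hx, rfl⟩
    show e x * e g = e g * e x
    rw [← map_mul, ← map_mul, h x hx]

theorem inf_centralizer_map (e : G ≃* G) {V : Subgroup G} (hV : V.map e.toMonoidHom = V) (X : Subgroup G) :
    V ⊓ centralizer (X.map e.toMonoidHom : Set G) = (V ⊓ centralizer (X : Set G)).map e.toMonoidHom := by
  ext g
  obtain ⟨g, rfl⟩ := e.surjective g
  rw [mem_map_iff, mem_inf, mem_inf, mem_centralizer_map_iff]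
  refine and_congr_left fun _ => ?_
  conv_lhs => rw [← hV]
  exact mem_map_iff e V g

theorem centralizer_map (e : G ≃* G) {V : Subgroup G} (hV : V.map e.toMonoidHom = V) (g : G) :
    e g ∈ centralizer (V : Set G) ↔ g ∈ centralizer (V : Set G) := by
  conv_lhs => rw [← hV]
  exact mem_centralizer_map_iff e V g

theorem Best.map_equiv {V X : Subgroup G} (h : Best V X) (e : G ≃* G) (hV : V.map e.toMonoidHom = V) :
    Best V (X.map e.toMonoidHom) where
  sq := by
    rintro _ ⟨a, ha, rfl⟩
    show e a ^ 2 ∈ _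
    rw [← map_pow]
    exact (centralizer_map e hV _).2 (h.sq a ha)
  comm := by
    rintro _ ⟨a, ha, rfl⟩ _ ⟨b, hb, rfl⟩
    show e a * e b * (e a)⁻¹ * (e b)⁻¹ ∈ _
    rw [← map_mul, ← map_inv, ← map_mul, ← map_inv, ← map_mul]
    exact (centralizer_map e hV _).2 (h.comm a ha b hb)
  max := by
    intro Y hY hYc
    set Y' : Subgroup G := Y.comap e.toMonoidHom with hY'
    have hYY : Y'.map e.toMonoidHom = Y := map_comap_eq_self_of_surjective e.surjective Y
    have h1 : Y' ≤ X := by
      intro y hy
      exact (mem_map_iff e X y).1 (hY hy)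
    have h2 : X ⊓ centralizer (V : Set G) ≤ Y' := by
      intro x hx
      exact hYc ⟨(mem_map_iff e X x).2 hx.1, (centralizer_map e hV x).2 hx.2⟩
    have h3 := h.max Y' h1 h2
    rw [← hYY, inf_centralizer_map e hV, inf_centralizer_map e hV, card_map_equiv, card_map_equiv,
      card_map_equiv, card_map_equiv]
    exact h3

theorem map_conj_eq {V : Subgroup G} {n : G} (hn : n ∈ normalizer (V : Set G)) :
    V.map (MulAut.conj n).toMonoidHom = V := by
  ext g
  constructor
  · rintro ⟨v, hv, rfl⟩
    exact (mem_normalizer_iff.1 hn v).1 hv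
  · intro hg
    refine ⟨n⁻¹ * g * n, (mem_normalizer_iff.1 hn _).2 ?_, ?_⟩
    · have : n * (n⁻¹ * g * n) * n⁻¹ = g := by group
      rw [this]; exact hg
    · show n * (n⁻¹ * g * n) * n⁻¹ = g
      group

/-- `N_G(V)` permutes the best offenders on `V` -/
theorem Best.conj {V X : Subgroup G} (h : Best V X) {n : G} (hn : n ∈ normalizer (V : Set G)) :
    Best V (X.map (MulAut.conj n).toMonoidHom) := h.map_equiv (MulAut.conj n) (map_conj_eq hn)

theorem Best.conj_smul {V X : Subgroup G} (h : Best V X) {n : G} (hn : n ∈ normalizer (V : Set G)) :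
    Best V (MulAut.conj n • X) := h.conj hn

/-- a best offender on `V` offends on every subgroup `W` of `V` which it does not centralise -/
theorem Best.offM [Finite G] {V W X : Subgroup G} (h : Best V X)
    (hWV : W ≤ V) (hne : ¬ X ≤ centralizer (W : Set G)) : OffM W X where
  sq := fun a ha => centralizer_le hWV (h.sq a ha)
  comm := fun a ha b hb => centralizer_le hWV (h.comm a ha b hb)
  ne := hne
  le := by
    set Y : Subgroup G := X ⊓ centralizer (W : Set G) with hY
    set J : Subgroup G := V ⊓ centralizer (Y : Set G) with hJ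
    set K : Subgroup G := V ⊓ centralizer (X : Set G) with hK
    have h1 := h.max Y inf_le_left (le_inf inf_le_left (inf_le_right.trans (centralizer_le hWV)))
    have hKJ : K ≤ J := le_inf inf_le_left (inf_le_right.trans (centralizer_le (show (Y : Set G) ⊆ X from inf_le_left)))
    have hWJ : W ≤ J := by
      refine le_inf hWV fun w hw => mem_centralizer_iff.2 fun y hy => ?_
      exact (mem_centralizer_iff.1 hy.2 w hw).symm
    have hWK : W ⊓ K = W ⊓ centralizer (X : Set G) := by
      rw [hK, ← inf_assoc, inf_eq_left.2 hWV]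
    have hc : ∀ L : Subgroup G, K.relIndex L * Nat.card ↥(L ⊓ K) = Nat.card L := by
      intro L
      have e := relIndex_inf_mul_relIndex (⊥ : Subgroup G) K L
      rw [relIndex_bot_left, bot_inf_eq, relIndex_bot_left, mul_comm, inf_comm] at e
      exact e
    have h2 : K.relIndex W ≤ K.relIndex J := relIndex_le_of_le_right hWJ (by
    intro h0
    have h4 := hc J
    rw [h0, zero_mul] at h4
    exact Nat.card_pos.ne h4)
    have h3 := hc W
    have h4 := hc J
    rw [inf_eq_right.2 hKJ] at h4
    rw [hWK] at h3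
    -- `|W| |K| ≤ |J| |W ∩ C(X)|`
    have h5 : Nat.card W * Nat.card K ≤ Nat.card J * Nat.card ↥(W ⊓ centralizer (X : Set G)) := by
      rw [← h3, ← h4]
      calc K.relIndex W * Nat.card ↥(W ⊓ centralizer (X : Set G)) * Nat.card K
          = K.relIndex W * (Nat.card ↥(W ⊓ centralizer (X : Set G)) * Nat.card K) := by ring
        _ ≤ K.relIndex J * (Nat.card ↥(W ⊓ centralizer (X : Set G)) * Nat.card K) :=
            Nat.mul_le_mul_right _ h2
        _ = K.relIndex J * Nat.card K * Nat.card ↥(W ⊓ centralizer (X : Set G)) := by ring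
    have hKpos : 0 < Nat.card K := Nat.card_pos
    refine Nat.le_of_mul_le_mul_right ?_ hKpos
    calc Nat.card W * Nat.card Y * Nat.card K = Nat.card Y * (Nat.card W * Nat.card K) := by ring
      _ ≤ Nat.card Y * (Nat.card J * Nat.card ↥(W ⊓ centralizer (X : Set G))) := Nat.mul_le_mul_left _ h5
      _ = (Nat.card Y * Nat.card J) * Nat.card ↥(W ⊓ centralizer (X : Set G)) := by ring
      _ ≤ (Nat.card X * Nat.card K) * Nat.card ↥(W ⊓ centralizer (X : Set G)) := Nat.mul_le_mul_right _ h1
      _ = Nat.card X * Nat.card ↥(W ⊓ centralizer (X : Set G)) * Nat.card K := by ring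

end Cfsg.Agent.Omega.NO1.BestOff
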