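import Cfsg.Agent.Omega.All.NOne.OfGIn
import Cfsg.Agent.Omega.All.NOne.Hty
import Cfsg.Agent.Omega.Node.EndMinusQ

/-!
# `EndQ.AllMinus` (THEOREM ALL-N1, type (β)), `CoreMinus`

* `coreMinus : CoreMinus` (no hypothesis);
* `allMinus : BT → EndQ.AllMinus`.
-/

set_option autoImplicit false
set_option linter.unusedSectionVars false

namespace Cfsg.Agent.Omega.NO1.AllMinus

open Subgroup Cfsg Cfsg.Agent.ZN Cfsg.Agent.Omega.MinPar Cfsg.Agent.Omega.Frame Cfsg.Agent.Omega.All.NOne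
open Cfsg.Agent.Omega.NOne.SU Cfsg.Agent.Omega.NO1.Beta

universe u

/-- **`Core` for `MinusQ`.** -/
theorem coreMinus : CoreMinus.{u} := by
  intro G _ _ S P h K _ _ _ σ h1 h2 h16 m
  obtain ⟨d, hS, hZ, hSy, hH, -⟩ := EndQ.exists_pre h m h1 h2 h16
  exact ⟨GInst.kf σ, K, _, _, _, _, _, _, _, _, _, (OfGIn.two_hyp hH h16 S hSy.meet hSy.S_M hS hZ).core⟩

/-- **THEOREM ALL-N1 for type (β)**: MX and `G = ⟨N(R), N(V)⟩`. -/
theorem allMinus (hBT : BT.{u}) : EndQ.AllMinus.{u} := by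
  intro G _ _ S P h K _ _ _ σ h16 d hS hZ hSy hH
  have T2 := OfGIn.two_hyp hH h16 S hSy.meet hSy.S_M hS hZ
  refine ⟨fun m hm => ?_, ?_⟩
  · exact T2.core.mx S h.ctx.char2 (ZN.zc_ne_bot S.isPGroup' (h.ctx.sylow_ne_bot S)) hm
  · exact T2.core.sup_eq_top_of S (T2.toPair.ext S) h.ctx h.full hBT coreMinus

end Cfsg.Agent.Omega.NO1.AllMinus
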