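import Cfsg.Agent.Omega.NO1.Cfg
import Cfsg.Agent.Omega.FFBr.Act

/-!
# N1: `V_P` as an additive module for the group induced by `P` (project OMEGA, assembler helper406)

`Rep S P V Y M T Mx` : `M` is `V` as an additive group (`el : M → G`), `Y` is the group induced by `P`
(`ac : P →* Y`), `T` the image of `S`, `Mx` the unique maximal subgroup of `Y` over `T`, `O₂(Y) = 1`.
-/

set_option autoImplicit false
set_option linter.unusedSectionVars false

namespace Cfsg.Agent.Omega.NO1

open Subgroup Cfsg Cfsg.Agent.ZN Cfsg.Agent.Omega.MinPar Cfsg.Agent.Omega.Frame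
open Cfsg.Agent.Omega.FFBr (XX pr Abs)
open Cfsg.Agent.Omega.NoFF.LinesPlug (CC)

universe u

/-- `V` as a module for the group induced by `P`. -/
structure Rep {G : Type u} [Group G] (S P V : Subgroup G) (Y M : Type u) [Group Y] [AddCommGroup M]
    [DistribMulAction Y M] (T : Sylow 2 Y) (Mx : Subgroup Y) where
  el : M → G
  mem : ∀ m, el m ∈ V
  add : ∀ m n, el (m + n) = el m * el n
  inj : Function.Injective el
  surj : ∀ v ∈ V, ∃ m, el m = v
  ac : P →* Y
  acs : Function.Surjective ac
  smul : ∀ (p : P) (m : M), el (ac p • m) = p * el m * (p : G)⁻¹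
  two : ∀ m : M, m + m = 0
  faith : ∀ y : Y, (∀ m : M, y • m = m) → y = 1
  core : ∀ N : Subgroup Y, N.Normal → IsPGroup 2 N → N = ⊥
  mem_T : ∀ y, y ∈ T ↔ ∃ t : P, (t : G) ∈ S ∧ ac t = y
  TM : (T : Subgroup Y) ≤ Mx
  Mne : Mx ≠ ⊤
  max : ∀ K : Subgroup Y, (T : Subgroup Y) ≤ K → K ≠ ⊤ → K ≤ Mx

section AV

variable {G : Type u} [Group G]

/-- `V` additively -/
def AV (V : Subgroup G) (_ : ∀ v w : V, v * w = w * v) : Type u := Additive V

variable {V : Subgroup G} {hc : ∀ v w : V, v * w = w * v}

instance : AddCommGroup (AV V hc) :=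
  { (inferInstance : AddGroup (Additive V)) with
    add_comm := fun a b => congrArg Additive.ofMul (hc a.toMul b.toMul) }

instance {P : Subgroup G} (h : P ≤ normalizer (V : Set G)) : DistribMulAction (XX h) (AV V hc) where
  smul x m := Additive.ofMul ((x : MulAut V) m.toMul)
  one_smul m := rfl
  mul_smul x y m := rfl
  smul_zero x := by
    change Additive.ofMul ((x : MulAut V) 1) = _
    rw [map_one]; rfl
  smul_add x a b := by
    change Additive.ofMul ((x : MulAut V) (a.toMul * b.toMul)) = _
    rw [map_mul]; rfl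

end AV

variable {G : Type u} [Group G] [Finite G] {S : Sylow 2 G} {P : Subgroup G}

theorem Cfg.exists_rep (h : Cfg S P) :
    ∃ (Y M : Type u) (_ : Group Y) (_ : Finite Y) (_ : AddCommGroup M) (_ : Finite M)
      (_ : DistribMulAction Y M) (T : Sylow 2 Y) (Mx : Subgroup Y),
      Nonempty (Rep (S : Subgroup G) P (zl (S : Subgroup G) P) Y M T Mx) := by
  have hN := Cfg.P_norm_V S P
  have hc : ¬ P ≤ centralizer (zl (S : Subgroup G) P : Set G) := by
    intro h1
    exact h.one.star.not_zc ((h1.trans (centralizer_le h.Z_le_V)).trans (centralizer_le_normalizer _))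
  obtain ⟨T, Mx, hA, hT⟩ := FFBr.abs_of (T := (S : Subgroup G)) (H := P)
    ⟨h.S_le, S.isPGroup', fun _ _ hT hST => S.is_maximal' hT hST⟩
    h.par.toIsMinPar (h.loc.char2 S h.ctx.char2) hc hN
  refine ⟨XX hN, AV (zl (S : Subgroup G) P) hA.comm, inferInstance, inferInstance, inferInstance,
    inferInstanceAs (Finite (zl (S : Subgroup G) P)), inferInstance, T, Mx, ⟨?_⟩⟩
  exact
    { el := fun m => ((Additive.toMul m : zl (S : Subgroup G) P) : G)
      mem := fun m => (Additive.toMul m : zl (S : Subgroup G) P).2
      add := fun m n => rfl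
      inj := fun a b hab => by
        have : (Additive.toMul a : zl (S : Subgroup G) P) = Additive.toMul b := Subtype.ext hab
        exact congrArg Additive.ofMul this
      surj := fun v hv => ⟨Additive.ofMul (⟨v, hv⟩ : zl (S : Subgroup G) P), rfl⟩
      ac := pr hN
      acs := FFBr.pr_surjective hN
      smul := fun p m => rfl
      two := fun m => congrArg Additive.ofMul (hA.sq (Additive.toMul m))
      faith := fun y hy => hA.faith y fun v => by
        have h1 := hy (Additive.ofMul v)
        exact congrArg Additive.toMul h1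
      core := hA.core
      mem_T := hT
      TM := hA.TM
      Mne := hA.Mne
      max := fun K hK hK1 => (hA.max K hK).resolve_right hK1 }

end Cfsg.Agent.Omega.NO1
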