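import Cfsg.Agent.Omega.NO1.Cfg

/-!
# N1, (BT) with `|V / E| = 2`: facts in `G` for the bridge (project OMEGA, assembler helper406)

`V = V_P`, `Ω₁(Z(S)) = {1, z}`, `Q_x = O₂(C_G(x))`, `E_x = V ∩ Q_x` for the `P`-conjugates `x` of `z`.
-/

set_option autoImplicit false
set_option linter.unusedSectionVars false

namespace Cfsg.Agent.Omega.NO1.TwoG

open Subgroup Cfsg Cfsg.Agent.ZN Cfsg.Agent.Omega.MinPar Cfsg.Agent.Omega.Frame
open Cfsg.Agent.Omega.NoFF.LinesPlug (CC)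
open Cfsg.Agent.Omega.NoFF.Basic (mem_conj conj_le_iff conj_conj)
open Cfsg.Agent.Omega.NOne.Frame (mem_conj' X norm_mem comm_of_le_centralizer)
open Cfsg.Agent.Omega.NOne.NearFF
open scoped Pointwise

universe u

variable {G : Type u} [Group G]

/-- `Q_x = O₂(C_G(x))` -/
abbrev Qx (x : G) : Subgroup G := o2 (centralizer ({x} : Set G))

/-- `E_x = V ∩ Q_x` -/
abbrev Ex (V : Subgroup G) (x : G) : Subgroup G := V ⊓ Qx x

theorem idx2 {E V : Subgroup G} (h2 : E.relIndex V = 2) {a b : G} (ha : a ∈ V) (hb : b ∈ V) :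
    a * b ∈ E ↔ (a ∈ E ↔ b ∈ E) := by
  have h1 := Subgroup.mul_mem_iff_of_index_two (H := E.subgroupOf V) h2 (a := ⟨a, ha⟩) (b := ⟨b, hb⟩)
  exact h1

theorem cent_conj (p x : G) : centralizer ({p * x * p⁻¹} : Set G) = MulAut.conj p • centralizer ({x} : Set G) := by
  ext y
  rw [mem_conj, mem_centralizer_singleton_iff, mem_centralizer_singleton_iff]
  constructor
  · intro h
    calc p⁻¹ * y * p * x = p⁻¹ * (y * (p * x * p⁻¹)) * p := by group
      _ = p⁻¹ * ((p * x * p⁻¹) * y) * p := by rw [h]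
      _ = x * (p⁻¹ * y * p) := by group
  · intro h
    calc y * (p * x * p⁻¹) = p * (p⁻¹ * y * p * x) * p⁻¹ := by group
      _ = p * (x * (p⁻¹ * y * p)) * p⁻¹ := by rw [h]
      _ = (p * x * p⁻¹) * y := by group

theorem o2_conj_smul (p : G) (L : Subgroup G) : o2 (MulAut.conj p • L) = MulAut.conj p • o2 L :=
  o2_map_equiv (MulAut.conj p) L

theorem Qx_conj (p x : G) : Qx (p * x * p⁻¹) = MulAut.conj p • Qx x := by
  rw [Qx, cent_conj, o2_conj_smul]

theorem conj_V {V P : Subgroup G} (h : P ≤ normalizer (V : Set G)) {p : G} (hp : p ∈ P) :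
    MulAut.conj p • V = V := by
  ext y
  rw [mem_conj]
  exact (mem_normalizer_iff''.1 (h hp) y).symm

theorem Ex_conj {V P : Subgroup G} (h : P ≤ normalizer (V : Set G)) {p : G} (hp : p ∈ P) (x : G) :
    Ex V (p * x * p⁻¹) = MulAut.conj p • Ex V x := by
  rw [Ex, Qx_conj, Ex, smul_inf, conj_V h hp]

section Cfg

variable [Finite G] {S : Sylow 2 G} {P : Subgroup G}

theorem exists_z (hZ : Nat.card (zc (S : Subgroup G)) = 2) :
    ∃ z ∈ zc (S : Subgroup G), z ≠ 1 ∧ ∀ x ∈ zc (S : Subgroup G), x = 1 ∨ x = z := by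
  obtain ⟨x, y, hxy, hu⟩ := Nat.card_eq_two_iff.1 hZ
  by_cases hx : x = 1
  · refine ⟨y, y.2, fun h => hxy ?_, fun w hw => ?_⟩
    · rw [hx]; exact Subtype.ext h.symm
    · have : (⟨w, hw⟩ : zc (S : Subgroup G)) ∈ ({x, y} : Set _) := by rw [hu]; trivial
      rcases this with h | h
      · left; rw [hx] at h; exact congrArg Subtype.val h
      · right; exact congrArg Subtype.val h
  · refine ⟨x, x.2, fun h => hx (Subtype.ext h), fun w hw => ?_⟩
    have h1 : (1 : zc (S : Subgroup G)) ∈ ({x, y} : Set _) := by rw [hu]; trivial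
    have hy : y = 1 := by
      rcases h1 with h | h
      · exact absurd h.symm hx
      · exact h.symm
    have : (⟨w, hw⟩ : zc (S : Subgroup G)) ∈ ({x, y} : Set _) := by rw [hu]; trivial
    rcases this with h | h
    · right; exact congrArg Subtype.val h
    · left; rw [hy] at h; exact congrArg Subtype.val h

/-- The data `z`. -/
structure Zd (S : Sylow 2 G) (z : G) : Prop where
  mem : z ∈ zc (S : Subgroup G)
  ne : z ≠ 1
  eq : ∀ x ∈ zc (S : Subgroup G), x = 1 ∨ x = z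

theorem Zd.CC {z : G} (hz : Zd S z) : CC (S : Subgroup G) = centralizer ({z} : Set G) := by
  apply le_antisymm
  · exact centralizer_le (Set.singleton_subset_iff.2 hz.mem)
  · intro y hy
    rw [mem_centralizer_singleton_iff] at hy
    rw [mem_centralizer_iff]
    intro x hx
    rcases hz.eq x hx with rfl | rfl
    · rw [one_mul, mul_one]
    · exact hy.symm

variable (h : Cfg S P) {z : G} (hz : Zd S z)
include h hz

theorem Q_eq : o2 (CC (S : Subgroup G)) = Qx z := by rw [hz.CC]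

/-- `Q_x ≤ P` normalises `V` -/
theorem Qx_le_P {p : G} (hp : p ∈ P) : Qx (p * z * p⁻¹) ≤ P := by
  rw [Qx_conj]
  intro y hy
  rw [mem_conj] at hy
  have h1 : p⁻¹ * y * p ∈ P := h.S_le (h.Q_le_S (by rw [Q_eq h hz]; exact hy))
  have e : y = p * (p⁻¹ * y * p) * p⁻¹ := by group
  rw [e]
  exact mul_mem (mul_mem hp h1) (inv_mem hp)

theorem relIndex_Ex (hA : (Ex (zl (S : Subgroup G) P) z).relIndex (zl (S : Subgroup G) P) = 2) {p : G}
    (hp : p ∈ P) :
    (Ex (zl (S : Subgroup G) P) (p * z * p⁻¹)).relIndex (zl (S : Subgroup G) P) = 2 := by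
  have hV := conj_V (Cfg.P_norm_V S P) hp
  have h1 := relIndex_pointwise_smul (MulAut.conj p) (Ex (zl (S : Subgroup G) P) z) (zl (S : Subgroup G) P)
  rw [hV, hA] at h1
  rw [Ex_conj (Cfg.P_norm_V S P) hp]
  exact h1

end Cfg

/-! ### (*) -/

section star

/-- If `V = (V ∩ Q) (V ∩ Q')`, `Q`, `Q'` normalise `V` and `g` normalises `Q`, `Q'`, then `⟨V, V^g⟩` is a
2-group. -/
theorem isPGroup_X {V Q Q' : Subgroup G} {g : G} (hV2 : IsPGroup 2 V) (hsup : (V ⊓ Q) ⊔ (V ⊓ Q') = V)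
    (hQ : Q ≤ normalizer (V : Set G)) (hQ' : Q' ≤ normalizer (V : Set G))
    (hgQ : MulAut.conj g • Q = Q) (hgQ' : MulAut.conj g • Q' = Q') : IsPGroup 2 (X V g) := by
  have h1 : MulAut.conj g • ((V ⊓ Q) ⊔ (V ⊓ Q')) ≤ normalizer (V : Set G) := by
    rw [smul_sup]
    refine sup_le (le_trans ?_ hQ) (le_trans ?_ hQ')
    · calc MulAut.conj g • (V ⊓ Q) ≤ MulAut.conj g • Q := conj_le_iff.2 inf_le_right
        _ = Q := hgQ
    · calc MulAut.conj g • (V ⊓ Q') ≤ MulAut.conj g • Q' := conj_le_iff.2 inf_le_right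
        _ = Q' := hgQ'
  rw [hsup] at h1
  refine hV2.to_sup_of_normal_left' ?_ h1
  exact hV2.map _

theorem sup_eq_of_index_two [Finite G] {V A B : Subgroup G} (hA : A ≤ V) (hB : B ≤ V)
    (hA2 : A.relIndex V = 2) (hB2 : B.relIndex V = 2) (hne : A ≠ B) : A ⊔ B = V := by
  have h1 : A ⊔ B ≤ V := sup_le hA hB
  have h2 := relIndex_mul_relIndex A (A ⊔ B) V le_sup_left h1
  rw [hA2] at h2
  have h3 : (A ⊔ B).relIndex V ∣ 2 := ⟨_, by rw [mul_comm]; exact h2.symm⟩
  rcases (Nat.dvd_prime Nat.prime_two).1 h3 with h4 | h4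
  · exact le_antisymm h1 (relIndex_eq_one.1 h4)
  · exfalso
    rw [h4] at h2
    have h5 : A.relIndex (A ⊔ B) = 1 := by omega
    have h6 : A ⊔ B ≤ A := relIndex_eq_one.1 h5
    have h7 : B ≤ A := le_sup_right.trans h6
    apply hne
    have h8 := relIndex_mul_relIndex B A V h7 hA
    rw [hB2, hA2] at h8
    have h9 : B.relIndex A = 1 := by omega
    exact le_antisymm (relIndex_eq_one.1 h9) h7

variable [Finite G] {S : Sylow 2 G} {P : Subgroup G} (h : Cfg S P) {z : G} (hz : Zd S z)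
include h hz

theorem star (hA : (Ex (zl (S : Subgroup G) P) z).relIndex (zl (S : Subgroup G) P) = 2)
    {v g : G} (hF : Fin (zl (S : Subgroup G) P) (Qx z) v g) (hv : v ∈ zl (S : Subgroup G) P)
    (hX : ¬ IsPGroup 2 (X (V1 (zl (S : Subgroup G) P) (Qx z) v) g))
    {p : G} (hp : p ∈ P)
    (hy : p * z * p⁻¹ ∈ (zl (S : Subgroup G) P ⊓ Qx z) ⊓ MulAut.conj g • (zl (S : Subgroup G) P ⊓ Qx z)) :
    Ex (zl (S : Subgroup G) P) (p * z * p⁻¹) = Ex (zl (S : Subgroup G) P) z := by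
  by_contra hne
  have hV1 : V1 (zl (S : Subgroup G) P) (Qx z) v ≤ zl (S : Subgroup G) P := V1_le hv
  have hXle : X (V1 (zl (S : Subgroup G) P) (Qx z) v) g ≤ X (zl (S : Subgroup G) P) g :=
    sup_le_sup hV1 (conj_le_iff.2 hV1)
  have hgy : g * (p * z * p⁻¹) = (p * z * p⁻¹) * g := hF.cent g (hXle hF.fr.gX) _ hy
  apply hX
  refine IsPGroup.to_le ?_ hXle
  have h1 := sup_eq_of_index_two inf_le_left inf_le_left (relIndex_Ex h hz hA hp) hA hne
  refine isPGroup_X h.V_isPGroup h1 ?_ ?_ ?_ hF.fr.gQ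
  · exact (Qx_le_P h hz hp).trans (Cfg.P_norm_V S P)
  · rw [← Q_eq h hz]; exact h.Q_norm_V
  · rw [← Qx_conj, hgy, mul_inv_cancel_right]

end star

end Cfsg.Agent.Omega.NO1.TwoG
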