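import Cfsg.Agent.Omega.NearFF.Dat

/-!
# N1, (BT) with `|V / E| = 2`: the full family (project OMEGA, assembler helper406)

`Gd z f Q x B` : all conditions of `NearFF.Dat` on `B ∈ BB x`; the family of all these `B` is equivariant, so one
good `B` at `z` gives the datum (`dat_of`).
-/

set_option autoImplicit false
set_option linter.unusedSectionVars false

namespace Cfsg.Agent.Omega.NearFF

open Subgroup MulAction Cfsg.Agent.Omega.Transv

variable {Y : Type*} [Group Y] {V : Type*} [AddCommGroup V] [Module (ZMod 2) V] [DistribMulAction Y V]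

/-- `B^g` -/
abbrev cjB (g : Y) (B : Subgroup Y) : Subgroup Y := B.map (MulAut.conj g).toMonoidHom

theorem mem_cjB {g : Y} {B : Subgroup Y} {a : Y} : a ∈ cjB g B ↔ ∃ b ∈ B, g * b * g⁻¹ = a := Iff.rfl

theorem conj_smul_iff {g b : Y} {v : V} : (g * b * g⁻¹) • v = v ↔ b • (g⁻¹ • v) = g⁻¹ • v := by
  rw [mul_smul, mul_smul, ← eq_inv_smul_iff]

theorem fx_cjB {g : Y} {B : Subgroup Y} {v : V} : Fx (cjB g B) v ↔ Fx B (g⁻¹ • v) := by
  constructor
  · intro h b hb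
    exact conj_smul_iff.1 (h _ (mem_cjB.2 ⟨b, hb, rfl⟩))
  · intro h a ha
    obtain ⟨b, hb, rfl⟩ := mem_cjB.1 ha
    exact conj_smul_iff.2 (h b hb)

theorem inv_smul_cm {g b : Y} {v : V} : g⁻¹ • cm (g * b * g⁻¹) v = cm b (g⁻¹ • v) := by
  rw [cm, cm, smul_add, smul_smul, ← mul_smul]
  congr 2
  group

theorem mem_orbit_inv_smul {z w : V} {g : Y} (hw : w ∈ orbit Y z) : g⁻¹ • w ∈ orbit Y z := by
  obtain ⟨h, rfl⟩ := hw
  exact ⟨g⁻¹ * h, mul_smul _ _ _⟩

theorem NB.smul {φ : Du V} {B : Subgroup Y} (h : NB φ B) (g : Y) : NB (dua g φ) (cjB g B) where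
  comm a ha b hb := by
    obtain ⟨a', ha', rfl⟩ := mem_cjB.1 ha
    obtain ⟨b', hb', rfl⟩ := mem_cjB.1 hb
    calc g * a' * g⁻¹ * (g * b' * g⁻¹) = g * (a' * b') * g⁻¹ := by group
      _ = g * (b' * a') * g⁻¹ := by rw [h.comm a' ha' b' hb']
      _ = g * b' * g⁻¹ * (g * a' * g⁻¹) := by group
  sq a ha := by
    obtain ⟨a', ha', rfl⟩ := mem_cjB.1 ha
    calc g * a' * g⁻¹ * (g * a' * g⁻¹) = g * (a' * a') * g⁻¹ := by group
      _ = 1 := by rw [h.sq a' ha']; group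
  ne hb := by
    apply h.ne
    rw [eq_bot_iff]
    intro b hb'
    have h1 : g * b * g⁻¹ ∈ cjB g B := mem_cjB.2 ⟨b, hb', rfl⟩
    rw [hb, mem_bot] at h1
    rw [mem_bot]
    have : b = g⁻¹ * (g * b * g⁻¹) * g := by group
    rw [this, h1]; group
  inv a ha v := by
    obtain ⟨a', ha', rfl⟩ := mem_cjB.1 ha
    rw [dua_apply, dua_apply, smul_smul]
    have e : g⁻¹ * (g * a' * g⁻¹) = a' * g⁻¹ := by group
    rw [e, mul_smul, h.inv a' ha']
  ed e he a ha := by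
    obtain ⟨a', ha', rfl⟩ := mem_cjB.1 ha
    rw [fx_cjB, inv_smul_cm]
    exact h.ed _ he a' ha'
  inj v hv a ha hf := by
    obtain ⟨a', ha', rfl⟩ := mem_cjB.1 ha
    rw [fx_cjB, inv_smul_cm] at hf
    rw [h.inj _ hv a' ha' hf]
    group
  surj v e hv he := by
    obtain ⟨b, hb, hbe⟩ := h.surj _ _ hv he
    refine ⟨_, mem_cjB.2 ⟨b, hb, rfl⟩, ?_⟩
    rw [fx_cjB, smul_add, inv_smul_cm]
    exact hbe

/-- all conditions on `B ∈ BB x` -/
structure Gd (z : V) (f : V → Du V) (Q : V → Subgroup Y) (x : V) (B : Subgroup Y) : Prop where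
  fx : Fx B x
  nb : NB (f x) B
  all : ∀ y ∈ orbit Y z, Fx B y → f y = f x ∧ B ≤ Q y ∧ Q y ≤ normalizer (B : Set Y)

variable {z : V} {f : V → Du V} {Q : V → Subgroup Y}

theorem Gd.star {x : V} {B : Subgroup Y} (h : Gd z f Q x B) {y : V} (hy : y ∈ orbit Y z) (hB : Fx B y) :
    Gd z f Q y B where
  fx := hB
  nb := by rw [(h.all y hy hB).1]; exact h.nb
  all w hw hwB := by
    refine ⟨?_, (h.all w hw hwB).2⟩
    rw [(h.all w hw hwB).1, (h.all y hy hB).1]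

theorem Gd.smul (hf : ∀ (g : Y) (x : V), x ∈ orbit Y z → f (g • x) = dua g (f x))
    (hQ : ∀ (g : Y) (x : V), x ∈ orbit Y z → ∀ a ∈ Q x, g * a * g⁻¹ ∈ Q (g • x))
    {x : V} (hx : x ∈ orbit Y z) {B : Subgroup Y} (h : Gd z f Q x B) (g : Y) : Gd z f Q (g • x) (cjB g B) where
  fx := by rw [fx_cjB, inv_smul_smul]; exact h.fx
  nb := by rw [hf g x hx]; exact h.nb.smul g
  all w hw hwB := by
    rw [fx_cjB] at hwB
    have hw' := mem_orbit_inv_smul (g := g) hw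
    obtain ⟨h1, h2, h3⟩ := h.all _ hw' hwB
    refine ⟨?_, ?_, ?_⟩
    · rw [hf g x hx, ← h1, ← hf g _ hw', smul_inv_smul]
    · intro a ha
      obtain ⟨b, hb, rfl⟩ := mem_cjB.1 ha
      have := hQ g _ hw' b (h2 hb)
      rwa [smul_inv_smul] at this
    · intro a ha
      have ha' : g⁻¹ * a * g ∈ Q (g⁻¹ • w) := by
        have := hQ g⁻¹ w hw a ha
        rwa [inv_inv] at this
      have h4 := mem_normalizer_iff.1 (h3 ha')
      rw [mem_normalizer_iff]
      intro b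
      have key : ∀ c : Y, c ∈ cjB g B ↔ g⁻¹ * c * g ∈ B := by
        intro c
        rw [mem_cjB]
        constructor
        · rintro ⟨b, hb, rfl⟩
          have e : g⁻¹ * (g * b * g⁻¹) * g = b := by group
          rwa [e]
        · intro hc
          exact ⟨_, hc, by group⟩
      rw [key, key]
      have h5 := h4 (g⁻¹ * b * g)
      rw [h5]
      have e : g⁻¹ * a * g * (g⁻¹ * b * g) * (g⁻¹ * a * g)⁻¹ = g⁻¹ * (a * b * a⁻¹) * g := by group
      rw [e]

/-- The datum from one good `B`. -/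
theorem dat_of {T : Sylow 2 Y} {M : Subgroup Y} (faith : Faith Y V) (le : (T : Subgroup Y) ≤ M) (ne : M ≠ ⊤)
    (max : ∀ X : Subgroup Y, (T : Subgroup Y) ≤ X → X ≤ M ∨ X = ⊤) (z_ne : z ≠ 0)
    (z_fix : Fx (T : Subgroup Y) z) (fixT : ∀ v : V, Fx (T : Subgroup Y) v → v = 0 ∨ v = z)
    (span : Submodule.span (ZMod 2) (Set.range fun g : Y => g • z) = ⊤)
    (noff : ∀ A : Subgroup Y, A ≠ ⊥ → (∀ a ∈ A, ∀ b ∈ A, a * b = b * a) → (∀ a ∈ A, a * a = 1) →
      Nat.card A * Nat.card {v : V // Fx A v} < Nat.card V)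
    (f_smul : ∀ (g : Y) (x : V), x ∈ orbit Y z → f (g • x) = dua g (f x)) (f_self : f z z = 0) (f_ne : f z ≠ 0)
    (q_smul : ∀ (g : Y) (x : V), x ∈ orbit Y z → ∀ a ∈ Q x, g * a * g⁻¹ ∈ Q (g • x))
    (q_two : IsPGroup 2 (Q z)) (q_fix : Fx (Q z) z) {B : Subgroup Y} (hB : Gd z f Q z B) :
    Dat T M z f Q fun x => {B | Gd z f Q x B} where
  faith := faith
  le := le
  ne := ne
  max := max
  z_ne := z_ne
  z_fix := z_fix
  fixT := fixT
  span := span
  noff := noff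
  f_smul := f_smul
  f_self := f_self
  f_ne := f_ne
  q_smul := q_smul
  q_two := q_two
  q_fix := q_fix
  bb_smul g _ hx _ hB := Gd.smul f_smul q_smul hx hB g
  bb_ne := ⟨B, hB⟩
  bb_le _ hB := (hB.all z (mem_orbit_self z) hB.fx).2.1
  bb_norm _ hB a ha b hb := (mem_normalizer_iff.1 ((hB.all z (mem_orbit_self z) hB.fx).2.2 ha) b).1 hb
  bb _ hB := hB.nb
  star _ hB x hx hBx := (hB.all x hx hBx).1

end Cfsg.Agent.Omega.NearFF
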