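import Cfsg.Agent.Omega.NO1.Rep
import Cfsg.Agent.Omega.NO1.TwoG
import Cfsg.Agent.Omega.NO1.TwoGood
import Cfsg.Agent.Omega.Node.NO1

/-!
# N1, (BT) with `|V / E| = 2`, `|Z| = 2`: from `Cfg` to `NearFF.Dat` (project OMEGA, assembler helper406)
-/

set_option autoImplicit false
set_option linter.unusedSectionVars false

namespace Cfsg.Agent.Omega.NO1

open Subgroup Cfsg Cfsg.Agent.ZN Cfsg.Agent.Omega.MinPar Cfsg.Agent.Omega.Frame
open Cfsg.Agent.Omega.NoFF.LinesPlug (CC)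
open Cfsg.Agent.Omega.NoFF.Basic (mem_conj conj_le_iff conj_conj)
open Cfsg.Agent.Omega.NOne.Frame (mem_conj' X norm_mem comm_of_le_centralizer)
open Cfsg.Agent.Omega.NOne.NearFF (Fin V1 Near)
open Cfsg.Agent.Omega.FFThm (OffM)
open Cfsg.Agent.Omega.Transv Cfsg.Agent.Omega.NearFF TwoG
open scoped Pointwise

universe u

namespace Rep

variable {G : Type u} [Group G] {S P V : Subgroup G} {Y M : Type u} [Group Y] [AddCommGroup M]
  [DistribMulAction Y M] {T : Sylow 2 Y} {Mx : Subgroup Y} (R : Rep S P V Y M T Mx)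

theorem el_zero : R.el 0 = 1 := by
  have h := R.add 0 0
  rw [add_zero] at h
  exact (mul_eq_left.1 h.symm)

theorem el_eq_one {m : M} : R.el m = 1 ↔ m = 0 := by
  constructor
  · intro h
    exact R.inj (h.trans R.el_zero.symm)
  · rintro rfl
    exact R.el_zero

theorem el_sq (m : M) : R.el m * R.el m = 1 := by rw [← R.add, R.two, R.el_zero]

theorem el_inv (m : M) : (R.el m)⁻¹ = R.el m := inv_eq_of_mul_eq_one_left (R.el_sq m)

theorem ac_eq_one {p : P} : R.ac p = 1 ↔ (p : G) ∈ centralizer (V : Set G) := by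
  rw [mem_centralizer_iff]
  constructor
  · intro h v hv
    obtain ⟨m, rfl⟩ := R.surj v hv
    have h1 := R.smul p m
    rw [h, one_smul] at h1
    calc R.el m * p = (p * R.el m * (p : G)⁻¹) * p := by rw [← h1]
      _ = p * R.el m := by group
  · intro h
    refine R.faith _ fun m => R.inj ?_
    rw [R.smul, ← h _ (R.mem m), mul_inv_cancel_right]

theorem el_cm (p : P) (m : M) : R.el (cm (R.ac p) m) = p * R.el m * (p : G)⁻¹ * R.el m := by
  rw [cm, R.add, R.smul]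

/-- The group induced by `A ∩ P`. -/
def im (A : Subgroup G) : Subgroup Y := (A.subgroupOf P).map R.ac

theorem mem_im {A : Subgroup G} {y : Y} : y ∈ R.im A ↔ ∃ (a : G) (hP : a ∈ P), a ∈ A ∧ R.ac ⟨a, hP⟩ = y := by
  constructor
  · rintro ⟨⟨a, hP⟩, ha, rfl⟩
    exact ⟨a, hP, ha, rfl⟩
  · rintro ⟨a, hP, ha, rfl⟩
    exact ⟨⟨a, hP⟩, ha, rfl⟩

theorem fx_im {A : Subgroup G} (hA : A ≤ P) {m : M} : Fx (R.im A) m ↔ ∀ a ∈ A, a * R.el m = R.el m * a := by
  constructor
  · intro h a ha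
    have h1 := h _ (R.mem_im.2 ⟨a, hA ha, ha, rfl⟩)
    have h2 := R.smul ⟨a, hA ha⟩ m
    rw [h1] at h2
    have h3 : R.el m = a * R.el m * a⁻¹ := h2
    calc a * R.el m = (a * R.el m * a⁻¹) * a := by group
      _ = R.el m * a := by rw [← h3]
  · intro h y hy
    obtain ⟨a, hP, ha, rfl⟩ := R.mem_im.1 hy
    apply R.inj
    rw [R.smul]
    change a * R.el m * a⁻¹ = R.el m
    rw [h a ha, mul_inv_cancel_right]

include R in
theorem card_M : Nat.card M = Nat.card V :=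
  Nat.card_congr (Equiv.ofBijective (fun m => (⟨R.el m, R.mem m⟩ : V))
    ⟨fun a b h => R.inj (congrArg Subtype.val h), fun v => by
      obtain ⟨m, hm⟩ := R.surj v v.2
      exact ⟨m, Subtype.ext hm⟩⟩)

/-- `|A^| |C_A(V)| = |A|` for the image `A^` of `A ≤ P`. -/
theorem card_im [Finite G] {A : Subgroup G} (hA : A ≤ P) :
    Nat.card (R.im A) * Nat.card ↥(A ⊓ centralizer (V : Set G)) = Nat.card A := by
  let φ : A →* Y := R.ac.comp (inclusion hA)
  have h1 : φ.range = R.im A := by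
    ext y
    rw [R.mem_im]
    constructor
    · rintro ⟨a, rfl⟩
      exact ⟨a, hA a.2, a.2, rfl⟩
    · rintro ⟨a, hP, ha, rfl⟩
      exact ⟨⟨a, ha⟩, rfl⟩
  have h2 : φ.ker = (A ⊓ centralizer (V : Set G)).subgroupOf A := by
    ext a
    rw [MonoidHom.mem_ker, mem_subgroupOf, mem_inf]
    have h3 : φ a = 1 ↔ (a : G) ∈ centralizer (V : Set G) := R.ac_eq_one (p := ⟨a, hA a.2⟩)
    rw [h3]
    exact ⟨fun h => ⟨a.2, h⟩, fun h => h.2⟩
  have h3 := φ.ker.card_mul_index
  rw [Subgroup.index_ker, h1, h2] at h3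
  rw [← h3, mul_comm]
  congr 1
  exact (Nat.card_congr (subgroupOfEquivOfLe inf_le_left).toEquiv).symm

variable [Module (ZMod 2) M]

open Classical in
/-- The form with kernel `E`. -/
noncomputable def frm (E : Subgroup G) : Du M :=
  if h : E.relIndex V = 2 then
    { toFun := fun m => if R.el m ∈ E then 0 else 1
      map_add' := fun a b => by
        rw [R.add, idx2 h (R.mem a) (R.mem b)]
        by_cases ha : R.el a ∈ E <;> by_cases hb : R.el b ∈ E <;> simp [ha, hb]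
        exact Transv.one_add_one.symm
      map_smul' := fun c m => by
        rcases zmod_cases c with rfl | rfl
        · simp [R.el_zero]
        · simp }
  else 0

open Classical in
theorem frm_zero {E : Subgroup G} (h : E.relIndex V = 2) {m : M} : R.frm E m = 0 ↔ R.el m ∈ E := by
  rw [frm, dif_pos h]
  change (if R.el m ∈ E then (0 : ZMod 2) else 1) = 0 ↔ _
  by_cases hm : R.el m ∈ E
  · simp [hm]
  · simp [hm]

theorem frm_one {E : Subgroup G} (h : E.relIndex V = 2) {m : M} : R.frm E m = 1 ↔ R.el m ∉ E := by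
  rw [← R.frm_zero h]
  rcases zmod_cases (R.frm E m) with h1 | h1 <;> rw [h1] <;> decide

theorem frm_ext {E E' : Subgroup G} (h : E.relIndex V = 2) (h' : E'.relIndex V = 2) (g : M → M)
    (H : ∀ m, R.el m ∈ E ↔ R.el (g m) ∈ E') (m : M) : R.frm E m = R.frm E' (g m) := by
  rcases zmod_cases (R.frm E' (g m)) with h1 | h1
  · rw [h1, R.frm_zero h, H, ← R.frm_zero h', h1]
  · rw [h1, R.frm_one h, H, ← R.frm_one h', h1]

end Rep

/-! ### The datum -/

section datum

variable {G : Type u} [Group G] [Finite G] {S : Sylow 2 G} {P : Subgroup G} (h : Cfg S P)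
  {Y M : Type u} [Group Y] [Finite Y] [AddCommGroup M] [Finite M] [Module (ZMod 2) M]
  [DistribMulAction Y M] {T : Sylow 2 Y} {Mx : Subgroup Y}
  (R : Rep (S : Subgroup G) P (zl (S : Subgroup G) P) Y M T Mx)
include h R

theorem noff_of (hoff : NoOff (S : Subgroup G) P) (A : Subgroup Y) (hA : A ≠ ⊥)
    (hc : ∀ a ∈ A, ∀ b ∈ A, a * b = b * a) (hs : ∀ a ∈ A, a * a = 1) :
    Nat.card A * Nat.card {v : M // Fx A v} < Nat.card M := by
  by_contra hcon
  rw [not_lt] at hcon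
  set A' : Subgroup G := (A.comap R.ac).map P.subtype with hA'
  have hAP : A' ≤ P := map_subtype_le _
  have hmem : ∀ (a : G) (ha : a ∈ P), a ∈ A' ↔ R.ac ⟨a, ha⟩ ∈ A := by
    intro a ha
    rw [hA']
    constructor
    · rintro ⟨b, hb, rfl⟩
      exact hb
    · intro h1
      exact ⟨⟨a, ha⟩, h1, rfl⟩
  have him : R.im A' = A := by
    ext y
    rw [R.mem_im]
    constructor
    · rintro ⟨a, hP, ha, rfl⟩
      exact (hmem a hP).1 ha
    · intro hy
      obtain ⟨p, rfl⟩ := R.acs y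
      exact ⟨p, p.2, (hmem p p.2).2 hy, rfl⟩
  refine hoff A' hAP ⟨⟨?_, ?_⟩, ?_, ?_⟩
  · intro a ha
    have h1 := hs _ ((hmem a (hAP ha)).1 ha)
    rw [← map_mul] at h1
    have h2 := R.ac_eq_one.1 h1
    rw [pow_two]
    exact h2
  · intro a ha b hb
    have h1 := hc _ ((hmem a (hAP ha)).1 ha) _ ((hmem b (hAP hb)).1 hb)
    have h2 : R.ac (⟨a, hAP ha⟩ * ⟨b, hAP hb⟩ * ⟨a, hAP ha⟩⁻¹ * ⟨b, hAP hb⟩⁻¹) = 1 := by
      rw [map_mul, map_mul, map_mul, h1, map_inv, map_inv]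
      group
    exact R.ac_eq_one.1 h2
  · intro h1
    apply hA
    rw [eq_bot_iff]
    intro y hy
    obtain ⟨p, rfl⟩ := R.acs y
    rw [mem_bot, R.ac_eq_one]
    exact h1 ((hmem p p.2).2 hy)
  · have h1 := R.card_im hAP
    rw [him] at h1
    rw [← R.card_M, ← h1]
    have h2 : Nat.card {v : M // Fx A v} = Nat.card ↥(zl (S : Subgroup G) P ⊓ centralizer (A' : Set G)) := by
      refine Nat.card_congr (Equiv.ofBijective
        (fun m => (⟨R.el m.1, R.mem m.1, ?_⟩ : ↥(zl (S : Subgroup G) P ⊓ centralizer (A' : Set G)))) ⟨?_, ?_⟩)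
      · have h3 : Fx (R.im A') m.1 := by rw [him]; exact m.2
        exact mem_centralizer_iff.2 fun a ha => (R.fx_im hAP).1 h3 a ha
      · intro a b hab
        exact Subtype.ext (R.inj (Subtype.ext_iff.1 hab))
      · rintro ⟨v, hv, hvA⟩
        obtain ⟨m, rfl⟩ := R.surj v hv
        refine ⟨⟨m, ?_⟩, rfl⟩
        rw [← him, R.fx_im hAP]
        exact fun a ha => mem_centralizer_iff.1 hvA a ha
    rw [← h2]
    calc Nat.card M * Nat.card ↥(A' ⊓ centralizer (zl (S : Subgroup G) P : Set G))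
        ≤ (Nat.card A * Nat.card {v : M // Fx A v}) *
          Nat.card ↥(A' ⊓ centralizer (zl (S : Subgroup G) P : Set G)) := Nat.mul_le_mul_right _ hcon
      _ = Nat.card A * Nat.card ↥(A' ⊓ centralizer (zl (S : Subgroup G) P : Set G)) *
          Nat.card {v : M // Fx A v} := by ring

theorem span_of {z : G} (hz : Zd S z) {m : M} (hm : R.el m = z) :
    Submodule.span (ZMod 2) (Set.range fun g : Y => g • m) = ⊤ := by
  rw [eq_top_iff]
  intro v _
  set W := Submodule.span (ZMod 2) (Set.range fun g : Y => g • m) with hW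
  let K : Subgroup G :=
    { carrier := {x | ∃ w ∈ W, R.el w = x}
      one_mem' := ⟨0, W.zero_mem, R.el_zero⟩
      mul_mem' := by
        rintro _ _ ⟨a, ha, rfl⟩ ⟨b, hb, rfl⟩
        exact ⟨a + b, W.add_mem ha hb, R.add a b⟩
      inv_mem' := by
        rintro _ ⟨a, ha, rfl⟩
        exact ⟨a, ha, (R.el_inv a).symm⟩ }
  have h1 : zl (S : Subgroup G) P ≤ K := by
    refine FFBr.zl_le_of fun p hp x hx => ?_
    rcases hz.eq x hx with rfl | rfl
    · rw [mul_one, mul_inv_cancel]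
      exact K.one_mem
    · refine ⟨R.ac ⟨p, hp⟩ • m, Submodule.subset_span ⟨_, rfl⟩, ?_⟩
      rw [R.smul, hm]
  obtain ⟨w, hw, hwv⟩ := h1 (R.mem v)
  rw [← R.inj hwv]
  exact hw

/-- The forms `f x`, `x ∈ V`. -/
noncomputable abbrev ff (x : M) : Du M := R.frm (Ex (zl (S : Subgroup G) P) (R.el x))

/-- The groups `Q x`. -/
abbrev QQ (x : M) : Subgroup Y := R.im (Qx (R.el x))

theorem QQ_smul (g : Y) (x : M) : ∀ a ∈ QQ R x, g * a * g⁻¹ ∈ QQ R (g • x) := by
  intro a ha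
  obtain ⟨p, rfl⟩ := R.acs g
  obtain ⟨b, hP, hb, rfl⟩ := R.mem_im.1 ha
  refine R.mem_im.2 ⟨p * b * (p : G)⁻¹, mul_mem (mul_mem p.2 hP) (inv_mem p.2), ?_, ?_⟩
  · rw [R.smul, Qx_conj, mem_conj]
    have e : (p : G)⁻¹ * (p * b * (p : G)⁻¹) * p = b := by group
    rw [e]
    exact hb
  · rw [← map_inv, ← map_mul, ← map_mul]
    rfl

variable {z : G} (hz : Zd S z) {m : M} (hm : R.el m = z)
  (hA : (Ex (zl (S : Subgroup G) P) z).relIndex (zl (S : Subgroup G) P) = 2)
include hz hm hA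

theorem el_orbit {x : M} (hx : x ∈ MulAction.orbit Y m) : ∃ p ∈ P, R.el x = p * z * p⁻¹ := by
  obtain ⟨g, rfl⟩ := hx
  obtain ⟨p, rfl⟩ := R.acs g
  refine ⟨p, p.2, ?_⟩
  change R.el (R.ac p • m) = _
  rw [R.smul, hm]

theorem relIndex_orbit {x : M} (hx : x ∈ MulAction.orbit Y m) :
    (Ex (zl (S : Subgroup G) P) (R.el x)).relIndex (zl (S : Subgroup G) P) = 2 := by
  obtain ⟨p, hp, h1⟩ := el_orbit h R hz hm hA hx
  rw [h1]
  exact relIndex_Ex h hz hA hp

theorem ff_smul (g : Y) (x : M) (hx : x ∈ MulAction.orbit Y m) : ff R (g • x) = dua g (ff R x) := by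
  have h1 := relIndex_orbit h R hz hm hA hx
  have hx' : g • x ∈ MulAction.orbit Y m := by
    obtain ⟨k, rfl⟩ := hx
    exact ⟨g * k, mul_smul _ _ _⟩
  have h2 := relIndex_orbit h R hz hm hA hx'
  refine LinearMap.ext fun v => ?_
  rw [dua_apply]
  refine R.frm_ext h2 h1 (fun v => g⁻¹ • v) (fun v => ?_) v
  obtain ⟨p, rfl⟩ := R.acs g
  rw [R.smul, Ex_conj (Cfg.P_norm_V S P) p.2, mem_conj, ← map_inv, R.smul]
  rw [coe_inv, inv_inv]

omit hz hm hA in
/-- `C_V(F) = D` -/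
theorem fix_eq (hoff : NoOff (S : Subgroup G) P) {E D F : Subgroup G} {v : G}
    (N : Near (zl (S : Subgroup G) P) E D F v) (hFP : F ≤ P) (hne : D ≠ E)
    (hcard : Nat.card F = Nat.card E) (hE2 : E.relIndex (zl (S : Subgroup G) P) = 2) :
    R.im F ≠ ⊥ ∧ ∀ w : M, Fx (R.im F) w → R.el w ∈ D := by
  have hB : R.im F ≠ ⊥ := by
    intro hb
    have h1 : F ≤ centralizer (zl (S : Subgroup G) P : Set G) := by
      intro f hf
      have h2 : R.ac ⟨f, hFP hf⟩ ∈ R.im F := R.mem_im.2 ⟨f, hFP hf, hf, rfl⟩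
      rw [hb, mem_bot, R.ac_eq_one] at h2
      exact h2
    have h2 : F = D := by
      have h3 := N.F_inf_cent
      rwa [inf_eq_left.2 h1] at h3
    have h3 : D.relIndex E = 1 := by
      rw [← N.card, ← h2, relIndex_self]
    exact hne (le_antisymm N.DE (relIndex_eq_one.1 h3))
  refine ⟨hB, ?_⟩
  have h1 := noff_of h R hoff (R.im F) hB ?_ ?_
  · -- the count
    have h2 := R.card_im hFP
    rw [N.F_inf_cent, hcard] at h2
    have h3 : Nat.card M = 2 * Nat.card E := by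
      have h4 := relIndex_mul_relIndex ⊥ E (zl (S : Subgroup G) P) bot_le N.EV
      rw [relIndex_bot_left, relIndex_bot_left, hE2] at h4
      rw [R.card_M, ← h4, mul_comm]
    rw [h3, ← h2] at h1
    set C : Subgroup G := zl (S : Subgroup G) P ⊓ centralizer (F : Set G) with hC
    have h4 : Nat.card {v : M // Fx (R.im F) v} = Nat.card C := by
      refine Nat.card_congr (Equiv.ofBijective (fun m => (⟨R.el m.1, R.mem m.1, ?_⟩ : C)) ⟨?_, ?_⟩)
      · exact mem_centralizer_iff.2 fun a ha => (R.fx_im hFP).1 m.2 a ha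
      · intro a b hab
        exact Subtype.ext (R.inj (Subtype.ext_iff.1 hab))
      · rintro ⟨v, hv, hvA⟩
        obtain ⟨m, rfl⟩ := R.surj v hv
        exact ⟨⟨m, (R.fx_im hFP).2 fun a ha => mem_centralizer_iff.1 hvA a ha⟩, rfl⟩
    have hDC : D ≤ C := le_inf (N.DE.trans N.EV) fun d hd =>
      mem_centralizer_iff.2 fun f hf => (N.Dcent hd hf).symm
    have h5 := relIndex_mul_relIndex ⊥ D C bot_le hDC
    rw [relIndex_bot_left, relIndex_bot_left] at h5
    rw [h4, ← h5] at h1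
    have h6 : 0 < Nat.card (R.im F) := Nat.card_pos
    have h7 : 0 < Nat.card D := Nat.card_pos
    have h8 : D.relIndex C < 2 := by
      by_contra h9
      rw [not_lt] at h9
      have : 2 * (Nat.card (R.im F) * Nat.card D) ≤ Nat.card (R.im F) * (Nat.card D * D.relIndex C) := by
        calc 2 * (Nat.card (R.im F) * Nat.card D) = Nat.card (R.im F) * (Nat.card D * 2) := by ring
          _ ≤ _ := Nat.mul_le_mul_left _ (Nat.mul_le_mul_left _ h9)
      omega
    have h9 : D.relIndex C ≠ 0 := by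
      intro h9
      rw [h9, mul_zero] at h5
      have : 0 < Nat.card C := Nat.card_pos
      omega
    have h10 : D.relIndex C = 1 := by omega
    intro w hw
    exact relIndex_eq_one.1 h10 ⟨R.mem w, mem_centralizer_iff.2 fun a ha => (R.fx_im hFP).1 hw a ha⟩
  · intro a ha b hb
    obtain ⟨a', hP, ha', rfl⟩ := R.mem_im.1 ha
    obtain ⟨b', hP', hb', rfl⟩ := R.mem_im.1 hb
    rw [← map_mul, ← map_mul]
    congr 1
    exact Subtype.ext (comm_of_le_centralizer N.Fcomm ha' hb')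
  · intro a ha
    obtain ⟨a', hP, ha', rfl⟩ := R.mem_im.1 ha
    rw [← map_mul]
    have h2 : (⟨a', hP⟩ : P) * ⟨a', hP⟩ = 1 := Subtype.ext (by
      have := N.Fsq a' ha'
      rwa [pow_two] at this)
    rw [h2, map_one]

omit hz hm hA in
/-- `NB` from `Near`. -/
theorem nb_of {E D F : Subgroup G} {v : G} (N : Near (zl (S : Subgroup G) P) E D F v) (hv : v ∉ E) (hFP : F ≤ P)
    (hE2 : E.relIndex (zl (S : Subgroup G) P) = 2) (hB : R.im F ≠ ⊥)
    (hfix : ∀ w : M, Fx (R.im F) w → R.el w ∈ D) : NB (R.frm E) (R.im F) := by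
  have hDfx : ∀ w : M, R.el w ∈ D → Fx (R.im F) w := fun w hw =>
    (R.fx_im hFP).2 fun a ha => (N.Dcent hw ha).symm
  -- every `w ∉ E` is `v e`
  have hve : ∀ w : M, R.frm E w = 1 → ∃ e ∈ E, R.el w = v * e := by
    intro w hw
    rw [R.frm_one hE2] at hw
    refine ⟨v⁻¹ * R.el w, ?_, by group⟩
    rw [idx2 hE2 (inv_mem N.vV) (R.mem w)]
    exact ⟨fun h1 => absurd (inv_mem_iff.1 h1) hv, fun h1 => absurd h1 hw⟩
  have hcm : ∀ (f : G) (hf : f ∈ F) (w : M),
      R.el (cm (R.ac ⟨f, hFP hf⟩) w) = NOne.NearFF.c (R.el w) f := by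
    intro f hf w
    rw [R.el_cm]
    have h1 := N.c_memV (R.mem w) hf
    have h2 := N.inv_V h1
    calc f * R.el w * f⁻¹ * R.el w = f * R.el w * f⁻¹ * (R.el w)⁻¹ := by rw [R.el_inv]
      _ = (NOne.NearFF.c (R.el w) f)⁻¹ := by rw [NOne.NearFF.c_def]; group
      _ = NOne.NearFF.c (R.el w) f := h2
  refine ⟨?_, ?_, hB, ?_, ?_, ?_, ?_⟩
  · intro a ha b hb
    obtain ⟨a', hP, ha', rfl⟩ := R.mem_im.1 ha
    obtain ⟨b', hP', hb', rfl⟩ := R.mem_im.1 hb
    rw [← map_mul, ← map_mul]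
    congr 1
    exact Subtype.ext (comm_of_le_centralizer N.Fcomm ha' hb')
  · intro a ha
    obtain ⟨a', hP, ha', rfl⟩ := R.mem_im.1 ha
    rw [← map_mul]
    have h2 : (⟨a', hP⟩ : P) * ⟨a', hP⟩ = 1 := Subtype.ext (by
      have := N.Fsq a' ha'
      rwa [pow_two] at this)
    rw [h2, map_one]
  · intro a ha w
    obtain ⟨f, hP, hf, rfl⟩ := R.mem_im.1 ha
    refine (R.frm_ext hE2 hE2 (fun w => R.ac ⟨f, hP⟩ • w) (fun w => ?_) w).symm
    have h1 := N.F_norm_E hf
    rw [R.smul]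
    exact mem_normalizer_iff.1 h1 (R.el w)
  · intro e he b hb
    obtain ⟨f, hP, hf, rfl⟩ := R.mem_im.1 hb
    rw [R.frm_zero hE2] at he
    apply hDfx
    rw [hcm f hf]
    exact N.c_memD he hf
  · intro w hw b hb hfx
    obtain ⟨f, hP, hf, rfl⟩ := R.mem_im.1 hb
    have h1 := hfix _ hfx
    rw [hcm f hf] at h1
    obtain ⟨e, he, hwe⟩ := hve w hw
    rw [hwe] at h1
    have h2 := (N.mul_right he).inj f hf h1
    rw [R.ac_eq_one]
    exact N.Vcomm (N.DV h2)
  · intro w e hw he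
    rw [R.frm_zero hE2] at he
    obtain ⟨e', he', hwe⟩ := hve w hw
    obtain ⟨f, hf, h1⟩ := (N.mul_right he').surj he
    refine ⟨_, R.mem_im.2 ⟨f, hFP hf, hf, rfl⟩, ?_⟩
    apply hDfx
    rw [R.add, hcm f hf, hwe]
    rwa [R.el_inv] at h1

/-- **The good `B`.** -/
theorem exists_gd (hoff : NoOff (S : Subgroup G) P) :
    ∃ B : Subgroup Y, Gd m (ff R) (QQ R) m B := by
  obtain ⟨v, hv, hvQ⟩ := h.exists_v
  obtain ⟨g, hg, hF, hX, -⟩ := h.exists_near hv hvQ
  rw [Q_eq h hz] at hvQ hF hX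
  rw [hz.CC, mem_centralizer_singleton_iff] at hg
  have hgQ : MulAut.conj g • Qx z = Qx z := hF.fr.gQ
  have hQP : Qx z ≤ P := by
    have := Qx_le_P h hz (one_mem P)
    rwa [one_mul, inv_one, mul_one] at this
  have hFQ : MulAut.conj g • (zl (S : Subgroup G) P ⊓ Qx z) ≤ Qx z := by
    calc MulAut.conj g • (zl (S : Subgroup G) P ⊓ Qx z) ≤ MulAut.conj g • Qx z := conj_le_iff.2 inf_le_right
      _ = Qx z := hgQ
  have hcard : Nat.card ↥(MulAut.conj g • (zl (S : Subgroup G) P ⊓ Qx z)) =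
      Nat.card ↥(zl (S : Subgroup G) P ⊓ Qx z) :=
    Nat.card_congr (equivSMul (MulAut.conj g) _).symm.toEquiv
  have hvE : v ∉ zl (S : Subgroup G) P ⊓ Qx z := fun h1 => hvQ h1.2
  obtain ⟨hB, hfix⟩ := fix_eq h R hoff hF.near (hFQ.trans hQP) hF.ne hcard hA
  have hnb := nb_of h R hF.near hvE (hFQ.trans hQP) hA hB hfix
  have hff : ff R m = R.frm (zl (S : Subgroup G) P ⊓ Qx z) := by rw [ff, hm]
  refine ⟨R.im (MulAut.conj g • (zl (S : Subgroup G) P ⊓ Qx z)), ?_, ?_, ?_⟩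
  · refine (R.fx_im (hFQ.trans hQP)).2 fun a ha => ?_
    rw [hm]
    exact mem_centralizer_singleton_iff.1 (o2_le _ (hFQ ha))
  · rw [hff]; exact hnb
  · intro y hy hyB
    obtain ⟨p, hp, hy1⟩ := el_orbit h R hz hm hA hy
    have hyD := hfix y hyB
    have hst : Ex (zl (S : Subgroup G) P) (R.el y) = Ex (zl (S : Subgroup G) P) z := by
      rw [hy1]
      refine star h hz hA hF hv hX hp ?_
      rw [← hy1]; exact hyD
    have hgX : g ∈ zl (S : Subgroup G) P ⊔ MulAut.conj g • zl (S : Subgroup G) P :=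
      sup_le_sup (NOne.NearFF.V1_le hv) (conj_le_iff.2 (NOne.NearFF.V1_le hv)) hF.fr.gX
    have hgy : g * R.el y = R.el y * g := hF.cent g hgX _ hyD
    have hgQy : MulAut.conj g • Qx (R.el y) = Qx (R.el y) := by
      rw [← Qx_conj, hgy, mul_inv_cancel_right]
    have hQyP : Qx (R.el y) ≤ P := by rw [hy1]; exact Qx_le_P h hz hp
    have hFy : MulAut.conj g • (zl (S : Subgroup G) P ⊓ Qx z) =
        MulAut.conj g • zl (S : Subgroup G) P ⊓ Qx (R.el y) := by
      have h1 : zl (S : Subgroup G) P ⊓ Qx z = zl (S : Subgroup G) P ⊓ Qx (R.el y) := hst.symm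
      rw [h1, smul_inf, hgQy]
    refine ⟨?_, ?_, ?_⟩
    · rw [hff, ff]
      exact congrArg R.frm hst
    · exact map_mono (comap_mono (hFy.trans_le inf_le_right))
    · intro a ha
      obtain ⟨q, hP, hq, rfl⟩ := R.mem_im.1 ha
      -- `q` normalises `F`
      have hqV : q ∈ normalizer ((MulAut.conj g • zl (S : Subgroup G) P : Subgroup G) : Set G) := by
        have h1 : q ∈ MulAut.conj g • Qx (R.el y) := by rw [hgQy]; exact hq
        rw [mem_conj] at h1
        have h2 := Cfg.P_norm_V S P (hQyP h1)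
        rw [mem_normalizer_iff] at h2 ⊢
        intro x
        rw [mem_conj, mem_conj, h2]
        have e : g⁻¹ * q * g * (g⁻¹ * x * g) * (g⁻¹ * q * g)⁻¹ = g⁻¹ * (q * x * q⁻¹) * g := by group
        rw [e]
      have hqQ : q ∈ normalizer ((Qx (R.el y) : Subgroup G) : Set G) := le_normalizer hq
      have hqF : q ∈ normalizer ((MulAut.conj g • (zl (S : Subgroup G) P ⊓ Qx z) : Subgroup G) : Set G) := by
        rw [hFy]
        rw [mem_normalizer_iff] at hqV hqQ ⊢
        intro x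
        rw [mem_inf, mem_inf, hqV, hqQ]
      have key : ∀ b ∈ R.im (MulAut.conj g • (zl (S : Subgroup G) P ⊓ Qx z)), ∀ (q' : G) (hq' : q' ∈ P),
          q' ∈ normalizer ((MulAut.conj g • (zl (S : Subgroup G) P ⊓ Qx z) : Subgroup G) : Set G) →
          R.ac ⟨q', hq'⟩ * b * (R.ac ⟨q', hq'⟩)⁻¹ ∈ R.im (MulAut.conj g • (zl (S : Subgroup G) P ⊓ Qx z)) := by
        intro b hb q' hq' hn
        obtain ⟨f, hfP, hf, rfl⟩ := R.mem_im.1 hb
        refine R.mem_im.2 ⟨q' * f * q'⁻¹, mul_mem (mul_mem hq' hfP) (inv_mem hq'),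
          (mem_normalizer_iff.1 hn f).1 hf, ?_⟩
        rw [← map_inv, ← map_mul, ← map_mul]
        rfl
      rw [mem_normalizer_iff]
      intro b
      constructor
      · intro hb
        exact key b hb q hP hqF
      · intro hb
        have h1 := key _ hb q⁻¹ (inv_mem hP) (inv_mem hqF)
        have h2 : R.ac ⟨q⁻¹, inv_mem hP⟩ = (R.ac ⟨q, hP⟩)⁻¹ := by
          rw [← map_inv]; rfl
        rw [h2] at h1
        have e : (R.ac ⟨q, hP⟩)⁻¹ * (R.ac ⟨q, hP⟩ * b * (R.ac ⟨q, hP⟩)⁻¹) * (R.ac ⟨q, hP⟩)⁻¹⁻¹ = b := by group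
        rwa [e] at h1

/-- **The bridge**: the datum of (BT), `|V/E| = 2`, `|Z| = 2`. -/
theorem exists_dat (hoff : NoOff (S : Subgroup G) P) :
    ∃ BB : M → Set (Subgroup Y), Dat T Mx m (ff R) (QQ R) BB := by
  obtain ⟨B, hB⟩ := exists_gd h R hz hm hA hoff
  have hZ1 : z ∈ zl (S : Subgroup G) P := h.Z_le_V hz.mem
  refine ⟨_, dat_of (f := ff R) (Q := QQ R) R.faith R.TM R.Mne ?_ ?_ ?_ ?_ (span_of h R hz hm) (noff_of h R hoff)
    (ff_smul h R hz hm hA) ?_ ?_ (fun g x _ => QQ_smul h R g x) ?_ ?_ hB⟩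
  · intro K hK
    by_cases h1 : K = ⊤
    · exact Or.inr h1
    · exact Or.inl (R.max K hK h1)
  · rintro rfl
    exact hz.ne (hm.symm.trans R.el_zero)
  · intro t ht
    obtain ⟨s, hs, rfl⟩ := (R.mem_T t).1 ht
    apply R.inj
    rw [R.smul, hm]
    have h1 := (MinSimple.VModule.mem_zc.1 hz.mem).2.1 _ hs
    rw [h1, mul_inv_cancel_right]
  · intro w hw
    have h1 : R.el w ∈ zc (S : Subgroup G) := by
      refine MinSimple.VModule.mem_zc.2 ⟨h.V_le_S (R.mem w), fun s hs => ?_, h.V_sq _ (R.mem w)⟩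
      have h2 := hw _ ((R.mem_T _).2 ⟨⟨s, h.S_le hs⟩, hs, rfl⟩)
      have h3 := R.smul ⟨s, h.S_le hs⟩ w
      rw [h2] at h3
      have h4 : R.el w = s * R.el w * s⁻¹ := h3
      calc s * R.el w = (s * R.el w * s⁻¹) * s := by group
        _ = R.el w * s := by rw [← h4]
    rcases hz.eq _ h1 with h2 | h2
    · exact Or.inl (R.el_eq_one.1 h2)
    · exact Or.inr (R.inj (h2.trans hm.symm))
  · change ff R m m = 0
    rw [ff, R.frm_zero (by rw [hm]; exact hA), hm]
    exact ⟨hZ1, by rw [← Q_eq h hz]; exact h.Z_le_Q hz.mem⟩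
  · intro h1
    obtain ⟨v, hv, hvQ⟩ := h.exists_v
    obtain ⟨w, rfl⟩ := R.surj v hv
    have h2 : ff R m w = 0 := by rw [h1]; rfl
    rw [ff, R.frm_zero (by rw [hm]; exact hA), hm] at h2
    exact hvQ (by rw [Q_eq h hz]; exact h2.2)
  · have h1 : IsPGroup 2 (Qx (R.el m)) := by
      rw [hm, ← Q_eq h hz]
      exact S.isPGroup'.to_le h.Q_le_S
    exact (h1.comap_subtype (K := P)).map _
  · intro a ha
    obtain ⟨q, hP, hq, rfl⟩ := R.mem_im.1 ha
    apply R.inj
    rw [R.smul]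
    have h1 := mem_centralizer_singleton_iff.1 (o2_le _ hq)
    change q * R.el m * q⁻¹ = R.el m
    rw [h1, mul_inv_cancel_right]

end datum

end Cfsg.Agent.Omega.NO1
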