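import Cfsg.Agent.Omega.NO1.JMin
import Cfsg.Agent.Omega.NO1.BestOff
import Cfsg.Agent.Omega.NOne.Flat.Conj
import Cfsg.Agent.Omega.NOne.Flat.Off
import Cfsg.Agent.Omega.NOne.LemmaT
import Cfsg.Agent.Omega.NO3b.EZeroPair

/-!
# TEXT B4 #15506: LEMMA J (ii'), step (10) BACK TO P

`exists_flat` : there is `M` with `Inv S P M` (so `O₂(C_G(D)) ≤ M` for `D ≤ V = ⟨Z^M⟩`), no offender on `V`
(module form), and, if `V` has bad subgroups at all, a maximal bad subgroup `F` of `V` (`Flat.Hyp V F`) with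
`W_F ≤ S`, `W_F ≰ O₂(P)`.
-/

set_option autoImplicit false
set_option linter.unusedSectionVars false

namespace Cfsg.Agent.Omega.NO1.JMin

open Subgroup Cfsg Cfsg.Agent.ZN Cfsg.Agent.ZN.ChoiceBase Cfsg.Agent.Omega.MinPar Cfsg.Agent.Omega.Frame
open Cfsg.Agent.Omega.NO1 Cfsg.Agent.Omega.NO1.BestOff
open Cfsg.Agent.ZN.ChoiceSit (Syl syl_conj exists_syl o2_le_syl)
open Cfsg.Agent.Omega.FFThm (OffM ElemM)
open Cfsg.Agent.PLocal.ThompsonJ (isElementaryAbelian_iff)
open Cfsg.Agent.Omega.NOne.Flat (Hyp Bad WW)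
open Cfsg.Agent.MinSimple.VModule (oddGen)
open scoped Pointwise

universe u

variable {G : Type u} [Group G] [Finite G]

section off

theorem oddGen_le_of {V A : Subgroup G} (h : ElemM V A) : oddGen A ≤ centralizer (V : Set G) := by
  rw [MinSimple.VModule.oddGen_def, closure_le]
  rintro a ⟨ha, ho⟩
  obtain ⟨k, hk⟩ := ho
  have h1 : a ^ (2 * (k + 1)) = a := by
    have h2 : a ^ (2 * k + 1) = 1 := by rw [← hk]; exact pow_orderOf_eq_one a
    calc a ^ (2 * (k + 1)) = a ^ (2 * k + 1) * a := by rw [← pow_succ]; congr 1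
      _ = a := by rw [h2, one_mul]
  have h3 : a ^ (2 * (k + 1)) ∈ centralizer (V : Set G) := by
    rw [pow_mul]
    exact pow_mem (h.sq a ha) _
  rwa [h1] at h3

/-- An offender contains a 2-subgroup which is an offender. -/
theorem exists_two {V A : Subgroup G} (h : OffM V A) : ∃ B : Subgroup G, B ≤ A ∧ IsPGroup 2 B ∧ OffM V B := by
  obtain ⟨B, hB⟩ := exists_syl_of A
  have h1 : oddGen A ⊔ B = A := Cfsg.Agent.Omega.NO3b.EZero.oddGen_sup_syl hB
  have h2 := oddGen_le_of h.toElemM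
  have hBA : B ≤ A := hB.1
  -- `A = C_A(V) B`
  set K : Subgroup G := A ⊓ centralizer (V : Set G) with hK
  have hKB : K ⊔ B = A := by
    refine le_antisymm (sup_le inf_le_left hBA) ?_
    rw [← h1]
    exact sup_le ((le_inf (MinSimple.VModule.oddGen_le A) h2).trans le_sup_left) le_sup_right
  have hn : B ≤ normalizer (K : Set G) := by
    intro b hb
    refine mem_normalizer_of_cj_le ?_
    intro x hx
    rw [mem_cj] at hx
    have hb' := hBA hb
    have hxA : x ∈ A := by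
      have := mul_mem (mul_mem hb' hx.1) (inv_mem hb')
      have e : b * (b⁻¹ * x * b) * b⁻¹ = x := by group
      rwa [e] at this
    refine ⟨hxA, ?_⟩
    have h3 := h.comm b hb' _ hx.1
    have h4 := mul_mem h3 hx.2
    have e : b * (b⁻¹ * x * b) * b⁻¹ * (b⁻¹ * x * b)⁻¹ * (b⁻¹ * x * b) = x := by group
    rwa [e] at h4
  have hcard := Cfsg.Agent.Omega.NOne.Flat.Off.card_sup_mul_inf hn
  rw [sup_comm, hKB] at hcard
  have hBK : B ⊓ K = B ⊓ centralizer (V : Set G) := by
    rw [hK, ← inf_assoc, inf_eq_left.2 hBA]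
  rw [hBK] at hcard
  have hCV : V ⊓ centralizer (B : Set G) ≤ V ⊓ centralizer (A : Set G) := by
    intro v hv
    refine ⟨hv.1, ?_⟩
    have h3 : A ≤ centralizer ({v} : Set G) := by
      rw [← h1]
      refine sup_le ?_ ?_
      · intro a ha
        exact mem_centralizer_singleton_iff.2 (mem_centralizer_iff.1 (h2 ha) v hv.1).symm
      · intro b hb
        exact mem_centralizer_singleton_iff.2 (mem_centralizer_iff.1 hv.2 b hb)
    exact mem_centralizer_iff.2 fun a ha => mem_centralizer_singleton_iff.1 (h3 ha)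
  refine ⟨B, hBA, hB.2.1, { toElemM := ElemM.mono h.toElemM hBA, ne := ?_, le := ?_ }⟩
  · intro h3
    refine h.ne ?_
    rw [← h1]
    exact sup_le h2 h3
  · have h3 := h.le
    have h4 : Nat.card ↥(V ⊓ centralizer (A : Set G)) ≤ Nat.card ↥(V ⊓ centralizer (B : Set G)) :=
      Subgroup.card_le_of_le (inf_le_inf_left V (centralizer_le hBA))
    have hKpos : 0 < Nat.card K := Nat.card_pos
    -- `|V| |K| ≤ |A| |C_V(B)|`, `|A| |B ∩ C(V)| = |B| |K|`
    have h5 : Nat.card V * Nat.card K ≤ Nat.card A * Nat.card ↥(V ⊓ centralizer (B : Set G)) :=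
      h3.trans (Nat.mul_le_mul_left _ h4)
    refine Nat.le_of_mul_le_mul_right ?_ hKpos
    calc Nat.card V * Nat.card ↥(B ⊓ centralizer (V : Set G)) * Nat.card K
        = (Nat.card V * Nat.card K) * Nat.card ↥(B ⊓ centralizer (V : Set G)) := by ring
      _ ≤ (Nat.card A * Nat.card ↥(V ⊓ centralizer (B : Set G))) *
          Nat.card ↥(B ⊓ centralizer (V : Set G)) := Nat.mul_le_mul_right _ h5
      _ = (Nat.card A * Nat.card ↥(B ⊓ centralizer (V : Set G))) *
          Nat.card ↥(V ⊓ centralizer (B : Set G)) := by ring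
      _ = _ := by rw [hcard]; ring

end off

section main

variable {S : Sylow 2 G} {P : Subgroup G}

theorem cj_eq_smul (m : G) (X : Subgroup G) : cj m X = MulAut.conj m • X := rfl

/-- **LEMMA J** with (ii'), and (10) BACK TO P. -/
theorem exists_flat (hG : IsCharacteristicTwoType G) (hP : IsParS (S : Subgroup G) P)
    (hoff : NoOff (S : Subgroup G) P) :
    ∃ M : Subgroup G, Inv (S : Subgroup G) P M ∧
      (∀ A : Subgroup G, A ≤ normalizer (zl (S : Subgroup G) M : Set G) → ¬ OffM (zl (S : Subgroup G) M) A) ∧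
      ((∃ F, Bad (zl (S : Subgroup G) M) F) → ∃ F, Hyp (zl (S : Subgroup G) M) F ∧
        WW (zl (S : Subgroup G) M) F ≤ S ∧ ¬ WW (zl (S : Subgroup G) M) F ≤ o2 P) := by
  obtain ⟨M, hM, hmin⟩ := exists_min' hG hP hoff
  set V : Subgroup G := zl (S : Subgroup G) M with hV
  have hMN : M ≤ normalizer (V : Set G) := MinSimple.VModule.le_normalizer_zl _ _
  have hVP : zl (S : Subgroup G) P ≤ V := zl_mono hM.PM
  have hSN : Syl (S : Subgroup G) (normalizer (V : Set G)) :=
    ⟨hM.SM.trans hMN, S.isPGroup', fun Q _ hQ hSQ => S.is_maximal' hQ hSQ⟩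
  -- no offender on `V`
  have hno : ∀ A : Subgroup G, A ≤ normalizer (V : Set G) → ¬ OffM V A := by
    intro A hA hoA
    obtain ⟨B, hBA, hB2, hoB⟩ := exists_two hoA
    obtain ⟨X, hXB, hX, hXV⟩ := exists_best hoB
    have hXN : X ≤ normalizer (V : Set G) := hXB.trans (hBA.trans hA)
    obtain ⟨R, hR, hXR⟩ := exists_syl (hB2.to_le hXB) hXN
    obtain ⟨n, hn, hn'⟩ := syl_conj hR hSN
    have hnV : cj n V = V := cj_eq_of_mem_normalizer hn
    obtain ⟨Y, hY, hYS, hYP⟩ := hmin {X | Best V X} (fun m hm X hX => hX.conj (hMN hm))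
      ⟨cj n X, hX.conj hn, by rw [← hn']; exact cj_mono n hXR, fun h => hXV (by
        have h1 : cj n X ≤ centralizer ((cj n V : Subgroup G) : Set G) := by rw [hnV]; exact h
        rw [← cj_centralizer] at h1
        have h2 := cj_mono n⁻¹ h1
        rwa [cj_inv_cj, cj_inv_cj] at h2)⟩
    have h1 : ¬ Y ≤ centralizer (zl (S : Subgroup G) P : Set G) := by
      intro h1
      apply hYP
      rw [← hP.inf_centralizer S hG]
      exact le_inf hYS h1
    exact hoff Y (hYS.trans hP.isLoc.le) (Best.offM hY hVP h1)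
  refine ⟨M, hM, hno, ?_⟩
  rintro ⟨F₀, hF₀⟩
  have hVe := isElementaryAbelian_iff.1 hM.el
  have hVcomm : V ≤ centralizer (V : Set G) := fun a ha => mem_centralizer_iff.2 fun b hb => hVe.1 b hb a ha
  have hsyl : ∀ D : Subgroup G, D ≠ ⊥ → D ≤ V → o2 (centralizer (D : Set G)) ≤ normalizer (V : Set G) :=
    fun D _ hD => (hM.o2_le hD).trans hMN
  have hVS : V ≤ S := by
    -- `V ≤ O₂(M)`: `V` is a normal 2-subgroup of `M ≥ S`
    have h1 : IsPGroup 2 V := fun v => ⟨1, Subtype.ext (by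
      rw [pow_one]; exact hVe.2 v v.2)⟩
    have hVM : V ≤ M := by
      refine MinSimple.VModule.zl_le ?_ le_normalizer
      exact (MinSimple.VModule.zc_le _).trans hM.SM
    exact (MinSimple.VModule.le_o2 hVM h1 hMN).trans
      (o2_le_syl ⟨hM.SM, S.isPGroup', fun Q _ hQ hSQ => S.is_maximal' hQ hSQ⟩)
  have hchar : ∀ D : Subgroup G, D ≠ ⊥ → D ≤ V → centralizer (D : Set G) ⊓
      centralizer (o2 (centralizer (D : Set G)) : Set G) ≤ o2 (centralizer (D : Set G)) :=
    fun D hD1 hD => NOne.LemmaT.char2_centralizer hG (S.isPGroup'.to_le (hD.trans hVS)) hD1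
  obtain ⟨F, -, hF⟩ := NOne.Flat.exists_hyp hVcomm (fun w hw => hVe.2 w hw) hsyl hno hchar hF₀
  -- the family of all `W_F`
  let SS : Set (Subgroup G) := {X | ∃ F, Hyp V F ∧ X = WW V F}
  have hSS : ∀ m ∈ M, ∀ X ∈ SS, cj m X ∈ SS := by
    rintro m hm _ ⟨D, hD, rfl⟩
    exact ⟨MulAut.conj m • D, hD.conj (hMN hm), NOne.Flat.WW_conj (hMN hm)⟩
  obtain ⟨T, hT⟩ := exists_syl_of (M ⊓ centralizer (F : Set G))
  obtain ⟨m, hm, -, hTm⟩ := hM.exists_conj hT
  have hFm : Hyp V (cj m F) := hF.conj (hMN hm)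
  have hWS : WW V (cj m F) ≤ S :=
    (NOne.Flat.Hyp.W_le_R.trans (o2_le_syl (hM.syl hFm.bad.le hTm))).trans inf_le_left
  have hWV : ¬ WW V (cj m F) ≤ centralizer (V : Set G) := by
    intro h1
    have h2 : V ⊓ centralizer (WW V (cj m F) : Set G) = cj m F := hFm.cent_VW
    rw [inf_eq_left.2 ((Subgroup.le_centralizer_iff).1 h1)] at h2
    have h3 := hFm.F_lt_E
    have h4 : NOne.Flat.EE V (cj m F) ≤ cj m F := by
      refine le_trans inf_le_left ?_
      exact h2.le
    exact absurd (lt_of_lt_of_le h3 h4) (lt_irrefl _)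
  obtain ⟨X, ⟨D, hD, rfl⟩, hXS, hXP⟩ := hmin SS hSS ⟨WW V (cj m F), ⟨_, hFm, rfl⟩, hWS, hWV⟩
  exact ⟨D, hD, hXS, hXP⟩

end main

end Cfsg.Agent.Omega.NO1.JMin
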