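import Cfsg.Agent.Omega.NearFF.Dat

/-!
# N1, (BT) with `|V / E| = 2`: the abstract statement (project OMEGA, assembler helper406)

The structure is helper132's `NearFF.Dat`.
-/

set_option autoImplicit false

namespace Cfsg.Agent.Omega.NO1.Two

open MulAction Cfsg.Agent.Omega.Transv Cfsg.Agent.Omega.NearFF

/-- **(BT) for `|V / E| = 2`, `|Z| = 2`, abstract form**: the statement (+) of #13987.  (Then `|V| = 16` and `Y`
induces at least `A₅` on `Ω`, `|Ω| = 5`: `NearFF/PlusFam.lean` of helper710.) -/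
def BTAbs.{u} : Prop :=
  ∀ (Y V : Type u) [Group Y] [Finite Y] [AddCommGroup V] [Finite V] [Module (ZMod 2) V] [DistribMulAction Y V]
    (T : Sylow 2 Y) (M : Subgroup Y) (z : V) (f : V → Du V) (Q : V → Subgroup Y) (BB : V → Set (Subgroup Y)),
    Dat T M z f Q BB → ∀ g : Y, f z (g • z) = 0 → g ∈ M

end Cfsg.Agent.Omega.NO1.Two
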