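import Cfsg.Agent.Omega.NO1.TwoBr
import Cfsg.Agent.Omega.NO1.Two
import Cfsg.Agent.Omega.NearFF.PlusFam

/-!
# N1, (BT) with `|V / E| = 2`: from the abstract statement to `Ty` (project OMEGA, assembler helper406)

* `Rep.minus2` : five vectors with sum 0, `Y` inducing at least `A₅` on them, give `Minus2`;
* `btTwo_of : BTAbs → BTZ → BTTwo`.
-/

set_option autoImplicit false
set_option linter.unusedSectionVars false

namespace Cfsg.Agent.Omega.NO1

open Subgroup Cfsg Cfsg.Agent.ZN Cfsg.Agent.Omega.MinPar Cfsg.Agent.Omega.Frame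
open Cfsg.Agent.Omega.Transv Cfsg.Agent.Omega.NearFF TwoG

universe u

section

variable {G : Type u} [Group G] [Finite G] {S : Sylow 2 G} {P : Subgroup G}
  {Y M : Type u} [Group Y] [AddCommGroup M]
  [DistribMulAction Y M] {T : Sylow 2 Y} {Mx : Subgroup Y}
  (R : Rep (S : Subgroup G) P (zl (S : Subgroup G) P) Y M T Mx)
include R

/-- Five vectors with sum 0. -/
theorem Rep.minus2 {z : G} (hz : Zd S z) {m : M} (hm : R.el m = z) {w : Fin 5 → M} (hinj : Function.Injective w)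
    (h0 : w 0 = m) (hr : Set.range w = MulAction.orbit Y m) (hs : w 0 + w 1 + w 2 + w 3 + w 4 = 0)
    (hp : ∀ g : Y, ∃ σ : Equiv.Perm (Fin 5), ∀ i, g • w i = w (σ i))
    (ha : ∀ σ ∈ alternatingGroup (Fin 5), ∃ g : Y, ∀ i, g • w i = w (σ i)) :
    Minus2 (S : Subgroup G) P fun i => R.el (w i) where
  inj := R.inj.comp hinj
  ne_one i h1 := by
    have h2 := R.el_eq_one.1 h1
    have h3 : w i ∈ MulAction.orbit Y m := by rw [← hr]; exact ⟨i, rfl⟩
    obtain ⟨g, hg⟩ := h3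
    have h4 : g • m = 0 := hg.trans h2
    have h5 : m = 0 := (smul_eq_zero_iff_eq g).1 h4
    apply hz.ne
    rw [← hm, h5, R.el_zero]
  sq i := R.el_sq _
  comm i j := by rw [← R.add, ← R.add, add_comm]
  prod := by rw [← R.add, ← R.add, ← R.add, ← R.add, hs, R.el_zero]
  gen := by
    apply le_antisymm
    · rw [closure_le]
      rintro _ ⟨i, rfl⟩
      exact R.mem _
    · refine FFBr.zl_le_of fun p hp x hx => ?_
      rcases hz.eq x hx with rfl | rfl
      · rw [mul_one, mul_inv_cancel]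
        exact one_mem _
      · have h1 : R.ac ⟨p, hp⟩ • m ∈ Set.range w := by rw [hr]; exact ⟨_, rfl⟩
        obtain ⟨i, hi⟩ := h1
        refine subset_closure ⟨i, ?_⟩
        change R.el (w i) = _
        rw [hi, R.smul, hm]
  Z := by
    rw [h0, hm]
    apply le_antisymm
    · intro x hx
      rcases hz.eq x hx with rfl | rfl
      · exact one_mem _
      · exact mem_zpowers _
    · exact zpowers_le.2 hz.mem
  perm p hP := by
    obtain ⟨σ, hσ⟩ := hp (R.ac ⟨p, hP⟩)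
    refine ⟨σ, fun i => ?_⟩
    have h1 := R.smul ⟨p, hP⟩ (w i)
    rw [hσ] at h1
    exact h1.symm
  alt σ hσ := by
    obtain ⟨g, hg⟩ := ha σ hσ
    obtain ⟨p, rfl⟩ := R.acs g
    refine ⟨p, p.2, fun i => ?_⟩
    have h1 := R.smul p (w i)
    rw [hg] at h1
    exact h1.symm

end

/-- `EE` in terms of `z`. -/
theorem EE_of_Zd {G : Type u} [Group G] [Finite G] {S : Sylow 2 G} {P : Subgroup G} {z : G} (hz : Zd S z) :
    EE (S : Subgroup G) P = Ex (zl (S : Subgroup G) P) z := by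
  rw [NO1.EE, hz.CC]

/-- **`|Z| ≥ 4`, `|V : V ∩ O₂(C_G(Z₀))| = 2` for all `1 ≠ Z₀ ≤ Z`** (then (+) for the union of the orbits of `Z#`
gives a contradiction). -/
def BTZ : Prop :=
  ∀ (G : Type u) [Group G] [Finite G] (S : Sylow 2 G) (P : Subgroup G), Cfg S P →
    NoOff (S : Subgroup G) P → Nat.card (zc (S : Subgroup G)) ≠ 2 →
    (∀ Z₀ : Subgroup G, Z₀ ≤ zc (S : Subgroup G) → Z₀ ≠ ⊥ →
      (EZ (S : Subgroup G) P Z₀).relIndex (zl (S : Subgroup G) P) = 2) → Ty (S : Subgroup G) P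

theorem btTwo_of (h1 : Two.BTAbs.{u}) (h2 : BTZ.{u}) : BTTwo.{u} := by
  intro G _ _ S P h hoff hA
  by_cases hZ : Nat.card (zc (S : Subgroup G)) = 2
  · obtain ⟨z, hz1, hz2, hz3⟩ := exists_z (S := S) hZ
    have hz : Zd S z := ⟨hz1, hz2, hz3⟩
    have hne : zc (S : Subgroup G) ≠ ⊥ := fun h3 => hz2 (by rw [h3, mem_bot] at hz1; exact hz1)
    have hE : (Ex (zl (S : Subgroup G) P) z).relIndex (zl (S : Subgroup G) P) = 2 := by
      rw [← EE_of_Zd hz]
      exact hA _ le_rfl hne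
    obtain ⟨Y, M, _, _, _, _, _, T, Mx, ⟨R⟩⟩ := h.exists_rep
    let _ : Module (ZMod 2) M := AddCommGroup.zmodModule fun m => by rw [two_nsmul]; exact R.two m
    obtain ⟨m, hm⟩ := R.surj z (h.Z_le_V hz.mem)
    obtain ⟨BB, hD⟩ := exists_dat h R hz hm hE hoff
    obtain ⟨w, w1, w2, w3, w4, w5, w6⟩ := PlusFam.five' hD (h1 Y M T Mx m _ _ BB hD)
    exact Ty.minus2 _ (R.minus2 hz hm w1 w2 w3 w4 w5 w6)
  · exact h2 G S P h hoff hZ hA

end Cfsg.Agent.Omega.NO1
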