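import Cfsg.Agent.Omega.NO1.FrPlusQ
import Cfsg.Agent.Omega.NO1.FrCut
import Cfsg.Agent.Omega.NO1.HE.EndTwo

/-!
# (+) for a frame gives `MinusQ` or `Minus2` : `frPlus : FrPlus`, and the cut of `BTNot` in `FrFour`, `FrTwo`
-/

set_option autoImplicit false
set_option linter.unusedSectionVars false

namespace Cfsg.Agent.Omega.NO1

open Subgroup Cfsg Cfsg.Agent.ZN Cfsg.Agent.Omega.MinPar Cfsg.Agent.Omega.Frame
open FrRep

universe u

/-- **(+) for a frame** (438's `minusQ`, 207's `minus2`). -/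
theorem frPlus : FrPlus.{u} := by
  intro G _ _ S P M F h hp
  rcases relIndex_two_or h.cfg h.not_le with h2 | h4
  · obtain ⟨Y, V, _, _, _, _, _, T, Mx, ⟨R⟩⟩ := h.cfg.exists_rep
    obtain ⟨B, hB⟩ := exists_fra R h hp
    refine HE.minus2 R hB ?_
    rw [index_co]
    exact h2
  · exact ty_of_plus h hp h4

/-- `BTNot` from `FrFour` and `FrTwo`. -/
theorem btNot_of_fr' (h4 : FrFour.{u}) (h2 : FrTwo.{u}) : BTNot.{u} := btNot_of_fr frPlus h4 h2

end Cfsg.Agent.Omega.NO1
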