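import Cfsg.Agent.Omega.NO1.Types
import Cfsg.Agent.Omega.NearFF.Five
import Cfsg.Agent.Omega.FFBr.MainM

/-!
# The leaf N1, (BT), `|V/E| = 2`, `|D| = 2` (helper130)

The plug of THEOREM BT2 (#13091, helper318; Lean: `NearFF.Hyp.main`, helper65).

* `mul_main` : `NearFF.Hyp.main` for a faithful action on a multiplicative group `V` (`FFBr.Abs`);
* `btOne` : a configuration `Cfg S P` without offenders on `V_P` (in module form), with `|V/E| = 2` and a frame with
  `|D| = 2`, has `V_P = O₄⁻(2)`.
-/

set_option autoImplicit false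
set_option linter.unusedSectionVars false

namespace Cfsg.Agent.Omega.NO1.BTOnePlug

open Subgroup Cfsg Cfsg.Agent.ZN Cfsg.Agent.ZN.ChoiceBase Cfsg.Agent.ZN.ChoiceSit Cfsg.Agent.Omega.MinPar
open Cfsg.Agent.Omega.Frame Cfsg.Agent.Omega.FFThm Cfsg.Agent.Omega.FFBr Cfsg.Agent.Omega.Transv
open Cfsg.Agent.Omega.NoFF.LinesPlug (CC)
open Cfsg.Agent.ClassTwoFusion.Quad (cv mem_cv mem_cv_singleton)
open scoped Pointwise

universe u

/-! ### The theorem in multiplicative language -/

section Mul

variable {X V : Type*} [Group X] [Group V] [MulDistribMulAction X V] {T : Sylow 2 X} {M : Subgroup X}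

/-- the hypotheses of BT2 -/
structure HypM (X V : Type*) [Group X] [Group V] [MulDistribMulAction X V] (T : Sylow 2 X) (M : Subgroup X) (z : V)
    (E : Subgroup V) (B : Subgroup X) : Prop where
  abs : Abs X V T M
  z_ne : z ≠ 1
  z_fix : ∀ t ∈ T, t • z = z
  z_uniq : ∀ v : V, (∀ t ∈ T, t • v = v) → v = 1 ∨ v = z
  idx : E.index = 2
  zE : z ∈ E
  inv : ∀ x : X, x • z = z → ∀ v : V, x • v ∈ E ↔ v ∈ E
  B_comm : ∀ a ∈ B, ∀ b ∈ B, a * b = b * a
  B_sq : ∀ b ∈ B, b * b = 1
  B_norm : ∀ b ∈ B, ∀ v : V, b • v ∈ E ↔ v ∈ E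
  B_E : ∀ b ∈ B, ∀ e ∈ E, b • e = e ∨ b • e = e * z
  B_card : 4 * Nat.card B = Nat.card V
  noff : ∀ A : Subgroup X, ¬ AOff V A

/-- the conclusion of BT2 -/
structure FiveM (X : Type*) {V : Type*} [Group X] [Group V] [MulDistribMulAction X V] (z : V) (w : Fin 5 → V) :
    Prop where
  inj : Function.Injective w
  zero : w 0 = z
  ne_one : ∀ i, w i ≠ 1
  prod : w 0 * w 1 * w 2 * w 3 * w 4 = 1
  gen : closure (Set.range w) = ⊤
  act : ∀ x : X, ∃ σ : Equiv.Perm (Fin 5), ∀ i, x • w i = w (σ i)
  onto : ∀ σ ∈ alternatingGroup (Fin 5), ∃ x : X, ∀ i, x • w i = w (σ i)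

theorem mul_main [Finite X] [Finite V] {z : V} {E : Subgroup V} {B : Subgroup X} (h : HypM X V T M z E B) :
    ∃ w : Fin 5 → V, FiveM X z w := by
  classical
  have hA := h.abs
  let i1 : AddCommGroup (Additive V) :=
    { (inferInstance : AddGroup (Additive V)) with
      add_comm := fun v w => congrArg Additive.ofMul (hA.comm (Additive.toMul v) (Additive.toMul w)) }
  let i2 : Module (ZMod 2) (Additive V) := AddCommGroup.zmodModule (n := 2) fun v => by
    rw [two_nsmul]
    exact congrArg Additive.ofMul (hA.sq (Additive.toMul v))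
  let i3 : DistribMulAction X (Additive V) :=
    { smul := fun x v => Additive.ofMul (x • Additive.toMul v)
      one_smul := fun v => congrArg Additive.ofMul (one_smul X (Additive.toMul v))
      mul_smul := fun x y v => congrArg Additive.ofMul (mul_smul x y (Additive.toMul v))
      smul_zero := fun x => congrArg Additive.ofMul (smul_one x)
      smul_add := fun x v w => congrArg Additive.ofMul (smul_mul' x (Additive.toMul v) (Additive.toMul w)) }
  have : Finite (Additive V) := inferInstanceAs (Finite V)
  have hcard : Nat.card (Additive V) = Nat.card V := rfl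
  -- the functional of a subgroup of index 2
  obtain ⟨v0, hv0⟩ : ∃ v0, v0 ∉ E := by
    by_contra hcon
    push Not at hcon
    have h1 : E = ⊤ := eq_top_iff.2 fun v _ => hcon v
    have h2 := h.idx
    rw [h1, index_top] at h2
    omega
  let φ0 : Additive V →+ ZMod 2 :=
    { toFun := fun v => if Additive.toMul v ∈ E then 0 else 1
      map_zero' := if_pos (one_mem E)
      map_add' := fun v w => by
        have h1 : (Additive.toMul (v + w) ∈ E ↔ (Additive.toMul v ∈ E ↔ Additive.toMul w ∈ E)) :=
          Subgroup.mul_mem_iff_of_index_two h.idx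
        by_cases h2 : Additive.toMul v ∈ E
        · by_cases h3 : Additive.toMul w ∈ E
          · rw [if_pos (h1.2 ⟨fun _ => h3, fun _ => h2⟩), if_pos h2, if_pos h3, add_zero]
          · rw [if_neg fun h0 => h3 ((h1.1 h0).1 h2), if_pos h2, if_neg h3, zero_add]
        · by_cases h3 : Additive.toMul w ∈ E
          · rw [if_neg fun h0 => h2 ((h1.1 h0).2 h3), if_neg h2, if_pos h3, add_zero]
          · rw [if_pos (h1.2 ⟨fun h0 => absurd h0 h2, fun h0 => absurd h0 h3⟩), if_neg h2, if_neg h3,
              one_add_one] }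
  let φ : Du (Additive V) := φ0.toZModLinearMap 2
  have hφ : ∀ v : V, φ (Additive.ofMul v) = if v ∈ E then 0 else 1 := fun v => rfl
  have hφ0 : ∀ v : V, φ (Additive.ofMul v) = 0 ↔ v ∈ E := by
    intro v
    rw [hφ]
    by_cases h1 : v ∈ E
    · rw [if_pos h1]; exact ⟨fun _ => h1, fun _ => rfl⟩
    · rw [if_neg h1]; exact ⟨fun h2 => absurd h2 one_ne, fun h2 => absurd h2 h1⟩
  have hφs : ∀ (x : X) (v : V), (x • v ∈ E ↔ v ∈ E) → φ (x • Additive.ofMul v) = φ (Additive.ofMul v) := by
    intro x v h1
    show φ (Additive.ofMul (x • v)) = _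
    rw [hφ, hφ]
    by_cases h2 : v ∈ E
    · rw [if_pos h2, if_pos (h1.2 h2)]
    · rw [if_neg h2, if_neg fun h3 => h2 (h1.1 h3)]
  have hH : NearFF.Hyp X (Additive V) T M (Additive.ofMul z) φ B :=
    { faith := fun g hg => hA.faith g fun v => hg (Additive.ofMul v)
      le := hA.TM
      ne := hA.Mne
      max := hA.max
      z_ne := fun h0 => h.z_ne h0
      z_fix := fun t ht => congrArg Additive.ofMul (h.z_fix t ht)
      z_uniq := fun v hv => (h.z_uniq (Additive.toMul v) hv)
      span := by
        let W : Subgroup V :=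
          { carrier := {v | Additive.ofMul v ∈ cen X (Additive.ofMul z)}
            one_mem' := by
              change (0 : Additive V) ∈ cen X (Additive.ofMul z)
              exact Submodule.zero_mem _
            mul_mem' := fun {a b} ha hb => by
              change (Additive.ofMul a + Additive.ofMul b : Additive V) ∈ cen X (Additive.ofMul z)
              exact Submodule.add_mem _ ha hb
            inv_mem' := fun {a} ha => by
              rw [inv_eq_of_mul_eq_one_left (hA.sq a)]
              exact ha }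
        have hW : W = ⊤ := by
          apply hA.gen
          intro v hv x
          rcases h.z_uniq v hv with rfl | rfl
          · rw [smul_one]; exact one_mem W
          · exact smul_mem_cen x (Additive.ofMul v)
        rw [eq_top_iff]
        intro v _
        have h1 : Additive.toMul v ∈ W := by rw [hW]; exact mem_top _
        exact h1
      phi_ne := fun h0 => by
        have h1 := LinearMap.congr_fun h0 (Additive.ofMul v0)
        rw [hφ, if_neg hv0] at h1
        exact one_ne h1
      phi_z := (hφ0 z).2 h.zE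
      inv := fun g hg v => hφs g (Additive.toMul v) (h.inv g hg (Additive.toMul v))
      B_comm := h.B_comm
      B_sq := h.B_sq
      B_phi := fun b hb v => hφs b (Additive.toMul v) (h.B_norm b hb (Additive.toMul v))
      B_E := fun b hb e he => h.B_E b hb (Additive.toMul e) ((hφ0 _).1 he)
      B_card := h.B_card
      nt := by
        intro g a χ hT
        have hf : Faith X (Additive V) := fun g hg => hA.faith g fun v => hg (Additive.ofMul v)
        have hgg : g * g = 1 := hT.mul_self hf
        have hg1 : g ≠ 1 := hT.ne_one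
        have hmem : ∀ x ∈ zpowers g, x = 1 ∨ x = g := by
          intro x hx
          obtain ⟨k, rfl⟩ := mem_zpowers_iff.1 hx
          have hg2 : g ^ (2 : ℤ) = 1 := by rw [zpow_two, hgg]
          rcases Int.even_or_odd' k with ⟨m, rfl | rfl⟩
          · left; rw [zpow_mul, hg2, one_zpow]
          · right; rw [zpow_add, zpow_mul, hg2, one_zpow, one_mul, zpow_one]
        let f : V →* Multiplicative (ZMod 2) :=
          { toFun := fun v => Multiplicative.ofAdd (χ (Additive.ofMul v))
            map_one' := congrArg Multiplicative.ofAdd (map_zero χ)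
            map_mul' := fun v w => congrArg Multiplicative.ofAdd (map_add χ (Additive.ofMul v) (Additive.ofMul w)) }
        have hK : f.ker ≤ cv V (zpowers g : Set X) := by
          intro v hv
          have h1 : χ (Additive.ofMul v) = 0 := congrArg Multiplicative.toAdd (MonoidHom.mem_ker.1 hv)
          have h2 : g • v = v := (hT.fix_iff (Additive.ofMul v)).2 h1
          intro x hx
          rcases hmem x hx with rfl | rfl
          · exact one_smul _ _
          · exact h2
        refine h.noff (zpowers g) ⟨?_, ?_, ?_, ?_⟩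
        · intro a ha b hb
          rcases hmem a ha with rfl | rfl <;> rcases hmem b hb with rfl | rfl <;> simp
        · intro a ha
          rcases hmem a ha with rfl | rfl
          · exact one_mul 1
          · exact hgg
        · intro h0
          exact hg1 (zpowers_eq_bot.1 h0)
        · have h1 : (cv V (zpowers g : Set X)).index ≤ f.ker.index :=
            Nat.le_of_dvd (Nat.pos_of_ne_zero Subgroup.index_ne_zero_of_finite) (Subgroup.index_dvd_of_le hK)
          have h2 : f.ker.index ≤ 2 := by
            rw [Subgroup.index_ker]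
            have h3 : Nat.card f.range ≤ Nat.card (Multiplicative (ZMod 2)) :=
              Nat.card_le_card_of_injective _ f.range.subtype_injective
            have h4 : Nat.card (Multiplicative (ZMod 2)) = 2 := Nat.card_zmod 2
            omega
          have h3 : Nat.card (zpowers g) = 2 := by
            rw [Nat.card_zpowers]
            exact orderOf_eq_prime (by rw [pow_two, hgg]) hg1
          omega
      nf := by
        intro A hA4 hAs hV
        have hcv : Nat.card (cv V (A : Set X)) = Nat.card (fixS (Additive V) A) :=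
          Nat.card_congr ⟨fun x => ⟨Additive.ofMul (x : V), x.2⟩, fun y => ⟨Additive.toMul (y : Additive V), y.2⟩,
            fun _ => rfl, fun _ => rfl⟩
        have h1 := (cv V (A : Set X)).card_mul_index
        have h2 : 0 < Nat.card (cv V (A : Set X)) := Nat.card_pos
        refine h.noff A ⟨?_, hAs, ?_, ?_⟩
        · intro a ha b hb
          have h3 := hAs _ (mul_mem ha hb)
          have h4 : (a * b)⁻¹ = a * b := inv_eq_of_mul_eq_one_left h3
          rw [mul_inv_rev, inv_eq_of_mul_eq_one_left (hAs a ha), inv_eq_of_mul_eq_one_left (hAs b hb)] at h4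
          exact h4.symm
        · rintro rfl
          rw [card_bot] at hA4
          omega
        · rw [hcard, ← h1, ← hcv, mul_comm] at hV
          rw [hA4]
          exact (Nat.eq_of_mul_eq_mul_right h2 hV).le }
  obtain ⟨w, hw⟩ := hH.main
  refine ⟨fun i => Additive.toMul (w i), hw.inj, hw.zero, ?_, ?_, ?_, ?_, ?_⟩
  · intro i hi
    have h1 : w i ∈ MulAction.orbit X (Additive.ofMul z) := by
      rw [← hw.range]
      exact ⟨i, rfl⟩
    obtain ⟨x, hx⟩ := h1
    have h2 : x • z = 1 := by
      have h3 : Additive.toMul (w i) = x • z := congrArg Additive.toMul hx.symm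
      rw [← h3]
      exact hi
    apply h.z_ne
    rw [← inv_smul_smul x z, h2, smul_one]
  · have h1 := hw.sum
    rw [Fin.sum_univ_five] at h1
    exact congrArg Additive.toMul h1
  · rw [eq_top_iff]
    intro v _
    have h1 : Additive.ofMul v ∈ Submodule.span (ZMod 2) (Set.range w) := by
      rw [hw.span]
      exact Submodule.mem_top
    have h2 : ∀ u : Additive V, u ∈ Submodule.span (ZMod 2) (Set.range w) →
        Additive.toMul u ∈ closure (Set.range fun i => Additive.toMul (w i)) := by
      intro u hu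
      induction hu using Submodule.span_induction with
      | mem x hx =>
        obtain ⟨i, rfl⟩ := hx
        exact subset_closure ⟨i, rfl⟩
      | zero => exact one_mem _
      | add x y _ _ hx hy => exact mul_mem hx hy
      | smul c x _ hx =>
        rcases zmod_cases c with rfl | rfl
        · rw [zero_smul]
          exact one_mem _
        · rw [one_smul]
          exact hx
    exact h2 _ h1
  · intro x
    obtain ⟨σ, -, hσ⟩ := hw.act x
    exact ⟨σ, fun i => hσ i⟩
  · intro σ hσ
    obtain ⟨x, hx⟩ := hw.onto σ hσ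
    exact ⟨x, fun i => hx i⟩

end Mul

/-! ### The plug -/

section Plug

variable {G : Type u} [Group G] [Finite G] {S : Sylow 2 G} {P : Subgroup G}

/-- An offender of the group induced on `V` gives an offender in module form. -/
theorem offM_of {H V : Subgroup G} (h : H ≤ normalizer (V : Set G)) {A : Subgroup (XX h)} (hA : AOff V A) :
    ∃ A' : Subgroup G, A' ≤ H ∧ OffM V A' := by
  let A' : Subgroup G := (A.comap (pr h)).map H.subtype
  have hA'H : A' ≤ H := map_subtype_le _
  have hmem : ∀ a ∈ A', ∃ ha : a ∈ H, pr h ⟨a, ha⟩ ∈ A := by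
    rintro _ ⟨a, ha, rfl⟩
    exact ⟨a.2, ha⟩
  have him : im h A' = A := by
    ext x
    constructor
    · rintro ⟨a, ha, rfl⟩
      obtain ⟨ha', h1⟩ := hmem a ha
      exact h1
    · intro hx
      obtain ⟨a, rfl⟩ := pr_surjective h x
      exact ⟨a, ⟨a, hx, rfl⟩, rfl⟩
  refine ⟨A', hA'H, ⟨⟨?_, ?_⟩, ?_, ?_⟩⟩
  · intro a ha
    obtain ⟨ha', h1⟩ := hmem a ha
    have h2 : pr h (⟨a, ha'⟩ ^ 2) = 1 := by
      rw [map_pow, pow_two]
      exact hA.sq _ h1
    exact (pr_eq_one h).1 h2
  · intro a ha b hb
    obtain ⟨ha', h1⟩ := hmem a ha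
    obtain ⟨hb', h2⟩ := hmem b hb
    have h3 : pr h (⟨a, ha'⟩ * ⟨b, hb'⟩ * ⟨a, ha'⟩⁻¹ * ⟨b, hb'⟩⁻¹) = 1 := by
      rw [map_mul, map_mul, map_mul, map_inv, map_inv, hA.comm _ h1 _ h2, mul_inv_cancel_right, mul_inv_cancel]
    exact (pr_eq_one h).1 h3
  · intro h1
    apply hA.ne
    rw [eq_bot_iff]
    intro x hx
    rw [← him] at hx
    obtain ⟨a, ha, rfl⟩ := hx
    rw [mem_bot, pr_eq_one]
    exact h1 ha
  · have h1 := card_im h hA'H
    have h2 := card_cv_im h hA'H
    rw [him] at h1 h2
    have h3 := hA.le
    rw [← h1, ← h2]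
    calc _ = (cv V (A : Set (XX h))).index *
          (Nat.card ↥(V ⊓ centralizer (A' : Set G)) * Nat.card ↥(A' ⊓ centralizer (V : Set G))) := by ring
      _ ≤ Nat.card A * (Nat.card ↥(V ⊓ centralizer (A' : Set G)) * Nat.card ↥(A' ⊓ centralizer (V : Set G))) :=
          Nat.mul_le_mul_right _ h3
      _ = _ := by ring

/-- **(BT), `|V/E| = 2`, a frame with `|D| = 2`.** -/
theorem btOne (h : Cfg S P) (hoff : ∀ A : Subgroup G, A ≤ P → ¬ OffM (zl (S : Subgroup G) P) A)
    (hidx : (zl (S : Subgroup G) P ⊓ o2 (CC (S : Subgroup G))).relIndex (zl (S : Subgroup G) P) = 2)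
    {v g : G} (hg : g ∈ CC (S : Subgroup G))
    (hf : NOne.NearFF.Fin (zl (S : Subgroup G) P) (o2 (CC (S : Subgroup G))) v g)
    (hD : Nat.card ↥((zl (S : Subgroup G) P ⊓ o2 (CC (S : Subgroup G))) ⊓
      MulAut.conj g • (zl (S : Subgroup G) P ⊓ o2 (CC (S : Subgroup G)))) = 2) :
    ∃ z : Fin 5 → G, Minus2 (S : Subgroup G) P z := by
  classical
  set V : Subgroup G := zl (S : Subgroup G) P with hV
  set Q : Subgroup G := o2 (CC (S : Subgroup G)) with hQ
  set E : Subgroup G := V ⊓ Q with hE
  set F : Subgroup G := MulAut.conj g • E with hF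
  set D : Subgroup G := E ⊓ F with hDD
  have hnear : NOne.NearFF.Near V E D F v := hf.near
  have hn : P ≤ normalizer (V : Set G) := Cfg.P_norm_V S P
  have hVS : V ≤ S := h.V_le_S
  -- `Z = D = ⟨z⟩`
  have hZD : zc (S : Subgroup G) ≤ D := h.Z_le_D hg
  have hZ1 : zc (S : Subgroup G) ≠ ⊥ := MinSimple.Basic.zc_ne_bot S.isPGroup' (h.ctx.sylow_ne_bot S)
  have hZeq : zc (S : Subgroup G) = D := by
    have h1 := card_dvd_of_le hZD
    rw [hD] at h1
    have h2 : Nat.card (zc (S : Subgroup G)) ≠ 1 := fun h2 => hZ1 (card_eq_one.1 h2)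
    have h3 : Nat.card (zc (S : Subgroup G)) = 2 := ((Nat.dvd_prime Nat.prime_two).1 h1).resolve_left h2
    exact eq_of_le_of_card_ge hZD (by rw [hD, h3])
  obtain ⟨z, hz, hz1⟩ : ∃ z ∈ zc (S : Subgroup G), z ≠ 1 := by
    by_contra hcon
    push Not at hcon
    exact hZ1 (eq_bot_iff.2 fun x hx => mem_bot.2 (hcon x hx))
  have hzcases : ∀ x ∈ zc (S : Subgroup G), x = 1 ∨ x = z := by
    intro x hx
    by_contra hcon
    push Not at hcon
    have h3 : Nat.card (zc (S : Subgroup G)) = 2 := by rw [hZeq]; exact hD
    have h5 : ({1, z, x} : Finset G).card = 3 := by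
      rw [Finset.card_eq_three]
      exact ⟨1, z, x, hz1.symm, hcon.1.symm, hcon.2.symm, rfl⟩
    have h6 : Nat.card ↥({1, z, x} : Finset G) ≤ Nat.card (zc (S : Subgroup G)) := by
      refine Nat.card_le_card_of_injective (fun y => ⟨(y : G), ?_⟩) fun a b hab =>
        Subtype.ext (Subtype.mk.inj hab)
      have h7 := y.2
      rw [Finset.mem_insert, Finset.mem_insert, Finset.mem_singleton] at h7
      rcases h7 with h7 | h7 | h7 <;> rw [h7]
      · exact one_mem _
      · exact hz
      · exact hx
    rw [Nat.card_eq_fintype_card, Fintype.card_coe, h5, h3] at h6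
    omega
  have hzc := MinSimple.VModule.mem_zc.1 hz
  have hzz : z * z = 1 := by rw [← pow_two]; exact hzc.2.2
  have hzV : z ∈ V := h.Z_le_V hz
  have hZz : zc (S : Subgroup G) = zpowers z := by
    apply le_antisymm
    · intro x hx
      rcases hzcases x hx with rfl | rfl
      · exact one_mem _
      · exact mem_zpowers _
    · exact zpowers_le.2 hz
  -- elements of `P` centralising `z` normalise `E`
  have hEn : ∀ x ∈ P, x * z = z * x → ∀ u ∈ V, x * u * x⁻¹ ∈ E ↔ u ∈ E := by
    intro x hx hxz u hu
    have hxC : x ∈ CC (S : Subgroup G) := by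
      rw [mem_centralizer_iff]
      intro y hy
      rcases hzcases y hy with rfl | rfl
      · rw [one_mul, mul_one]
      · exact hxz.symm
    have h1 : x ∈ normalizer (Q : Set G) := ZN.le_normalizer_o2 _ hxC
    have h2 : x ∈ normalizer (V : Set G) := hn hx
    rw [hE, mem_inf, mem_inf]
    exact and_congr ((mem_normalizer_iff.1 h2 u).symm) ((mem_normalizer_iff.1 h1 u).symm)
  -- the action
  have hc : ¬ P ≤ centralizer (zl (S : Subgroup G) P : Set G) := by
    intro h1
    apply h.one.not_le
    refine zl_le_of fun x hx y hy => ?_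
    have h2 : x * y = y * x := (mem_centralizer_iff.1 (h1 hx) y (h.Z_le_V hy)).symm
    rw [h2, mul_inv_cancel_right]
    exact h.Z_le_Q hy
  obtain ⟨T, M, hA, hT⟩ := abs_of ⟨h.S_le, S.isPGroup', fun _ _ hT hST => S.is_maximal' hT hST⟩
    h.par.toIsMinPar (h.loc.char2 S h.ctx.char2) hc hn
  have hFQ : F ≤ Q := by
    have h1 : g ∈ normalizer (Q : Set G) := ZN.le_normalizer_o2 _ hg
    intro x hx
    obtain ⟨y, hy, rfl⟩ := NOne.Frame.mem_conj'.1 hx
    exact (mem_normalizer_iff.1 h1 y).1 hy.2
  have hFS : F ≤ S := hFQ.trans h.Q_le_S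
  have hFP : F ≤ P := hFS.trans h.S_le
  have hFcard : Nat.card F = Nat.card E := NOne.Choice.card_conj _ _
  have hEcard : 2 * Nat.card E = Nat.card V := by
    have h1 := relIndex_mul_relIndex ⊥ E V bot_le inf_le_left
    rw [relIndex_bot_left, relIndex_bot_left, hidx] at h1
    omega
  have hBcard : 2 * Nat.card (im hn F) = Nat.card F := by
    have h1 := card_im hn hFP
    rw [hnear.F_inf_cent, hD] at h1
    omega
  have hB : HypM (XX hn) V T M ⟨z, hzV⟩ (E.subgroupOf V) (im hn F) :=
    { abs := hA
      z_ne := fun h1 => hz1 (congrArg Subtype.val h1)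
      z_fix := fun x hx => by
        obtain ⟨t, ht, rfl⟩ := (hT x).1 hx
        rw [pr_smul_eq_iff]
        exact hzc.2.1 _ ht
      z_uniq := fun u hu => by
        have h1 : (u : G) ∈ zc (S : Subgroup G) := by
          rw [MinSimple.VModule.mem_zc]
          refine ⟨hVS u.2, fun t ht => ?_, h.V_sq u u.2⟩
          exact (pr_smul_eq_iff hn).1 (hu (pr hn ⟨t, h.S_le ht⟩) ((hT _).2 ⟨⟨t, h.S_le ht⟩, ht, rfl⟩))
        rcases hzcases _ h1 with h2 | h2
        · exact Or.inl (Subtype.ext h2)
        · exact Or.inr (Subtype.ext h2)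
      idx := hidx
      zE := h.Z_le_E hz
      inv := fun x hx u => by
        obtain ⟨x, rfl⟩ := pr_surjective hn x
        rw [pr_smul_eq_iff] at hx
        exact hEn x x.2 hx u u.2
      B_comm := by
        rintro _ ⟨a, ha, rfl⟩ _ ⟨b, hb, rfl⟩
        rw [← map_mul, ← map_mul]
        congr 1
        apply Subtype.ext
        exact mem_centralizer_iff.1 (hnear.Fcomm hb) _ ha
      B_sq := by
        rintro _ ⟨a, ha, rfl⟩
        rw [← map_mul, ← map_one (pr hn)]
        congr 1
        apply Subtype.ext
        have h1 := hnear.Fsq _ ha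
        rw [pow_two] at h1
        exact h1
      B_norm := by
        rintro _ ⟨a, ha, rfl⟩ u
        exact hEn a a.2 (hzc.2.1 _ (hFS ha)) u u.2
      B_E := by
        rintro _ ⟨a, ha, rfl⟩ u hu
        have huE : (u : G) ∈ E := hu
        have h1 : (u : G) * a * (u : G)⁻¹ * (a : G)⁻¹ ∈ D := hnear.ED u huE a ha
        rw [← hZeq] at h1
        have h2 : ((u : G) * a * (u : G)⁻¹ * (a : G)⁻¹)⁻¹ * u = a * u * (a : G)⁻¹ := by group
        rcases hzcases _ h1 with h3 | h3
        · left
          apply Subtype.ext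
          rw [coe_pr_smul, ← h2, h3, inv_one, one_mul]
        · right
          apply Subtype.ext
          rw [coe_pr_smul, ← h2, h3, inv_eq_of_mul_eq_one_left hzz]
          exact hnear.V_comm hzV u.2
      B_card := by omega
      noff := fun A hA' => by
        obtain ⟨A', h1, h2⟩ := offM_of hn hA'
        exact hoff A' h1 h2 }
  obtain ⟨w, hw⟩ := mul_main hB
  refine ⟨fun i => (w i : G), ?_⟩
  exact
    { inj := fun i j hij => hw.inj (Subtype.ext hij)
      ne_one := fun i hi => hw.ne_one i (Subtype.ext hi)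
      sq := fun i => by
        have h1 := h.V_sq _ (w i).2
        rw [pow_two] at h1
        exact h1
      comm := fun i j => hnear.V_comm (w i).2 (w j).2
      prod := congrArg Subtype.val hw.prod
      gen := by
        have h1 := congrArg (Subgroup.map V.subtype) hw.gen
        rw [MonoidHom.map_closure, ← MonoidHom.range_eq_map, range_subtype] at h1
        refine Eq.trans ?_ h1
        congr 1
        ext x
        constructor
        · rintro ⟨i, rfl⟩
          exact ⟨w i, ⟨i, rfl⟩, rfl⟩
        · rintro ⟨_, ⟨i, rfl⟩, rfl⟩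
          exact ⟨i, rfl⟩
      Z := by
        have h1 : (w 0 : G) = z := congrArg Subtype.val hw.zero
        rw [h1]
        exact hZz
      perm := fun m hm => by
        obtain ⟨σ, hσ⟩ := hw.act (pr hn ⟨m, hm⟩)
        exact ⟨σ, fun i => congrArg Subtype.val (hσ i)⟩
      alt := fun σ hσ => by
        obtain ⟨x, hx⟩ := hw.onto σ hσ
        obtain ⟨m, rfl⟩ := pr_surjective hn x
        exact ⟨m, m.2, fun i => congrArg Subtype.val (hx i)⟩ }

end Plug

end Cfsg.Agent.Omega.NO1.BTOnePlug
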