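import Cfsg.Agent.Omega.FrameLE
import Cfsg.Agent.Omega.NoFF.LinesPlug
import Cfsg.Agent.Omega.NOne.NearFF

/-!
# The configuration of the leaf N1 (= NO-1', MASTER v5.2, project OMEGA)

`Cfg S P` : `G` as in `Frame.Ctx`, `S` a Sylow 2-subgroup, `Full S`, `P ∈ P*(S)` with
`V = V_P ≰ Q = O₂(C)`, `C = C_G(Ω₁(Z(S)))`; so `(P, C)` is nonlocal and `C_V(O²(P)) = 1`.
(No hypothesis on mutual pairs.)

* facts on `V`, `C`, `Q`;
* `Cfg.exists_near` : for every `v ∈ V - Q` there is a frame `Near V (V ∩ Q) D F v` (NOne/NearFF).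
-/

set_option autoImplicit false
set_option linter.unusedSectionVars false

namespace Cfsg.Agent.Omega.NO1

open Subgroup Cfsg Cfsg.Agent.ZN Cfsg.Agent.Omega.MinPar Cfsg.Agent.Omega.Frame
open Cfsg.Agent.MinSimple.VModule (oddGen)
open Cfsg.Agent.Omega.NoFF.LinesPlug (CC NoOne)
open Cfsg.Agent.Omega.NOne.NearFF
open scoped Pointwise

universe u

variable {G : Type u} [Group G] [Finite G]

/-- The configuration of N1. -/
structure Cfg (S : Sylow 2 G) (P : Subgroup G) : Prop where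
  ctx : Ctx G
  full : Full (S : Subgroup G)
  one : NoOne (S : Subgroup G) P

/-- The configuration from the hypotheses of `FrameLE.NodeN1`. -/
theorem Cfg.of {S : Sylow 2 G} {P : Subgroup G} (h : Ctx G) (hF : Full (S : Subgroup G))
    (hP : IsParS (S : Subgroup G) P)
    (hV : ¬ zl (S : Subgroup G) P ≤ o2 (FrameNOFF.CZ (S : Subgroup G))) : Cfg S P := by
  have h1 := NoFF.LinesPlug.nonLoc h.char2 S hP hV
  exact ⟨h, hF, hP, hV, h1, NoFF.LinesPlug.inf_oddGen_eq_bot h.char2 S hP.toIsPar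
    (NoFF.LinesPlug.inf_eq_bot S h1)⟩

namespace Cfg

variable {S : Sylow 2 G} {P : Subgroup G} (h : Cfg S P)
include h

theorem par : IsPar (S : Subgroup G) P := h.one.star.toIsPar

theorem loc : IsLoc (S : Subgroup G) P := h.par.isLoc

theorem S_le : (S : Subgroup G) ≤ P := h.loc.le

omit h in
theorem S_le_CC (S : Sylow 2 G) : (S : Subgroup G) ≤ CC (S : Subgroup G) := le_centralizer_zc _

theorem locC : IsLoc (S : Subgroup G) (CC (S : Subgroup G)) :=
  isLoc_centralizer_zc S (h.ctx.sylow_ne_bot S)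

theorem V_le_o2 : zl (S : Subgroup G) P ≤ o2 P :=
  (h.loc.zl_le S h.ctx.char2).trans (zc_le _)

theorem V_le_S : zl (S : Subgroup G) P ≤ S := h.V_le_o2.trans (h.loc.o2_le S)

theorem V_le_CC : zl (S : Subgroup G) P ≤ CC (S : Subgroup G) := h.V_le_S.trans (S_le_CC S)

theorem V_comm : zl (S : Subgroup G) P ≤ centralizer (zl (S : Subgroup G) P : Set G) := by
  have h1 := h.loc.zl_le S h.ctx.char2
  intro x hx
  rw [mem_centralizer_iff]
  intro y hy
  exact MinSimple.VModule.zc_comm _ _ (h1 hy) _ (h1 hx)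

theorem V_sq (w : G) (hw : w ∈ zl (S : Subgroup G) P) : w ^ 2 = 1 :=
  MinSimple.VModule.zc_sq _ _ (h.loc.zl_le S h.ctx.char2 hw)

theorem V_isPGroup : IsPGroup 2 (zl (S : Subgroup G) P) := S.isPGroup'.to_le h.V_le_S

/-- `Q = O₂(C) ≤ S` -/
theorem Q_le_S : o2 (CC (S : Subgroup G)) ≤ S := h.locC.o2_le S

omit h in
theorem P_norm_V (S : Sylow 2 G) (P : Subgroup G) : P ≤ normalizer (zl (S : Subgroup G) P : Set G) :=
  le_normalizer_zl _ _

theorem Q_norm_V : o2 (CC (S : Subgroup G)) ≤ normalizer (zl (S : Subgroup G) P : Set G) :=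
  (h.Q_le_S.trans h.S_le).trans (P_norm_V S P)

theorem char2C : CC (S : Subgroup G) ⊓ centralizer (o2 (CC (S : Subgroup G)) : Set G) ≤
    o2 (CC (S : Subgroup G)) := h.locC.char2 S h.ctx.char2

theorem Z_le_V : zc (S : Subgroup G) ≤ zl (S : Subgroup G) P := MinSimple.VModule.zc_le_zl _ _

/-- `Z ≤ Q` -/
theorem Z_le_Q : zc (S : Subgroup G) ≤ o2 (CC (S : Subgroup G)) := by
  exact le_o2 ((zc_le _).trans (S_le_CC S)) (S.isPGroup'.to_le (zc_le _)) (centralizer_le_normalizer _)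

theorem Z_le_E : zc (S : Subgroup G) ≤ zl (S : Subgroup G) P ⊓ o2 (CC (S : Subgroup G)) :=
  le_inf h.Z_le_V h.Z_le_Q

/-- There is `v ∈ V - Q`. -/
theorem exists_v : ∃ v ∈ zl (S : Subgroup G) P, v ∉ o2 (CC (S : Subgroup G)) := by
  by_contra hcon
  push Not at hcon
  exact h.one.not_le hcon

/-- `C_S(V) = O₂(P)` -/
theorem S_inf_centralizer :
    (S : Subgroup G) ⊓ centralizer (zl (S : Subgroup G) P : Set G) = o2 P :=
  h.one.star.inf_centralizer S h.ctx.char2

/-- **The frame** at `v ∈ V - Q`. -/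
theorem exists_near {v : G} (hv : v ∈ zl (S : Subgroup G) P) (hvQ : v ∉ o2 (CC (S : Subgroup G))) :
    ∃ g ∈ CC (S : Subgroup G), Fin (zl (S : Subgroup G) P) (o2 (CC (S : Subgroup G))) v g ∧
      ¬ IsPGroup 2 (NOne.Frame.X (V1 (zl (S : Subgroup G) P) (o2 (CC (S : Subgroup G))) v) g) ∧
      ∀ y ∈ CC (S : Subgroup G),
        Nat.card (NOne.Frame.X (V1 (zl (S : Subgroup G) P) (o2 (CC (S : Subgroup G))) v) y) <
          Nat.card (NOne.Frame.X (V1 (zl (S : Subgroup G) P) (o2 (CC (S : Subgroup G))) v) g) →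
        IsPGroup 2 (NOne.Frame.X (V1 (zl (S : Subgroup G) P) (o2 (CC (S : Subgroup G))) v) y) :=
  NOne.NearFF.exists_near h.char2C h.V_le_CC h.V_comm h.V_sq h.Q_norm_V hv hvQ

/-- `Z ≤ D` in every frame. -/
theorem Z_le_D {g : G} (hg : g ∈ CC (S : Subgroup G)) :
    zc (S : Subgroup G) ≤ (zl (S : Subgroup G) P ⊓ o2 (CC (S : Subgroup G))) ⊓
      MulAut.conj g • (zl (S : Subgroup G) P ⊓ o2 (CC (S : Subgroup G))) :=
  NOne.NearFF.le_D h.Z_le_E fun z hz => (mem_centralizer_iff.1 hg z hz).symm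

end Cfg

end Cfsg.Agent.Omega.NO1
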