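import Cfsg.Agent.Omega.Node.NO1
import Cfsg.Agent.Omega.NOne.DZeroPts
import Cfsg.Agent.LargeExtra.Nine.ToCent
import Cfsg.Agent.GH.C2Extra

/-!
# N1: the end of the type `O₄⁻(2)` (`NO1.EndMinus2`)

THEOREM D0 (`NOne/DZeroPts.lean`, helper302) plugged into the leaf: `F*(C_G(z 0))` is of symplectic type.
-/

set_option autoImplicit false
set_option linter.unusedSectionVars false

namespace Cfsg.Agent.Omega.NO1

open Subgroup Cfsg Cfsg.Agent.ZN Cfsg.Agent.Omega.MinPar Cfsg.Agent.Omega.Frame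
open Cfsg.Agent.Omega.NoFF.LinesPlug (CC)
open Cfsg.Agent.Co2Type.Quad (Large)

universe u

variable {G : Type u} [Group G]

/-- an isomorphism of `O₂(C_G(z))` as subgroup of `G` with the subgroup of `C_G(z)` -/
noncomputable def o2Equiv (z : G) :
    ↥(o2 (centralizer ({z} : Set G))) ≃* ↥(pCore 2 ↥(centralizer ({z} : Set G))) :=
  ((pCore 2 ↥(centralizer ({z} : Set G))).equivMapOfInjective _
    (centralizer ({z} : Set G)).subtype_injective).symm

/-- `O₂(C_G(z))` large extraspecial of order `> 8` gives `F*(C_G(z))` of symplectic type. -/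
theorem sympl_of_large [Finite G] (hG : IsCharacteristicTwoType G) {z : G}
    (h : Large (o2 (centralizer ({z} : Set G))) z)
    (h8 : 8 < Nat.card ↥(o2 (centralizer ({z} : Set G)))) : Sympl z := by
  have hz : orderOf z = 2 := orderOf_eq_prime (by rw [pow_two]; exact h.z_sq) h.z_ne
  refine ⟨hz, ?_⟩
  have h1 : IsExtraspecial 2 ↥(o2 (centralizer ({z} : Set G))) :=
    LargeExtra.Nine.ToCent.isExtraspecial_Q h (by omega)
  have h2 : IsExtraspecial 2 ↥(pCore 2 ↥(centralizer ({z} : Set G))) :=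
    J2.ExtQuot.isExtraspecial_of_equiv (o2Equiv z) h1
  rw [Exits.genFitting_centralizer hG hz]
  refine GH.C2Extra.isOfSymplecticType h2 ?_
  rwa [← Nat.card_congr (o2Equiv z).toEquiv]

/-! ### The five points -/

namespace Minus2

variable {S P : Subgroup G} {z : Fin 5 → G}

theorem prod' (h : Minus2 S P z) (a b c d e : Fin 5) (hn : [a, b, c, d, e].Nodup) :
    z a * z b * z c * z d * z e = 1 := by
  classical
  let _ : CommGroup (closure (Set.range z)) := closureCommGroupOfComm (by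
    rintro _ ⟨i, rfl⟩ _ ⟨j, rfl⟩
    exact h.comm i j)
  let y : Fin 5 → closure (Set.range z) := fun i => ⟨z i, subset_closure ⟨i, rfl⟩⟩
  have h1 : ∏ i, y i = 1 := by
    rw [Fin.prod_univ_five]
    exact Subtype.ext h.prod
  have h2 : (Finset.univ : Finset (Fin 5)) = {a, b, c, d, e} := by
    symm
    apply Finset.eq_univ_of_card
    simp only [List.nodup_cons, List.mem_cons, List.not_mem_nil, or_false, not_or,
      not_false_eq_true, List.nodup_nil, and_true] at hn
    obtain ⟨⟨h1, h2, h3, h4⟩, ⟨h5, h6, h7⟩, ⟨h8, h9⟩, h10⟩ := hn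
    simp [h1, h2, h3, h4, h5, h6, h7, h8, h9, h10]
  rw [h2] at h1
  simp only [List.nodup_cons, List.mem_cons, List.not_mem_nil, or_false, not_or,
    not_false_eq_true, List.nodup_nil, and_true] at hn
  obtain ⟨⟨n1, n2, n3, n4⟩, ⟨n5, n6, n7⟩, ⟨n8, n9⟩, n10⟩ := hn
  rw [Finset.prod_insert (by simp [n1, n2, n3, n4]), Finset.prod_insert (by simp [n5, n6, n7]),
    Finset.prod_insert (by simp [n8, n9]), Finset.prod_insert (by simp [n10]),
    Finset.prod_singleton] at h1
  have h3 := congrArg Subtype.val h1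
  have h4 : z a * (z b * (z c * (z d * z e))) = 1 := h3
  rw [← h4]; group

theorem mem (h : Minus2 S P z) (i : Fin 5) : z i ∈ zl S P := by
  rw [← h.gen]; exact subset_closure ⟨i, rfl⟩

theorem elts (h : Minus2 S P z) (v : G) (hv : v ∈ zl S P) :
    v = 1 ∨ (∃ i, v = z i) ∨ ∃ i j, i ≠ j ∧ v = z i * z j := by
  have key : ∀ v : G, (v = 1 ∨ (∃ i, v = z i) ∨ ∃ i j, i ≠ j ∧ v = z i * z j) → ∀ k,
      (v * z k = 1 ∨ (∃ i, v * z k = z i) ∨ ∃ i j, i ≠ j ∧ v * z k = z i * z j) := by
    rintro v (rfl | ⟨i, rfl⟩ | ⟨i, j, hij, rfl⟩) k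
    · right; left; exact ⟨k, one_mul _⟩
    · by_cases hik : i = k
      · subst hik; left; exact h.sq i
      · right; right; exact ⟨i, k, hik, rfl⟩
    · by_cases hik : i = k
      · subst hik
        right; left
        refine ⟨j, ?_⟩
        rw [h.comm i j, mul_assoc, h.sq, mul_one]
      · by_cases hjk : j = k
        · subst hjk
          right; left
          exact ⟨i, by rw [mul_assoc, h.sq, mul_one]⟩
        · right; right
          obtain ⟨l, m, hn⟩ := NOne.DZero.exists_two i j k (by simp [hij, hik, hjk])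
          have h1 := h.prod' i j k l m hn
          have hn' := hn
          simp only [List.nodup_cons, List.mem_cons, List.not_mem_nil, or_false, not_or,
            not_false_eq_true, List.nodup_nil, and_true] at hn'
          refine ⟨l, m, hn'.2.2.2, ?_⟩
          have h2 : z i * z j * z k * (z l * z m) = 1 := by rw [← h1]; group
          have h3 : (z l * z m)⁻¹ = z l * z m := by
            rw [mul_inv_rev, inv_eq_of_mul_eq_one_left (h.sq l), inv_eq_of_mul_eq_one_left (h.sq m),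
              h.comm]
          rw [← h3]
          exact eq_inv_of_mul_eq_one_left h2
  rw [← h.gen] at hv
  induction hv using closure_induction_right with
  | one => left; rfl
  | mul_right x _ y hy ih =>
    obtain ⟨k, rfl⟩ := hy
    exact key x ih k
  | mul_inv_cancel x _ y hy ih =>
    obtain ⟨k, rfl⟩ := hy
    rw [inv_eq_of_mul_eq_one_left (h.sq k)]
    exact key x ih k

/-- The data of `NOne/DZeroPts.lean`. -/
theorem pts (h : Minus2 S P z) : NOne.DZeroPts.Pts P (zl S P) z where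
  mem := h.mem
  gen := h.elts
  inj := h.inj
  ne_one := h.ne_one
  sq := h.sq
  comm := h.comm
  prod a b c d e hn := by
    have h1 := h.prod' a b c d e hn
    have h2 := eq_inv_of_mul_eq_one_left h1
    rw [inv_eq_of_mul_eq_one_left (h.sq e)] at h2
    exact h2
  perm := h.perm
  alt σ hσ := h.alt σ (Equiv.Perm.mem_alternatingGroup.2 hσ)

end Minus2

theorem CC_eq_of_zpowers {S : Subgroup G} {z : G} (h : zc S = zpowers z) :
    CC S = centralizer ({z} : Set G) := by
  rw [CC, h]
  exact NOne.DZeroPts.CC_eq z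

/-- The hypotheses of `DZeroPts.dz`, `DZeroPts.large` from the leaf. -/
theorem minus_hyps [Finite G] {S : Sylow 2 G} {P : Subgroup G} (h : Cfg S P) {z : Fin 5 → G}
    (hz : Minus2 (S : Subgroup G) P z) :
    (∀ s ∈ (S : Subgroup G), s * z 0 = z 0 * s) ∧
    (∀ x ∈ (S : Subgroup G), (∀ s ∈ (S : Subgroup G), x * s = s * x) → x * x = 1 →
      x = 1 ∨ x = z 0) ∧
    ¬ zl (S : Subgroup G) P ≤ o2 (centralizer ({z 0} : Set G)) := by
  refine ⟨?_, ?_, ?_⟩
  · intro s hs
    have h1 : z 0 ∈ zc (S : Subgroup G) := by rw [hz.Z]; exact mem_zpowers _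
    exact (mem_zc.1 h1).2.1 s hs
  · intro x hx hxs hxx
    have h1 : x ∈ zc (S : Subgroup G) := mem_zc.2 ⟨hx, fun s hs => (hxs s hs).symm, by rw [pow_two]; exact hxx⟩
    rw [hz.Z, mem_zpowers_iff] at h1
    obtain ⟨k, rfl⟩ := h1
    rcases Int.even_or_odd' k with ⟨m, rfl | rfl⟩
    · left
      rw [zpow_mul, show (z 0) ^ (2 : ℤ) = 1 by rw [zpow_two]; exact hz.sq 0, one_zpow]
    · right
      rw [zpow_add, zpow_mul, show (z 0) ^ (2 : ℤ) = 1 by rw [zpow_two]; exact hz.sq 0, one_zpow,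
        one_mul, zpow_one]
  · rw [← CC_eq_of_zpowers hz.Z]
    exact h.one.not_le

/-- `|O₂(C_G(z 0))| > 8` in type `O₄⁻(2)`. -/
theorem card_gt [Finite G] {S : Sylow 2 G} {P : Subgroup G} (h : Cfg S P) {z : Fin 5 → G}
    (hz : Minus2 (S : Subgroup G) P z)
    (hL : Large (o2 (centralizer ({z 0} : Set G))) (z 0)) :
    8 < Nat.card ↥(o2 (centralizer ({z 0} : Set G))) := by
  have : Fact (Nat.Prime 2) := ⟨Nat.prime_two⟩
  obtain ⟨h1, h2, h3⟩ := minus_hyps h hz
  have hd := NOne.DZeroPts.dz h.ctx.char2 S hz.pts (Cfg.P_norm_V S P) h.S_le h.V_le_S h1 h2 h3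
  set V := zl (S : Subgroup G) P with hV
  set Q := o2 (centralizer ({z 0} : Set G)) with hQ
  have hQQ : NOne.DZeroPts.QQ (z 0) = Q := by rw [NOne.DZeroPts.QQ, NOne.DZeroPts.CC_eq]
  -- five elements of `V ∩ Q`
  have m0 : z 0 ∈ V ⊓ Q := ⟨hz.mem 0, hL.z_mem⟩
  have mp : ∀ j k : Fin 5, j ≠ 0 → k ≠ 0 → j ≠ k → z j * z k ∈ V ⊓ Q := by
    intro j k hj hk hjk
    refine ⟨mul_mem (hz.mem j) (hz.mem k), ?_⟩
    have h4 := hd.le 0 (hd.pair 0 j k hj hk hjk)
    rwa [hQQ] at h4
  have n1 : ∀ j k : Fin 5, j ≠ k → z j * z k ≠ 1 := by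
    intro j k hjk e
    apply hjk
    apply hz.inj
    rw [eq_inv_of_mul_eq_one_left e, inv_eq_of_mul_eq_one_left (hz.sq k)]
  have n0 : ∀ j k : Fin 5, j ≠ 0 → k ≠ 0 → j ≠ k → z j * z k ≠ z 0 := by
    intro j k hj hk hjk e
    obtain ⟨l, m, hn⟩ := NOne.DZero.exists_two 0 j k (by simp [Ne.symm hj, Ne.symm hk, hjk])
    have h4 := hz.prod' 0 j k l m hn
    simp only [List.nodup_cons, List.mem_cons, List.not_mem_nil, or_false, not_or,
      not_false_eq_true, List.nodup_nil, and_true] at hn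
    refine n1 l m hn.2.2.2 ?_
    have h5 : z 0 * (z j * z k) * (z l * z m) = 1 := by rw [← h4]; group
    rwa [e, hz.sq, one_mul] at h5
  have np : ∀ a b c d : Fin 5, a ≠ b → c ≠ d → ¬ ((a = c ∧ b = d) ∨ (a = d ∧ b = c)) →
      z a * z b ≠ z c * z d := fun a b c d hab hcd hn e => hn (hd.pair_inj hab hcd e)
  have hfive : 5 ≤ Nat.card ↥(V ⊓ Q) := by
    classical
    let L : List G := [1, z 0, z 1 * z 2, z 1 * z 3, z 2 * z 3]
    have hnd : L.Nodup := by
      simp only [L, List.nodup_cons, List.mem_cons, List.not_mem_nil, or_false, not_or,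
        not_false_eq_true, List.nodup_nil, and_true]
      refine ⟨⟨(hz.ne_one 0).symm, (n1 1 2 (by decide)).symm, (n1 1 3 (by decide)).symm,
        (n1 2 3 (by decide)).symm⟩, ⟨(n0 1 2 (by decide) (by decide) (by decide)).symm,
        (n0 1 3 (by decide) (by decide) (by decide)).symm,
        (n0 2 3 (by decide) (by decide) (by decide)).symm⟩,
        ⟨np 1 2 1 3 (by decide) (by decide) (by decide), np 1 2 2 3 (by decide) (by decide) (by decide)⟩,
        np 1 3 2 3 (by decide) (by decide) (by decide)⟩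
    have hmem : ∀ x ∈ L.toFinset, x ∈ V ⊓ Q := by
      intro x hx
      simp only [L, List.mem_toFinset, List.mem_cons, List.not_mem_nil, or_false] at hx
      rcases hx with rfl | rfl | rfl | rfl | rfl
      · exact one_mem _
      · exact m0
      · exact mp 1 2 (by decide) (by decide) (by decide)
      · exact mp 1 3 (by decide) (by decide) (by decide)
      · exact mp 2 3 (by decide) (by decide) (by decide)
    have h4 : L.toFinset.card = 5 := List.toFinset_card_of_nodup hnd
    have h5 : (L.toFinset : Set G).ncard ≤ ((V ⊓ Q : Subgroup G) : Set G).ncard :=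
      Set.ncard_le_ncard hmem (Set.toFinite _)
    rw [Set.ncard_coe_finset, h4, ← Nat.card_coe_set_eq] at h5
    exact h5
  by_contra hcon
  push Not at hcon
  obtain ⟨n, hn⟩ := IsPGroup.iff_card.1 (MinSimple.VModule.o2_isPGroup (centralizer ({z 0} : Set G)))
  rw [← hQ] at hn
  have hdvd : Nat.card ↥(V ⊓ Q) ∣ 2 ^ n := by
    rw [← hn]; exact card_dvd_of_le inf_le_right
  obtain ⟨m, hm, hm'⟩ := (Nat.dvd_prime_pow Nat.prime_two).1 hdvd
  have h5 : 3 ≤ m := by
    by_contra hlt
    have : 2 ^ m ≤ 2 ^ 2 := Nat.pow_le_pow_right (by norm_num) (by omega)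
    omega
  have h6 : n ≤ 3 := by
    by_contra hlt
    have : 2 ^ 4 ≤ 2 ^ n := Nat.pow_le_pow_right (by norm_num) (by omega)
    omega
  have h7 : V ⊓ Q = Q := by
    apply Subgroup.eq_of_le_of_card_ge inf_le_right
    rw [hm', hn]
    exact Nat.pow_le_pow_right (by norm_num) (by omega)
  apply h3
  intro v hv
  have hvc : ∀ w ∈ V, v * w = w * v := fun w hw =>
    (mem_centralizer_iff.1 (h.V_comm hv) w hw).symm
  exact hL.self v (hvc _ (hz.mem 0)) fun x hx => hvc x (inf_eq_right.1 h7 hx)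

/-- **`EndMinus2`** (THEOREM D0). -/
theorem endMinus2 : EndMinus2.{u} := by
  intro G _ _ S P h z hz
  obtain ⟨h1, h2, h3⟩ := minus_hyps h hz
  have hL := NOne.DZeroPts.large h.ctx.char2 S hz.pts (Cfg.P_norm_V S P) h.S_le h.V_le_S h1 h2 h3
  exact sympl_of_large h.ctx.char2 hL (card_gt h hz hL)

end Cfsg.Agent.Omega.NO1
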