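import Cfsg.Agent.Omega.NO1.HE.Base
import Cfsg.Agent.Lib.SylowNormalInf
import Cfsg.Agent.ZN.ChoiceNse

/-!
# The points of `Y = P / C_P(V)` (N1): `HE.Pts Y (Y ⧸ M)`

`Top1 T M` : `M` is the unique maximal subgroup over the Sylow subgroup `T ≠ 1`, `O₂(Y) = 1`.
-/

set_option autoImplicit false
set_option linter.unusedSectionVars false

namespace Cfsg.Agent.Omega.NO1.FrRep

open Subgroup
open Cfsg.Agent.ZN.ChoiceBase (cj mem_cj cj_mono cj_one cj_cj cj_inv_cj cj_cj_inv cj_le_iff card_cj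
  mem_normalizer_iff_cj cj_eq_of_mem_normalizer mem_normalizer_of_cj_le isPGroup_cj cj_inf cj_normalizer)
open Cfsg.Agent.ZN.ChoiceSit (Syl syl_conj exists_syl)
open scoped Pointwise

universe u

variable {Y : Type u} [Group Y]

/-- `M` is the unique maximal subgroup over `T`. -/
structure Top1 (T : Sylow 2 Y) (M : Subgroup Y) : Prop where
  TM : (T : Subgroup Y) ≤ M
  M_ne : M ≠ ⊤
  max : ∀ X : Subgroup Y, (T : Subgroup Y) ≤ X → X ≠ ⊤ → X ≤ M
  o2 : ∀ N : Subgroup Y, N.Normal → IsPGroup 2 N → N = ⊥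
  T_ne : (T : Subgroup Y) ≠ ⊥

namespace Top1

variable {T : Sylow 2 Y} {M : Subgroup Y} (h : Top1 T M)
include h

theorem syl : Syl (T : Subgroup Y) M := ⟨h.TM, T.isPGroup', fun _ _ hQ hTQ => T.is_maximal' hQ hTQ⟩

theorem exists_m [Finite Y] {Q : Subgroup Y} (hQ : IsPGroup 2 Q) (hQM : Q ≤ M) : ∃ m ∈ M, cj m Q ≤ T := by
  obtain ⟨R, hR, hQR⟩ := exists_syl hQ hQM
  obtain ⟨m, hm, hm'⟩ := syl_conj hR h.syl
  exact ⟨m, hm, by rw [← hm']; exact cj_mono m hQR⟩

/-- 2-subgroups of the kernel on the points are trivial. -/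
theorem core [Finite Y] {Q : Subgroup Y} (hQ : IsPGroup 2 Q) (hQM : Q ≤ M.normalCore) : Q = ⊥ := by
  have hp : Fact (Nat.Prime 2) := ⟨Nat.prime_two⟩
  have hfr := Lib.SylowNormalInf.normalizer_inf_sup_eq_top T M.normalCore
  have hTn : (T : Subgroup Y) ≤ normalizer (((T : Subgroup Y) ⊓ M.normalCore : Subgroup Y) : Set Y) := by
    intro x hx
    rw [mem_normalizer_iff_cj, cj_inf, mem_normalizer_iff_cj.1 (le_normalizer hx)]
    congr 1
    rw [← mem_normalizer_iff_cj, normalizer_eq_top M.normalCore]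
    trivial
  have htop : normalizer (((T : Subgroup Y) ⊓ M.normalCore : Subgroup Y) : Set Y) = ⊤ := by
    by_contra hne
    have h1 := h.max _ hTn hne
    rw [sup_eq_left.2 ((normalCore_le M).trans ?_)] at hfr
    · exact hne hfr
    · exfalso
      apply h.M_ne
      rw [eq_top_iff, ← hfr]
      exact sup_le h1 (normalCore_le M)
  have h1 : (T : Subgroup Y) ⊓ M.normalCore = ⊥ :=
    h.o2 _ (normalizer_eq_top_iff.1 htop) (T.isPGroup'.to_le inf_le_left)
  obtain ⟨m, hm, hm'⟩ := h.exists_m hQ (hQM.trans (normalCore_le M))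
  have h2 : cj m Q ≤ (T : Subgroup Y) ⊓ M.normalCore := by
    refine le_inf hm' ?_
    have h3 : cj m Q ≤ cj m M.normalCore := cj_mono m hQM
    have h4 : m ∈ normalizer (M.normalCore : Set Y) := by rw [normalizer_eq_top M.normalCore]; trivial
    rwa [cj_eq_of_mem_normalizer h4] at h3
  rw [h1, le_bot_iff] at h2
  have h3 := congrArg (cj m⁻¹) h2
  rwa [cj_inv_cj, cj, Subgroup.map_bot] at h3

/-- `M` is self-normalising. -/
theorem norm_le [Finite Y] : normalizer (M : Set Y) ≤ M := by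
  by_cases hne : normalizer (M : Set Y) = ⊤
  · exfalso
    have hn : M.Normal := normalizer_eq_top_iff.1 hne
    apply h.T_ne
    refine h.core T.isPGroup' ?_
    rw [normalCore_eq_self M]
    exact h.TM
  · exact h.max _ (h.TM.trans le_normalizer) hne

/-- a conjugate of `M` over `T` is `M` -/
theorem mem_of_le [Finite Y] {x : Y} (hx : (T : Subgroup Y) ≤ cj x M) : x ∈ M := by
  have h1 : cj x M ≠ ⊤ := by
    intro h2
    apply h.M_ne
    have h3 := congrArg (cj x⁻¹) h2
    rw [cj_inv_cj] at h3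
    rw [h3, eq_top_iff]
    intro y _
    rw [mem_cj]
    trivial
  have h2 := h.max _ hx h1
  apply h.norm_le
  rw [mem_normalizer_iff_cj]
  exact Subgroup.eq_of_le_of_card_ge h2 (card_cj _ _).ge

theorem pts [Finite Y] : HE.Pts Y (Y ⧸ M) where
  tr p q := MulAction.exists_smul_eq Y p q
  one T' p q hp hq := by
    obtain ⟨g, rfl⟩ := MulAction.exists_smul_eq Y T T'
    have key : ∀ x : Y, HE.At (g • T) (x : Y ⧸ M) → g⁻¹ * x ∈ M := by
      intro x hx
      apply h.mem_of_le
      intro t ht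
      rw [mem_cj]
      have h1 := hx (g * t * g⁻¹) (by
        rw [HE.mem_smul_sylow]
        have e : g⁻¹ * (g * t * g⁻¹) * g = t := by group
        rwa [e])
      rw [MulAction.Quotient.smul_coe, smul_eq_mul, eq_comm, QuotientGroup.eq] at h1
      have e : x⁻¹ * (g * t * g⁻¹ * x) = (g⁻¹ * x)⁻¹ * t * (g⁻¹ * x) := by group
      rwa [e] at h1
    induction p using QuotientGroup.induction_on with
    | H x =>
      induction q using QuotientGroup.induction_on with
      | H y =>
        rw [QuotientGroup.eq]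
        have h1 := mul_mem (inv_mem (key x hp)) (key y hq)
        have e : (g⁻¹ * x)⁻¹ * (g⁻¹ * y) = x⁻¹ * y := by group
        rwa [e] at h1
  ex T' := by
    obtain ⟨g, rfl⟩ := MulAction.exists_smul_eq Y T T'
    refine ⟨((g : Y) : Y ⧸ M), fun t ht => ?_⟩
    rw [HE.mem_smul_sylow] at ht
    rw [MulAction.Quotient.smul_coe, smul_eq_mul, eq_comm, QuotientGroup.eq]
    have e : g⁻¹ * (t * g) = g⁻¹ * t * g := by group
    rw [e]
    exact h.TM ht
  ne p := by
    by_contra hcon
    push Not at hcon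
    apply h.M_ne
    rw [eq_top_iff]
    intro x _
    have h1 : ((x : Y) : Y ⧸ M) = ((1 : Y) : Y ⧸ M) := (hcon _).trans (hcon _).symm
    rw [eq_comm, QuotientGroup.eq, inv_one, one_mul] at h1
    exact h1
  ker R hR hfix := by
    refine h.core hR fun r hr x => ?_
    have h1 := hfix r hr ((x⁻¹ : Y) : Y ⧸ M)
    rw [MulAction.Quotient.smul_coe, smul_eq_mul, eq_comm, QuotientGroup.eq, inv_inv] at h1
    rwa [mul_assoc]

end Top1

end Cfsg.Agent.Omega.NO1.FrRep
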