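import Cfsg.Agent.Omega.NO1.Fr
import Cfsg.Agent.Omega.NO1.TwoBr
import Cfsg.Agent.Omega.NO1.FrPts

/-!
# The bridge from the frames of TEXT B4 to the modules of #17521 (helper438)

`Fr S P M F`, `R : Rep S P (zl S P) Y V T Mx`, (+) give `HE.Pts Y (Y ⧸ Mx)` and
`HE.Fr |V_P : V_P ∩ E_F| T 1 (V_P ∩ E_F) (V_P ∩ F) B`, `B` a complement of the image of `C_W(E)` in the image of
`W = W_F`.
-/

set_option autoImplicit false
set_option linter.unusedSectionVars false

namespace Cfsg.Agent.Omega.NO1.FrRep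

open Subgroup Cfsg Cfsg.Agent.ZN Cfsg.Agent.Omega.MinPar Cfsg.Agent.Omega.Frame
open Cfsg.Agent.Omega.NOne.Flat (Hyp Bad WW NN)
open Cfsg.Agent.Omega.NOne.NearFF (c c_def)
open scoped Pointwise

universe u

section compl

variable {Y : Type u} [Group Y] [Finite Y]

/-- Complements in elementary abelian 2-groups. -/
theorem exists_compl {U N : Subgroup Y} (hc : ∀ a ∈ U, ∀ b ∈ U, a * b = b * a) (hsq : ∀ a ∈ U, a * a = 1)
    (hN : N ≤ U) : ∃ B ≤ U, B ⊓ N = ⊥ ∧ ∀ u ∈ U, ∃ b ∈ B, ∃ n ∈ N, u = b * n := by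
  classical
  obtain ⟨B, hB⟩ := (Set.toFinite {B : Subgroup Y | B ≤ U ∧ B ⊓ N = ⊥}).exists_maximal
    ⟨⊥, bot_le, bot_inf_eq N⟩
  obtain ⟨⟨hBU, hBN⟩, hmax⟩ := hB
  refine ⟨B, hBU, hBN, fun u hu => ?_⟩
  by_contra hcon
  push Not at hcon
  have hu0 : u ∉ B := fun h1 => hcon u h1 1 (one_mem _) (mul_one u).symm
  let B' : Subgroup Y :=
    { carrier := {x | x ∈ B ∨ u * x ∈ B}
      mul_mem' := by
        rintro a b (ha | ha) (hb | hb)
        · exact Or.inl (mul_mem ha hb)
        · right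
          have e : u * (a * b) = a * (u * b) := by
            rw [← mul_assoc, hc u hu a (hBU ha), mul_assoc]
          rw [e]
          exact mul_mem ha hb
        · right
          rw [← mul_assoc]
          exact mul_mem ha hb
        · left
          have hbU : b ∈ U := by
            have := mul_mem hu (hBU hb)
            rwa [← mul_assoc, hsq u hu, one_mul] at this
          have haU : a ∈ U := by
            have := mul_mem hu (hBU ha)
            rwa [← mul_assoc, hsq u hu, one_mul] at this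
          have e : a * b = u * a * (u * b) := by
            calc a * b = u * u * (a * b) := by rw [hsq u hu, one_mul]
              _ = u * (u * a) * b := by group
              _ = u * (a * u) * b := by rw [hc u hu a haU]
              _ = _ := by group
          rw [e]
          exact mul_mem ha hb
      one_mem' := Or.inl (one_mem _)
      inv_mem' := by
        rintro a (ha | ha)
        · exact Or.inl (inv_mem ha)
        · right
          have haU : a ∈ U := by
            have := mul_mem hu (hBU ha)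
            rwa [← mul_assoc, hsq u hu, one_mul] at this
          have h1 : a⁻¹ = a := inv_eq_of_mul_eq_one_left (hsq a haU)
          rw [h1]
          exact ha }
  have h1 : B ≤ B' := fun x hx => Or.inl hx
  have h2 : B' ≤ U := by
    rintro x (hx | hx)
    · exact hBU hx
    · have := mul_mem hu (hBU hx)
      rwa [← mul_assoc, hsq u hu, one_mul] at this
  have h3 : B' ⊓ N = ⊥ := by
    rw [eq_bot_iff]
    rintro x ⟨hx, hxN⟩
    rcases hx with hx | hx
    · rw [← hBN]; exact ⟨hx, hxN⟩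
    · exfalso
      refine hcon _ hx x⁻¹ (inv_mem hxN) ?_
      group
  have h4 : B' ≤ B := hmax ⟨h2, h3⟩ h1
  exact hu0 (h4 (Or.inr (by rw [hsq u hu]; exact one_mem _)))

end compl

variable {G : Type u} [Group G] [Finite G] {S : Sylow 2 G} {P M F : Subgroup G}
  {Y V : Type u} [Group Y] [Finite Y] [AddCommGroup V] [DistribMulAction Y V] {T : Sylow 2 Y} {Mx : Subgroup Y}
  (R : Rep (S : Subgroup G) P (zl (S : Subgroup G) P) Y V T Mx)

/-- The additive subgroup of the module given by `A ≤ G`. -/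
def co (A : Subgroup G) : AddSubgroup V where
  carrier := {m | R.el m ∈ A}
  add_mem' := by
    intro a b ha hb
    change R.el (a + b) ∈ A
    rw [R.add]
    exact mul_mem ha hb
  zero_mem' := by
    change R.el 0 ∈ A
    rw [R.el_zero]
    exact one_mem _
  neg_mem' := by
    intro a ha
    have h1 : -a = a := neg_eq_of_add_eq_zero_left (R.two a)
    rw [h1]
    exact ha

theorem mem_co {A : Subgroup G} {m : V} : m ∈ co R A ↔ R.el m ∈ A := Iff.rfl

include R in
theorem ext_y {y y' : Y} (h : ∀ m : V, y • m = y' • m) : y = y' := by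
  have h1 : y'⁻¹ * y = 1 := R.faith _ fun m => by rw [mul_smul, h, inv_smul_smul]
  exact (inv_mul_eq_one.1 h1).symm

theorem el_c {s : G} (hs : s ∈ P) (m : V) : R.el (R.ac ⟨s, hs⟩ • m + m) = c (R.el m) s := by
  rw [add_comm, R.add, R.smul, c_def]
  have h1 : (R.el m)⁻¹ = R.el m := R.el_inv m
  rw [h1]
  group

theorem two_iff {a b : V} (R : Rep (S : Subgroup G) P (zl (S : Subgroup G) P) Y V T Mx) :
    a + b = 0 ↔ a = b := by
  constructor
  · intro h
    have h1 : a + b + b = b := by rw [h, zero_add]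
    rwa [add_assoc, R.two, add_zero] at h1
  · rintro rfl
    exact R.two a

section fr

variable (h : Fr S P M F)
include h

theorem W_le_P : WW (zl (S : Subgroup G) M) F ≤ P := h.W_le_S.trans h.cfg.S_le

include R in
theorem top1 : Top1 T Mx where
  TM := R.TM
  M_ne := R.Mne
  max := R.max
  o2 := R.core
  T_ne := by
    intro h1
    apply h.W_not
    have h2 : WW (zl (S : Subgroup G) M) F ≤ (S : Subgroup G) ⊓ centralizer (zl (S : Subgroup G) P : Set G) := by
      refine le_inf h.W_le_S fun s hs => ?_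
      have hsP := W_le_P h hs
      have h3 : R.ac ⟨s, hsP⟩ ∈ (T : Subgroup Y) := (R.mem_T _).2 ⟨⟨s, hsP⟩, h.W_le_S hs, rfl⟩
      rw [h1, mem_bot] at h3
      exact R.ac_eq_one.1 h3
    exact h2.trans h.cfg.S_inf_centralizer.le

/-- (+) for the module -/
theorem plus_of (hp : PlusAt (S : Subgroup G) P (NOne.Flat.EE (zl (S : Subgroup G) M) F)) {g : Y} {m : V}
    (hm : m ≠ 0) (hfix : ∀ t ∈ (T : Subgroup Y), t • m = m)
    (hE : R.el (g • m) ∈ NOne.Flat.EE (zl (S : Subgroup G) M) F) : g ∈ Mx := by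
  obtain ⟨⟨p, hpP⟩, rfl⟩ := R.acs g
  have hz : R.el m ∈ zc (S : Subgroup G) := by
    refine ChoiceBase.mem_zc.2 ⟨h.cfg.V_le_S (R.mem m), by rw [sq]; exact R.el_sq m, fun s hs => ?_⟩
    have hsP := h.cfg.S_le hs
    have h1 := hfix _ ((R.mem_T _).2 ⟨⟨s, hsP⟩, hs, rfl⟩)
    have h2 := R.smul ⟨s, hsP⟩ m
    rw [h1] at h2
    have h3 : R.el m = s * R.el m * s⁻¹ := h2
    calc s * R.el m = (s * R.el m * s⁻¹) * s := by group
      _ = R.el m * s := by rw [← h3]
  have hz1 : R.el m ≠ 1 := fun h1 => hm (R.el_eq_one.1 h1)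
  have h1 : (S : Subgroup G) ⊔ zpowers p ≠ P := by
    refine hp p hpP _ hz hz1 ?_
    have h2 := R.smul ⟨p, hpP⟩ m
    rw [h2] at hE
    exact hE
  by_contra hg
  apply h1
  have hSp : (S : Subgroup G) ⊔ zpowers p ≤ P := sup_le h.cfg.S_le (zpowers_le.2 hpP)
  -- `⟨T, g⟩ = Y`
  have h2 : (T : Subgroup Y) ⊔ zpowers (R.ac ⟨p, hpP⟩) = ⊤ := by
    by_contra hne
    exact hg (R.max _ le_sup_left hne (le_sup_right (a := (T : Subgroup Y)) (mem_zpowers _)))
  have h3 : P ≤ ((S : Subgroup G) ⊔ zpowers p) ⊔ (P ⊓ centralizer (zl (S : Subgroup G) P : Set G)) := by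
    intro x hx
    have h4 : R.ac ⟨x, hx⟩ ∈ R.im ((S : Subgroup G) ⊔ zpowers p) := by
      have h5 : (T : Subgroup Y) ⊔ zpowers (R.ac ⟨p, hpP⟩) ≤ R.im ((S : Subgroup G) ⊔ zpowers p) := by
        refine sup_le ?_ ?_
        · intro t ht
          obtain ⟨⟨s, hsP⟩, hs, rfl⟩ := (R.mem_T t).1 ht
          exact R.mem_im.2 ⟨s, hsP, le_sup_left (a := (S : Subgroup G)) hs, rfl⟩
        · rw [zpowers_le]
          exact R.mem_im.2 ⟨p, hpP, le_sup_right (a := (S : Subgroup G)) (mem_zpowers p), rfl⟩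
      rw [h2] at h5
      exact h5 (mem_top _)
    obtain ⟨a, haP, ha, hax⟩ := R.mem_im.1 h4
    have h6 : R.ac (⟨a, haP⟩⁻¹ * ⟨x, hx⟩) = 1 := by rw [map_mul, map_inv, hax, inv_mul_cancel]
    have h7 := R.ac_eq_one.1 h6
    have h8 : x = a * (a⁻¹ * x) := by group
    rw [h8]
    exact mul_mem (le_sup_left (a := (S : Subgroup G) ⊔ zpowers p) ha)
      (le_sup_right (a := (S : Subgroup G) ⊔ zpowers p) (mem_inf.2 ⟨P.mul_mem (P.inv_mem haP) hx, h7⟩))
  -- the unique maximal subgroup of `P` over `S`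
  obtain ⟨M₀, hM₀, hM₁⟩ := h.cfg.par.toIsMinPar.exists_max
  by_contra hne
  have h4 : (S : Subgroup G) ⊔ zpowers p ≤ M₀ := hM₁ _ le_sup_left (lt_of_le_of_ne hSp hne)
  have h5 : (S : Subgroup G) ⊔ (P ⊓ centralizer (zl (S : Subgroup G) P : Set G)) ≤ M₀ := by
    refine hM₁ _ le_sup_left (lt_of_le_of_ne (sup_le h.cfg.S_le inf_le_left) fun h6 => R.Mne ?_)
    rw [eq_top_iff]
    intro y _
    obtain ⟨⟨x, hx⟩, rfl⟩ := R.acs y
    apply R.TM
    have hx' := hx
    rw [← h6] at hx'
    have h7 : ((S : Subgroup G) ⊔ (P ⊓ centralizer (zl (S : Subgroup G) P : Set G))).subgroupOf P ≤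
        (T : Subgroup Y).comap R.ac := by
      have e1 : ((S : Subgroup G) ⊔ (P ⊓ centralizer (zl (S : Subgroup G) P : Set G))).subgroupOf P =
          (S : Subgroup G).subgroupOf P ⊔
            (P ⊓ centralizer (zl (S : Subgroup G) P : Set G)).subgroupOf P :=
        subgroupOf_sup h.cfg.S_le inf_le_left
      rw [e1]
      refine sup_le ?_ ?_
      · intro s hs
        exact (R.mem_T _).2 ⟨s, hs, rfl⟩
      · intro s hs
        have h8 : R.ac s = 1 := R.ac_eq_one.2 hs.2
        change R.ac s ∈ (T : Subgroup Y)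
        rw [h8]
        exact one_mem _
    exact h7 (show (⟨x, hx⟩ : P) ∈ _ from hx')
  exact hM₀.not_ge (h3.trans (sup_le h4 (le_sup_right.trans h5)))

/-- **The bridge.** -/
theorem exists_fr' (hp : PlusAt (S : Subgroup G) P (NOne.Flat.EE (zl (S : Subgroup G) M) F)) :
    ∃ B : Subgroup Y, HE.Fr ((co R (NOne.Flat.EE (zl (S : Subgroup G) M) F)).index) T ((1 : Y) : Y ⧸ Mx)
      (co R (NOne.Flat.EE (zl (S : Subgroup G) M) F)) (co R F) B := by
  have H := h.hyp
  have hfl := h.fdat.flat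
  have hWP := W_le_P h
  set VV : Subgroup G := zl (S : Subgroup G) M with hVV
  set E : Subgroup G := NOne.Flat.EE VV F with hE
  have hV : ∀ m : V, R.el m ∈ VV := fun m => h.VP_le (R.mem m)
  have hNW : NN VV F ≤ WW VV F := inf_le_left
  -- the image of `W`
  have hU : ∀ y ∈ R.im (WW VV F), ∃ (s : G) (hs : s ∈ P), s ∈ WW VV F ∧ R.ac ⟨s, hs⟩ = y := fun y hy => R.mem_im.1 hy
  have hcomm : ∀ a ∈ R.im (WW VV F), ∀ b ∈ R.im (WW VV F), a * b = b * a := by
    intro a ha b hb
    obtain ⟨s, hs, hsW, rfl⟩ := hU a ha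
    obtain ⟨t, ht, htW, rfl⟩ := hU b hb
    refine ext_y R fun m => R.inj ?_
    rw [mul_smul, mul_smul, R.smul, R.smul, R.smul, R.smul]
    exact hfl.ab s hsW t htW _ (R.mem m)
  have hsq : ∀ a ∈ R.im (WW VV F), a * a = 1 := by
    intro a ha
    obtain ⟨s, hs, hsW, rfl⟩ := hU a ha
    refine ext_y R fun m => R.inj ?_
    rw [mul_smul, R.smul, R.smul, one_smul]
    exact hfl.inv s hsW _ (R.mem m)
  have hNU : R.im (NN VV F) ≤ R.im (WW VV F) := by
    intro y hy
    obtain ⟨s, hs, hsN, rfl⟩ := R.mem_im.1 hy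
    exact R.mem_im.2 ⟨s, hs, hNW hsN, rfl⟩
  obtain ⟨B, hBU, hBN, hdec⟩ := exists_compl hcomm hsq hNU
  -- the elements of the image of `N`
  have hN1 : ∀ n ∈ R.im (NN VV F), ∀ m : V, n • m + m ∈ co R F := by
    intro n hn m
    obtain ⟨s, hs, hsN, rfl⟩ := R.mem_im.1 hn
    rw [mem_co, el_c]
    exact H.c_mem_F (hV m) hsN
  have hN2 : ∀ n ∈ R.im (NN VV F), ∀ m ∈ co R E, n • m = m := by
    intro n hn m hm
    obtain ⟨s, hs, hsN, rfl⟩ := R.mem_im.1 hn
    apply R.inj
    rw [R.smul]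
    have h1 : s * R.el m = R.el m * s := (mem_centralizer_iff.1 hsN.2 _ hm).symm
    change s * R.el m * s⁻¹ = R.el m
    rw [h1, mul_inv_cancel_right]
  have hFfix : ∀ b ∈ R.im (WW VV F), ∀ m ∈ co R F, b • m = m := by
    intro b hb m hm
    obtain ⟨s, hs, hsW, rfl⟩ := hU b hb
    rw [← two_iff R]
    apply R.inj
    rw [el_c, R.el_zero]
    exact NOne.Flat.Hyp.c_F hm hsW
  have hsurj : ∀ w, w ∉ co R E → ∀ e ∈ co R E, ∃ b ∈ B, b • w + w + e ∈ co R F := by
    intro w hw e he
    obtain ⟨s, hsW, f, hf, hfe⟩ := hfl.reg (R.el w) (R.mem w) (fun h1 => hw h1.2) (R.el e) ⟨R.mem e, he⟩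
    have hs := hWP hsW
    obtain ⟨b, hb, n, hn, hbn⟩ := hdec (R.ac ⟨s, hs⟩) (R.mem_im.2 ⟨s, hs, hsW, rfl⟩)
    refine ⟨b, hb, ?_⟩
    have h1 : R.ac ⟨s, hs⟩ • w + w + e ∈ co R F := by
      rw [mem_co, R.add, el_c, c_def]
      have e1 : R.el w * s * (R.el w)⁻¹ * s⁻¹ = (R.el w)⁻¹ * (s * R.el w * s⁻¹) := by
        rw [R.el_inv]; group
      rw [e1, hfe]
      have e2 : (R.el w)⁻¹ * (s * R.el w * s⁻¹) * ((R.el w)⁻¹ * (s * R.el w * s⁻¹) * f) = f := by
        have h2 : (R.el w)⁻¹ * (s * R.el w * s⁻¹) ∈ zl (S : Subgroup G) P := (zl (S : Subgroup G) P).mul_mem (inv_mem (R.mem w)) (hfl.norm s hsW _ (R.mem w))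
        have h3 := h.cfg.V_sq _ h2
        rw [← mul_assoc, ← sq, h3, one_mul]
      rw [e2]
      exact hf.2
    rw [hbn, mul_smul] at h1
    -- `b n w = b w + f`
    have h2 := hN1 n hn w
    have h3 : b • (n • w) = b • w + (n • w + w) := by
      have h4 : b • (n • w + w) = n • w + w := hFfix b (hBU hb) _ h2
      rw [smul_add] at h4
      calc b • (n • w) = b • (n • w) + (b • w + b • w) := by rw [R.two, add_zero]
        _ = (b • (n • w) + b • w) + b • w := by abel
        _ = b • w + (n • w + w) := by rw [h4, add_comm]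
    rw [h3] at h1
    have h5 : b • w + w + e = (b • w + (n • w + w) + w + e) + (n • w + w) := by
      have h6 : (b • w + (n • w + w) + w + e) + (n • w + w) =
          b • w + w + e + ((n • w + w) + (n • w + w)) := by abel
      rw [h6, R.two, add_zero]
    rw [h5]
    exact (co R F).add_mem h1 h2
  refine ⟨B, ?_⟩
  exact
    { at' := by
        intro t ht
        change ((t * 1 : Y) : Y ⧸ Mx) = ((1 : Y) : Y ⧸ Mx)
        rw [mul_one, eq_comm, QuotientGroup.eq, inv_one, one_mul]
        exact R.TM ht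
      ind := rfl
      BT := by
        intro b hb
        obtain ⟨s, hs, hsW, rfl⟩ := hU b (hBU hb)
        exact (R.mem_T _).2 ⟨⟨s, hs⟩, h.W_le_S hsW, rfl⟩
      comm := fun b hb b' hb' => hcomm b (hBU hb) b' (hBU hb')
      sq := fun b hb => hsq b (hBU hb)
      FE := fun m hm => H.F_lt_E.le hm
      VB := by
        intro b hb m
        obtain ⟨s, hs, hsW, rfl⟩ := hU b (hBU hb)
        rw [mem_co, el_c]
        exact H.c_memE (hV m) hsW
      EB := by
        intro b hb m hm
        obtain ⟨s, hs, hsW, rfl⟩ := hU b (hBU hb)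
        rw [mem_co, el_c]
        exact H.comm_EW hm hsW
      FB := fun b hb => hFfix b (hBU hb)
      CB := by
        intro v hv
        by_cases hvE : v ∈ co R E
        · -- `U` fixes `v`
          have h1 : R.el v ∈ zl (S : Subgroup G) P ⊓ centralizer (WW VV F : Set G) := by
            refine ⟨R.mem v, mem_centralizer_iff.2 fun s hsW => ?_⟩
            have hs := hWP hsW
            obtain ⟨b, hb, n, hn, hbn⟩ := hdec (R.ac ⟨s, hs⟩) (R.mem_im.2 ⟨s, hs, hsW, rfl⟩)
            have h2 : R.ac ⟨s, hs⟩ • v = v := by rw [hbn, mul_smul, hN2 n hn v hvE, hv b hb]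
            have h3 := R.smul ⟨s, hs⟩ v
            rw [h2] at h3
            have h4 : R.el v = s * R.el v * s⁻¹ := h3
            calc s * R.el v = (s * R.el v * s⁻¹) * s := by group
              _ = R.el v * s := by rw [← h4]
          rw [← hfl.F_eq] at h1
          exact h1.2
        · exfalso
          apply hfl.ne
          rintro e ⟨he, heE⟩
          obtain ⟨m, rfl⟩ := R.surj e he
          obtain ⟨b, hb, h1⟩ := hsurj v hvE m heE
          rw [hv b hb, R.two, zero_add] at h1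
          exact ⟨he, h1⟩
      inj := by
        intro w hw b hb h1
        obtain ⟨s, hs, hsW, rfl⟩ := hU b (hBU hb)
        rw [mem_co, el_c] at h1
        have h2 : s ∈ NN VV F := (H.c_mem_F_iff (hV w) hw hsW).1 h1
        have h3 : R.ac ⟨s, hs⟩ ∈ B ⊓ R.im (NN VV F) := ⟨hb, R.mem_im.2 ⟨s, hs, h2, rfl⟩⟩
        rw [hBN, mem_bot] at h3
        exact h3
      surj := hsurj
      ne := by
        obtain ⟨v, hv, hvE⟩ := SetLike.not_le_iff_exists.1 hfl.ne'
        obtain ⟨m, rfl⟩ := R.surj v hv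
        exact ⟨m, fun h1 => hvE ⟨hv, h1⟩⟩
      ne' := by
        obtain ⟨v, hv, hvF⟩ := SetLike.not_le_iff_exists.1 hfl.ne
        obtain ⟨m, rfl⟩ := R.surj v hv.1
        exact ⟨m, hv.2, fun h1 => hvF ⟨hv.1, h1⟩⟩
      plus := by
        rintro T' q hq ⟨v, hvE, hv0, hfix⟩
        obtain ⟨g, rfl⟩ := MulAction.exists_smul_eq Y T T'
        have h1 : g ∈ Mx := by
          refine plus_of R h hp (m := g⁻¹ • v) (fun h0 => hv0 ?_) (fun t ht => ?_) ?_
          · rwa [inv_smul_eq_iff, smul_zero] at h0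
          · have h2 := hfix (g * t * g⁻¹) (by
              rw [HE.mem_smul_sylow]
              have e : g⁻¹ * (g * t * g⁻¹) * g = t := by group
              rwa [e])
            rw [mul_smul, mul_smul, ← eq_inv_smul_iff] at h2
            exact h2
          · rw [smul_inv_smul]
            exact hvE
        have h2 := (top1 R h).pts.one (g • T) q ((1 : Y) : Y ⧸ Mx) hq ?_
        · exact h2
        · intro t ht
          rw [HE.mem_smul_sylow] at ht
          change ((t * 1 : Y) : Y ⧸ Mx) = ((1 : Y) : Y ⧸ Mx)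
          rw [mul_one, eq_comm, QuotientGroup.eq, inv_one, one_mul]
          have h3 := mul_mem (mul_mem h1 (R.TM ht)) (inv_mem h1)
          have e : g * (g⁻¹ * t * g) * g⁻¹ = t := by group
          rwa [e] at h3 }

end fr

theorem card_co {A : Subgroup G} : Nat.card (co R A) = Nat.card ↥(A ⊓ zl (S : Subgroup G) P) :=
  Nat.card_congr (Equiv.ofBijective (fun m : co R A => (⟨R.el m, m.2, R.mem m⟩ : ↥(A ⊓ zl (S : Subgroup G) P)))
    ⟨fun a b h => Subtype.ext (R.inj (congrArg Subtype.val h)), fun v => by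
      obtain ⟨m, hm⟩ := R.surj v v.2.2
      exact ⟨⟨m, by rw [mem_co, hm]; exact v.2.1⟩, Subtype.ext hm⟩⟩)

/-- `|V_P : V_P ∩ A|` in the module -/
theorem index_co {A : Subgroup G} : (co R A).index = A.relIndex (zl (S : Subgroup G) P) := by
  have h1 := (co R A).card_mul_index
  have h2 := NOne.Flat.card_mul_relIndex' (inf_le_right : A ⊓ zl (S : Subgroup G) P ≤ zl (S : Subgroup G) P)
  rw [inf_relIndex_right] at h2
  rw [R.card_M, ← h2, card_co] at h1
  exact Nat.eq_of_mul_eq_mul_left Nat.card_pos h1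

end Cfsg.Agent.Omega.NO1.FrRep
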