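import Cfsg.Agent.Omega.Node.NO1
import Cfsg.Agent.ZN.ChoiceNse

/-!
# LEMMA J of TEXT B4 (#15506; referees #15684, #15714, #15760), generic form

`V = ⟨Z^M⟩`, `Z = Ω₁(Z(S))`.

`Inv S P M` : `S, P ≤ M`, `V` elementary abelian, `N_G(T) ≤ M` for all `C_S(V) ≤ T ≤ S`.

* `inv_zero` : `Inv S P N_G(J(S))` if `V_P` has no offender;
* `Inv.step` : a new pair with a smaller `V`, from an `M`-invariant family of subgroups whose members in `S` lie
  in `O₂(P)`;
* `exists_min` : there is a pair with minimal `V`: every `M`-invariant family with a member in `S` which does not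
  centralise `V` has a member in `S` which is not in `O₂(P)`;
* `Inv.o2_le` : `O₂(C_G(D)) ≤ M` for `D ≤ V`.
-/

set_option autoImplicit false
set_option linter.unusedSectionVars false

namespace Cfsg.Agent.Omega.NO1.JMin

open Subgroup Cfsg Cfsg.Agent.ZN Cfsg.Agent.ZN.ChoiceBase Cfsg.Agent.Omega.MinPar Cfsg.Agent.Omega.Frame
open Cfsg.Agent.Omega.NO1
open Cfsg.Agent.ZN.ChoiceSit (Syl syl_conj exists_syl o2_le_syl)
open Cfsg.Agent.Omega.FFThm (OffM)
open Cfsg.Agent.PLocal.ThompsonJ (isElementaryAbelian_iff)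

universe u

variable {G : Type u} [Group G] [Finite G]

/-- The invariant of the recursion. -/
structure Inv (S P M : Subgroup G) : Prop where
  SM : S ≤ M
  PM : P ≤ M
  el : IsElementaryAbelian 2 (zl S M)
  J : ∀ T : Subgroup G, S ⊓ centralizer (zl S M : Set G) ≤ T → T ≤ S → normalizer (T : Set G) ≤ M

theorem zl_mono {S L M : Subgroup G} (h : L ≤ M) : zl S L ≤ zl S M :=
  MinSimple.VModule.zl_le (MinSimple.VModule.zc_le_zl S M) (h.trans (MinSimple.VModule.le_normalizer_zl S M))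

theorem cj_le_of {S : Subgroup G} {m : G} (hm : m ∈ normalizer (S : Set G)) : cj m S ≤ S :=
  (cj_eq_of_mem_normalizer hm).le

section step

variable {S P M : Subgroup G}

/-- The subgroup of the family `SS`: `⟨C_S(V), X ∈ SS, X ≤ S⟩`. -/
def KK (S M : Subgroup G) (SS : Set (Subgroup G)) : Subgroup G :=
  (S ⊓ centralizer (zl S M : Set G)) ⊔ sSup {X | X ∈ SS ∧ X ≤ S}

theorem KK_le (S M : Subgroup G) (SS : Set (Subgroup G)) : KK S M SS ≤ S :=
  sup_le inf_le_left (sSup_le fun _ h => h.2)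

theorem le_KK {S M : Subgroup G} {SS : Set (Subgroup G)} {X : Subgroup G} (h : X ∈ SS) (hX : X ≤ S) :
    X ≤ KK S M SS := (le_sSup (show X ∈ {X | X ∈ SS ∧ X ≤ S} from ⟨h, hX⟩)).trans le_sup_right

/-- An element of `M` which normalises a subgroup `T` between `KK` and `S` normalises `KK`. -/
theorem mem_normalizer_KK {SS : Set (Subgroup G)}
    (hSS : ∀ m ∈ M, ∀ X ∈ SS, cj m X ∈ SS) {T : Subgroup G} (hKT : KK S M SS ≤ T) (hTS : T ≤ S) {m : G}
    (hm : m ∈ M) (hmT : m ∈ normalizer (T : Set G)) : m ∈ normalizer (KK S M SS : Set G) := by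
  have hT := cj_eq_of_mem_normalizer hmT
  refine mem_normalizer_of_cj_le ?_
  rw [KK, cj, Subgroup.map_sup]
  refine sup_le ?_ ?_
  · refine le_trans ?_ (le_sup_left : S ⊓ centralizer (zl S M : Set G) ≤ KK S M SS)
    refine le_inf ?_ ?_
    · refine (cj_mono m ((le_sup_left : S ⊓ centralizer (zl S M : Set G) ≤ KK S M SS).trans hKT)).trans ?_
      exact hT.le.trans hTS
    · refine (cj_mono m inf_le_right).trans ?_
      rw [cj_centralizer, cj_eq_of_mem_normalizer (MinSimple.VModule.le_normalizer_zl S M hm)]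
  · rw [Subgroup.map_le_iff_le_comap]
    refine sSup_le fun X hX => ?_
    rw [← Subgroup.map_le_iff_le_comap]
    refine le_KK (hSS m hm X hX.1) ?_
    exact ((cj_mono m ((le_KK hX.1 hX.2).trans hKT)).trans hT.le).trans hTS

/-- `P` normalises `KK ≤ O₂(P)`. -/
theorem KK_le_o2 (hCS : S ⊓ centralizer (zl S P : Set G) ≤ o2 P) (h : Inv S P M) {SS : Set (Subgroup G)}
    (hle : ∀ X ∈ SS, X ≤ S → X ≤ o2 P) : KK S M SS ≤ o2 P := by
  refine sup_le ?_ (sSup_le fun X hX => hle X hX.1 hX.2)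
  exact (inf_le_inf_left S (centralizer_le (zl_mono h.PM))).trans hCS

/-- `KK` centralises the new `V`. -/
theorem KK_le_centralizer (SS : Set (Subgroup G)) :
    KK S M SS ≤ centralizer (zl S (M ⊓ normalizer (KK S M SS : Set G)) : Set G) := by
  rw [Subgroup.le_centralizer_iff]
  refine MinSimple.VModule.zl_le ?_ ?_
  · rw [Subgroup.le_centralizer_iff]
    exact (KK_le S M SS).trans (MinSimple.VModule.le_centralizer_zc S)
  · refine inf_le_right.trans ?_
    intro g hg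
    rw [mem_normalizer_iff_cj, cj_centralizer, cj_eq_of_mem_normalizer hg]

/-- **The step.** -/
theorem Inv.step (h : Inv S P M) (hS2 : o2 P ≤ S)
    (hCS : S ⊓ centralizer (zl S P : Set G) ≤ o2 P) {SS : Set (Subgroup G)}
    (hSS : ∀ m ∈ M, ∀ X ∈ SS, cj m X ∈ SS) (hle : ∀ X ∈ SS, X ≤ S → X ≤ o2 P) :
    Inv S P (M ⊓ normalizer (KK S M SS : Set G)) where
  SM := fun s hs => ⟨h.SM hs, mem_normalizer_KK hSS (KK_le S M SS) le_rfl (h.SM hs) (le_normalizer hs)⟩
  PM := fun p hp => ⟨h.PM hp, mem_normalizer_KK hSS (KK_le_o2 hCS h hle) hS2 (h.PM hp)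
    (MinSimple.VModule.le_normalizer_o2 P hp)⟩
  el := by
    have h1 : zl S (M ⊓ normalizer (KK S M SS : Set G)) ≤ zl S M := zl_mono inf_le_left
    have h2 := isElementaryAbelian_iff.1 h.el
    exact isElementaryAbelian_iff.2 ⟨fun a ha b hb => h2.1 a (h1 ha) b (h1 hb), fun a ha => h2.2 a (h1 ha)⟩
  J := by
    intro T hT hTS t ht
    have h1 : KK S M SS ≤ T := (le_inf (KK_le S M SS) (KK_le_centralizer SS)).trans hT
    have h2 : t ∈ M := h.J T (le_sup_left.trans h1) hTS ht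
    exact ⟨h2, mem_normalizer_KK hSS h1 hTS h2 ht⟩

end step

section zero

variable {S : Sylow 2 G} {P : Subgroup G}

theorem V_el (hG : IsCharacteristicTwoType G) (hP : IsParS (S : Subgroup G) P) :
    IsElementaryAbelian 2 (zl (S : Subgroup G) P) := by
  have h1 := hP.isLoc.zl_le S hG
  refine isElementaryAbelian_iff.2 ⟨fun a ha b hb => ?_, fun a ha => MinSimple.VModule.zc_sq _ _ (h1 ha)⟩
  exact MinSimple.VModule.zc_comm _ _ (h1 ha) _ (h1 hb)

theorem jj_le_o2 (hG : IsCharacteristicTwoType G) (hP : IsParS (S : Subgroup G) P)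
    (hoff : NoOff (S : Subgroup G) P) : jj (S : Subgroup G) ≤ o2 P := by
  rw [jj_eq, ← hP.inf_centralizer S hG]
  refine sSup_le fun A hA => le_inf hA.2.1 ?_
  by_contra hne
  have hVS : zl (S : Subgroup G) P ≤ S :=
    ((hP.isLoc.zl_le S hG).trans (MinSimple.VModule.zc_le _)).trans (hP.isLoc.o2_le S)
  exact hoff A (hA.2.1.trans hP.isLoc.le) (FFThm.off_of_AA (V_el hG hP) hVS hA hne).offM

/-- The start `M = N_G(J(S))`. -/
theorem inv_zero (hG : IsCharacteristicTwoType G) (hP : IsParS (S : Subgroup G) P)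
    (hoff : NoOff (S : Subgroup G) P) :
    Inv (S : Subgroup G) P (normalizer (jj (S : Subgroup G) : Set G)) := by
  have hV : zl (S : Subgroup G) (normalizer (jj (S : Subgroup G) : Set G)) ≤ zj (S : Subgroup G) := by
    refine MinSimple.VModule.zl_le (ChoiceBase.zc_le_zj _) ?_
    intro g hg
    have h1 := cj_eq_of_mem_normalizer hg
    rw [mem_normalizer_iff_cj, ← zj_cj]
    refine zj_congr ?_
    rw [jj_cj, h1]
  refine ⟨le_normalizer.trans (normalizer_le_jj _), ?_, ?_, ?_⟩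
  · have h1 : jj (o2 P) = jj (S : Subgroup G) := jj_eq_of_jj_le (jj_le_o2 hG hP hoff) (hP.isLoc.o2_le S)
    rw [← h1]
    exact (MinSimple.VModule.le_normalizer_o2 P).trans (normalizer_le_jj _)
  · refine isElementaryAbelian_iff.2 ⟨fun a ha b hb => ?_, fun a ha => (ChoiceBase.mem_zj.1 (hV ha)).2.1⟩
    exact (ChoiceBase.mem_zj.1 (hV hb)).2.2 a (ChoiceBase.mem_zj.1 (hV ha)).1
  · intro T hT hTS
    have h1 : jj (S : Subgroup G) ≤ T := by
      refine le_trans (le_inf (ChoiceBase.jj_le _) ?_) hT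
      rw [Subgroup.le_centralizer_iff]
      refine hV.trans fun x hx => mem_centralizer_iff.2 fun y hy => (ChoiceBase.mem_zj.1 hx).2.2 y hy
    rw [← jj_eq_of_jj_le h1 hTS]
    exact normalizer_le_jj T

/-- **LEMMA J**, generic form. -/
theorem exists_min' (hG : IsCharacteristicTwoType G) (hP : IsParS (S : Subgroup G) P)
    (hoff : NoOff (S : Subgroup G) P) :
    ∃ M : Subgroup G, Inv (S : Subgroup G) P M ∧
      ∀ SS : Set (Subgroup G), (∀ m ∈ M, ∀ X ∈ SS, cj m X ∈ SS) →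
        (∃ X ∈ SS, X ≤ S ∧ ¬ X ≤ centralizer (zl (S : Subgroup G) M : Set G)) →
        ∃ X ∈ SS, X ≤ S ∧ ¬ X ≤ o2 P := by
  obtain ⟨M, hM, hmin⟩ := Set.exists_min_image {M : Subgroup G | Inv (S : Subgroup G) P M}
    (fun M => Nat.card (zl (S : Subgroup G) M)) (Set.toFinite _) ⟨_, inv_zero hG hP hoff⟩
  refine ⟨M, hM, fun SS hSS hex => ?_⟩
  by_contra hcon
  push Not at hcon
  obtain ⟨X, hX, hXS, hXC⟩ := hex
  have h1 := Inv.step hM (hP.isLoc.o2_le S) (hP.inf_centralizer S hG).le hSS hcon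
  have h2 := hmin _ h1
  have h3 : zl (S : Subgroup G) (M ⊓ normalizer (KK (S : Subgroup G) M SS : Set G)) = zl (S : Subgroup G) M :=
    Subgroup.eq_of_le_of_card_ge (zl_mono inf_le_left) h2
  apply hXC
  rw [← h3]
  exact (le_KK hX hXS).trans (KK_le_centralizer SS)

/-- **LEMMA J**, generic form, for N1. -/
theorem exists_min (h : Cfg S P) (hoff : NoOff (S : Subgroup G) P) :
    ∃ M : Subgroup G, Inv (S : Subgroup G) P M ∧
      ∀ SS : Set (Subgroup G), (∀ m ∈ M, ∀ X ∈ SS, cj m X ∈ SS) →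
        (∃ X ∈ SS, X ≤ S ∧ ¬ X ≤ centralizer (zl (S : Subgroup G) M : Set G)) →
        ∃ X ∈ SS, X ≤ S ∧ ¬ X ≤ o2 P :=
  exists_min' h.ctx.char2 h.one.star hoff

end zero

section o2

variable {S : Sylow 2 G} {P M : Subgroup G}

theorem syl_cj {T X : Subgroup G} (h : Syl T X) (g : G) : Syl (cj g T) (cj g X) := by
  refine ⟨cj_mono g h.1, isPGroup_cj g h.2.1, fun Q hQ hQ2 hle => ?_⟩
  have h1 := h.2.2 (cj g⁻¹ Q) (by rw [cj_le_iff, inv_inv]; exact hQ) (isPGroup_cj _ hQ2)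
    (by rw [← cj_le_iff]; exact hle)
  rw [← h1, cj_cj_inv]

/-- In the case `T = C_S(D)`. -/
theorem Inv.syl_base (h : Inv (S : Subgroup G) P M) {D : Subgroup G} (hD : D ≤ zl (S : Subgroup G) M)
    (hT : Syl ((S : Subgroup G) ⊓ centralizer (D : Set G)) (M ⊓ centralizer (D : Set G))) :
    Syl ((S : Subgroup G) ⊓ centralizer (D : Set G)) (centralizer (D : Set G)) := by
  refine ⟨inf_le_right, hT.2.1, fun Q hQ hQ2 hle => ?_⟩
  have hN : normalizer (((S : Subgroup G) ⊓ centralizer (D : Set G) : Subgroup G) : Set G) ≤ M :=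
    h.J _ (inf_le_inf_left _ (centralizer_le hD)) inf_le_left
  refine (ZN.ChoiceNse.eq_of_normalizer_inf_le hQ2 hle ?_).symm
  exact (hT.2.2 _ (le_inf (inf_le_left.trans hN) (inf_le_right.trans hQ)) (hQ2.to_le inf_le_right)
    (le_inf le_normalizer hle)).le

/-- A Sylow 2-subgroup `T` of `C_M(D)`, `D ≤ V`, has an `M`-conjugate `C_S(D^m)`. -/
theorem Inv.exists_conj (h : Inv (S : Subgroup G) P M) {D T : Subgroup G}
    (hT : Syl T (M ⊓ centralizer (D : Set G))) : ∃ m ∈ M,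
      cj m T = (S : Subgroup G) ⊓ centralizer (cj m D : Set G) ∧
        Syl ((S : Subgroup G) ⊓ centralizer (cj m D : Set G)) (M ⊓ centralizer (cj m D : Set G)) := by
  have hS : Syl (S : Subgroup G) M := ⟨h.SM, S.isPGroup', fun Q _ hQ hSQ => S.is_maximal' hQ hSQ⟩
  obtain ⟨R, hR, hTR⟩ := exists_syl hT.2.1 (hT.1.trans inf_le_left)
  obtain ⟨m, hm, hm'⟩ := syl_conj hR hS
  have hM : cj m M = M := cj_eq_of_mem_normalizer (le_normalizer hm)
  have h1 : Syl (cj m T) (M ⊓ centralizer (cj m D : Set G)) := by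
    have := syl_cj hT m
    rwa [cj_inf, hM, cj_centralizer] at this
  have h2 : cj m T = (S : Subgroup G) ⊓ centralizer (cj m D : Set G) := by
    refine (h1.2.2 _ (inf_le_inf_right _ h.SM) (S.isPGroup'.to_le inf_le_left) ?_).symm
    refine le_inf ?_ (h1.1.trans inf_le_right)
    rw [← hm']
    exact cj_mono m hTR
  exact ⟨m, hm, h2, h2 ▸ h1⟩

/-- `N_G(T) ≤ M` for a Sylow 2-subgroup `T` of `C_M(D)`, `D ≤ V`. -/
theorem Inv.normalizer_le (h : Inv (S : Subgroup G) P M) {D T : Subgroup G} (hD : D ≤ zl (S : Subgroup G) M)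
    (hT : Syl T (M ⊓ centralizer (D : Set G))) : normalizer (T : Set G) ≤ M := by
  obtain ⟨m, hm, h1, -⟩ := h.exists_conj hT
  have hV := cj_eq_of_mem_normalizer (MinSimple.VModule.le_normalizer_zl (S : Subgroup G) M hm)
  have h2 : normalizer (cj m T : Set G) ≤ M := by
    rw [h1]
    refine h.J _ (inf_le_inf_left _ (centralizer_le ?_)) inf_le_left
    exact (cj_mono m hD).trans hV.le
  rw [← cj_normalizer] at h2
  have h3 := cj_le_iff.1 h2
  rwa [cj_eq_of_mem_normalizer (le_normalizer (inv_mem hm))] at h3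

/-- **(i)**: a Sylow 2-subgroup of `C_M(D)` is Sylow in `C_G(D)`. -/
theorem Inv.syl (h : Inv (S : Subgroup G) P M) {D T : Subgroup G} (hD : D ≤ zl (S : Subgroup G) M)
    (hT : Syl T (M ⊓ centralizer (D : Set G))) : Syl T (centralizer (D : Set G)) := by
  refine ⟨hT.1.trans inf_le_right, hT.2.1, fun Q hQ hQ2 hle => ?_⟩
  refine (ZN.ChoiceNse.eq_of_normalizer_inf_le hQ2 hle ?_).symm
  exact (hT.2.2 _ (le_inf (inf_le_left.trans (h.normalizer_le hD hT)) (inf_le_right.trans hQ))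
    (hQ2.to_le inf_le_right) (le_inf le_normalizer hle)).le

theorem exists_syl_of (X : Subgroup G) : ∃ T, Syl T X := by
  obtain ⟨T, hT, -⟩ := exists_syl (T := (⊥ : Subgroup G)) (X := X) IsPGroup.of_bot bot_le
  exact ⟨T, hT⟩

/-- **(i)**: `O₂(C_G(D)) ≤ M`. -/
theorem Inv.o2_le (h : Inv (S : Subgroup G) P M) {D : Subgroup G} (hD : D ≤ zl (S : Subgroup G) M) :
    o2 (centralizer (D : Set G)) ≤ M := by
  obtain ⟨T, hT⟩ := exists_syl_of (M ⊓ centralizer (D : Set G))
  exact (o2_le_syl (h.syl hD hT)).trans (hT.1.trans inf_le_left)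

end o2

end Cfsg.Agent.Omega.NO1.JMin
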