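import Cfsg.Agent.Omega.NOne.NearFF

/-!
# (BT), tool (KS) of text #13107 (helper620): Krull-Schmidt for near data

`h : NearTwo V E D F v`, i.e. `Near` with `|V : E| = 2` and `D ≠ F`.  If `V = V' × V''` with `V'`, `V''` normalised by
`F`, then `F` centralises `V'` or `V''`; the same for more than two summands: `F` centralises all but one of them.
-/

set_option autoImplicit false

namespace Cfsg.Agent.Omega.NO1.KS

open Subgroup Cfsg Cfsg.Agent.Omega.NOne.NearFF
open scoped Pointwise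

universe u

variable {G : Type u} [Group G]

/-- Near data with `|V : E| = 2` and `D ≠ F`. -/
structure NearTwo (V E D F : Subgroup G) (v : G) : Prop extends Near V E D F v where
  idx : ∀ w ∈ V, w ∈ E ∨ v * w ∈ E
  ne : D ≠ F

/-- `V` is the direct product of the `F`-invariant subgroups `A` and `B`. -/
structure Dec (V F A B : Subgroup G) : Prop where
  le₁ : A ≤ V
  le₂ : B ≤ V
  ex : ∀ w ∈ V, ∃ a ∈ A, ∃ b ∈ B, w = a * b
  inf : ∀ w ∈ A, w ∈ B → w = 1
  inv₁ : ∀ a ∈ A, ∀ f ∈ F, f * a * f⁻¹ ∈ A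
  inv₂ : ∀ b ∈ B, ∀ f ∈ F, f * b * f⁻¹ ∈ B

namespace Dec

variable {V F A B : Subgroup G}

theorem c₁ (d : Dec V F A B) {a f : G} (ha : a ∈ A) (hf : f ∈ F) : c a f ∈ A := by
  have h1 : c a f = a * (f * a * f⁻¹)⁻¹ := by rw [c]; group
  rw [h1]
  exact mul_mem ha (inv_mem (d.inv₁ a ha f hf))

theorem c₂ (d : Dec V F A B) {a f : G} (ha : a ∈ B) (hf : f ∈ F) : c a f ∈ B := by
  have h1 : c a f = a * (f * a * f⁻¹)⁻¹ := by rw [c]; group
  rw [h1]
  exact mul_mem ha (inv_mem (d.inv₂ a ha f hf))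

theorem symm {E D : Subgroup G} {v : G} (d : Dec V F A B) (h : Near V E D F v) : Dec V F B A where
  le₁ := d.le₂
  le₂ := d.le₁
  ex := fun w hw => by
    obtain ⟨a, ha, b, hb, e⟩ := d.ex w hw
    exact ⟨b, hb, a, ha, by rw [e, h.V_comm (d.le₁ ha) (d.le₂ hb)]⟩
  inf := fun w h1 h2 => d.inf w h2 h1
  inv₁ := d.inv₂
  inv₂ := d.inv₁

end Dec

theorem comm_of_c {a f : G} (h : c a f = 1) : a * f = f * a := by
  rw [c] at h
  have h1 : a * f * (f * a)⁻¹ = 1 := by rw [mul_inv_rev, ← mul_assoc]; exact h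
  exact mul_inv_eq_one.1 h1

theorem c_of_comm {a f : G} (h : a * f = f * a) : c a f = 1 := by
  rw [c, h, mul_inv_cancel_right, mul_inv_cancel]

namespace NearTwo

variable {V E D F A B : Subgroup G} {v : G}

theorem mul_right (h : NearTwo V E D F v) {e : G} (he : e ∈ E) : NearTwo V E D F (v * e) where
  toNear := h.toNear.mul_right he
  idx := fun w hw => by
    rcases h.idx w hw with h1 | h1
    · exact Or.inl h1
    · right
      have h2 : v * e * w = e * (v * w) := by
        rw [h.V_comm h.vV (h.EV he), mul_assoc]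
      rw [h2]
      exact mul_mem he h1
  ne := h.ne

theorem sq_one (h : NearTwo V E D F v) {w : G} (hw : w ∈ V) : w * w = 1 := by
  have := h.Vsq w hw
  rwa [pow_two] at this

/-- the main step: `v` in the first factor -/
theorem ks_aux [Finite G] (h : NearTwo V E D F v) (d : Dec V F A B) (hv : v ∈ A) :
    ∀ b ∈ B, ∀ f ∈ F, b * f = f * b := by
  -- `B ≤ E`
  have hBE : ∀ b ∈ B, b ∈ E := by
    intro b hb
    rcases h.idx b (d.le₂ hb) with h1 | h1
    · exact h1
    · exfalso
      -- `[v b, f] ∈ D`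
      have key : ∀ f ∈ F, ∀ f' ∈ F, c (c v f) f' = 1 := by
        intro f hf f' hf'
        have h2 : c (v * b) f ∈ D := h.c_memD h1 hf
        have h3 : c (c (v * b) f) f' = 1 := h.c_D h2 hf'
        rw [h.c_mul_left h.vV (d.le₂ hb) hf,
          h.c_mul_left (h.c_memV h.vV hf) (h.c_memV (d.le₂ hb) hf) hf'] at h3
        have h4 : c (c v f) f' ∈ A := d.c₁ (d.c₁ hv hf) hf'
        have h5 : c (c b f) f' ∈ B := d.c₂ (d.c₂ hb hf) hf'
        have h6 : c (c v f) f' ∈ B := by
          have : c (c v f) f' = (c (c b f) f')⁻¹ := eq_inv_of_mul_eq_one_left h3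
          rw [this]
          exact inv_mem h5
        exact d.inf _ h4 h6
      -- `F` centralises `E`
      have hE : ∀ e ∈ E, ∀ f ∈ F, c e f = 1 := by
        intro e he f hf
        obtain ⟨k, hk, hke⟩ := h.surj he
        have h2 : c v k * e⁻¹ * e = c v k := inv_mul_cancel_right _ _
        have h3 : c (c v k) f = 1 := key k hk f hf
        rw [← h2, h.c_mul_left (h.DV hke) (h.EV he) hf, h.c_D hke hf, one_mul] at h3
        exact h3
      apply h.ne
      apply le_antisymm h.DF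
      intro f hf
      have h2 : c (v * b) f = 1 := hE _ h1 f hf
      rw [h.c_mul_left h.vV (d.le₂ hb) hf] at h2
      have h3 : c v f ∈ B := by
        have : c v f = (c b f)⁻¹ := eq_inv_of_mul_eq_one_left h2
        rw [this]
        exact inv_mem (d.c₂ hb hf)
      have h4 : c v f = 1 := d.inf _ (d.c₁ hv hf) h3
      refine h.inj f hf ?_
      change c v f ∈ D
      rw [h4]
      exact one_mem _
  intro b hb f hf
  apply comm_of_c
  obtain ⟨k, hk, hkb⟩ := h.surj (hBE b hb)
  have h2 : c v k * b⁻¹ * b = c v k := inv_mul_cancel_right _ _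
  have h3 : c (c v k) f = c b f := by
    rw [← h2, h.c_mul_left (h.DV hkb) (d.le₂ hb) hf, h.c_D hkb hf, one_mul]
  have h4 : c (c v k) f ∈ A := d.c₁ (d.c₁ hv hk) hf
  rw [h3] at h4
  exact d.inf _ h4 (d.c₂ hb hf)

/-- **(KS)**: `F` centralises one of two complementary `F`-invariant subgroups of `V`. -/
theorem ks [Finite G] (h : NearTwo V E D F v) (d : Dec V F A B) :
    (∀ a ∈ A, ∀ f ∈ F, a * f = f * a) ∨ (∀ b ∈ B, ∀ f ∈ F, b * f = f * b) := by
  obtain ⟨a, ha, b, hb, e⟩ := d.ex v h.vV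
  by_cases hbE : b ∈ E
  · right
    have h1 : a = v * b := by rw [e, mul_assoc, h.sq_one (d.le₂ hb), mul_one]
    have h2 := h.mul_right hbE
    rw [← h1] at h2
    exact h2.ks_aux d ha
  · left
    have haE : a ∈ E := by
      rcases h.idx b (d.le₂ hb) with h1 | h1
      · exact absurd h1 hbE
      · rwa [e, mul_assoc, h.sq_one (d.le₂ hb), mul_one] at h1
    have h1 : b = v * a := by
      rw [e, h.V_comm (d.le₁ ha) (d.le₂ hb), mul_assoc, h.sq_one (d.le₁ ha), mul_one]
    have h2 := h.mul_right haE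
    rw [← h1] at h2
    exact h2.ks_aux (d.symm h.toNear) hb

/-- `F` does not centralise `V`. -/
theorem not_cent (h : NearTwo V E D F v) (hc : ∀ w ∈ V, ∀ f ∈ F, w * f = f * w) : False := by
  apply h.ne
  apply le_antisymm h.DF
  intro f hf
  refine h.inj f hf ?_
  change c v f ∈ D
  rw [c_of_comm (hc v h.vV f hf)]
  exact one_mem _

/-- **(KS)**, any number of summands. -/
theorem ks_iSup [Finite G] (h : NearTwo V E D F v) {ι : Type*} (P : ι → Subgroup G) (hP : ∀ i, P i ≤ V)
    (hsup : V ≤ ⨆ i, P i) (hind : iSupIndep P) (hinv : ∀ i, ∀ a ∈ P i, ∀ f ∈ F, f * a * f⁻¹ ∈ P i) :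
    ∃ i₀, (¬ ∀ a ∈ P i₀, ∀ f ∈ F, a * f = f * a) ∧ ∀ j, j ≠ i₀ → ∀ a ∈ P j, ∀ f ∈ F, a * f = f * a := by
  classical
  have hF : ∀ (S : ι → Prop), ∀ w ∈ ⨆ i, ⨆ _ : S i, P i, ∀ f ∈ F, f * w * f⁻¹ ∈ ⨆ i, ⨆ _ : S i, P i := by
    intro S w hw f hf
    have h1 : (⨆ i, ⨆ _ : S i, P i) ≤ (⨆ i, ⨆ _ : S i, P i).comap (MulAut.conj f).toMonoidHom := by
      refine iSup_le fun i => iSup_le fun hi a ha => ?_
      exact (le_iSup₂ (f := fun i (_ : S i) => P i) i hi) (hinv i a ha f hf)
    exact h1 hw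
  by_cases hall : ∀ i, ∀ a ∈ P i, ∀ f ∈ F, a * f = f * a
  · exfalso
    refine h.not_cent fun w hw f hf => ?_
    have h1 : (⨆ i, P i) ≤ centralizer {f} :=
      iSup_le fun i a ha => mem_centralizer_singleton_iff.2 (hall i a ha f hf)
    exact mem_centralizer_singleton_iff.1 (h1 (hsup hw))
  · push Not at hall
    obtain ⟨i₀, a₀, ha₀, f₀, hf₀, hne⟩ := hall
    refine ⟨i₀, fun hc => hne (hc a₀ ha₀ f₀ hf₀), ?_⟩
    have hle : (⨆ j, ⨆ _ : j ≠ i₀, P j) ≤ V := iSup_le fun j => iSup_le fun _ => hP j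
    have hd : Dec V F (P i₀) (⨆ j, ⨆ _ : j ≠ i₀, P j) := by
      refine ⟨hP i₀, hle, ?_, ?_, hinv i₀, hF _⟩
      · intro w hw
        have h1 : (⨆ i, P i) ≤ P i₀ ⊔ ⨆ j, ⨆ _ : j ≠ i₀, P j := by
          refine iSup_le fun i => ?_
          by_cases hi : i = i₀
          · subst hi; exact le_sup_left
          · exact le_sup_of_le_right (le_iSup_of_le i (le_iSup_of_le hi le_rfl))
        have h2 := h1 (hsup hw)
        have hn : (⨆ j, ⨆ _ : j ≠ i₀, P j) ≤ normalizer (P i₀ : Set G) := by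
          intro x hx
          have hxc : ∀ a ∈ P i₀, x * a * x⁻¹ = a := fun a ha => by
            rw [h.V_comm (hle hx) (hP i₀ ha), mul_inv_cancel_right]
          rw [mem_normalizer_iff]
          intro a
          constructor
          · intro ha
            rw [hxc a ha]; exact ha
          · intro ha
            have h3 := hxc _ ha
            have h4 : x * a * x⁻¹ = a := by
              have h5 : x * (x * a * x⁻¹) * x⁻¹ = x * a * x⁻¹ := h3
              have h6 : x * a * x⁻¹ = a := by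
                have := mul_left_cancel (mul_right_cancel h5)
                exact this
              exact h6
            rwa [h4] at ha
        have h3 : w ∈ ((P i₀ ⊔ ⨆ j, ⨆ _ : j ≠ i₀, P j : Subgroup G) : Set G) := h2
        rw [Subgroup.coe_mul_of_right_le_normalizer_left _ _ hn] at h3
        obtain ⟨a, ha, b, hb, e⟩ := h3
        exact ⟨a, ha, b, hb, e.symm⟩
      · intro w h1 h2
        have := (hind i₀).le_bot ⟨h1, h2⟩
        exact this
    rcases h.ks hd with h1 | h1
    · exact absurd (h1 a₀ ha₀ f₀ hf₀) hne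
    · intro j hj a ha f hf
      exact h1 a ((le_iSup₂ (f := fun i (_ : i ≠ i₀) => P i) j hj) ha) f hf

end NearTwo

end Cfsg.Agent.Omega.NO1.KS
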