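import Cfsg.Agent.Omega.Transv.Basic

/-!
# Mini-McLaughlin (theorem NAT of NO-1', step (4))

`K` acts on the finite `F₂`-space `V`, `N` is a normal subgroup of `K`; `Phi N a` is the space of the functionals `φ`
such that the transvection `v ↦ v + φ v • a` is induced by `N`.  `Pts` is a transitive `K`-set of centres that spans `V`, `dim Phi N a ≥ 2`, and
the functionals have no common zero.  Then `V` is the direct sum of subspaces `comp p` all of whose nonzero vectors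
are centres, and `Phi N p` is the space of all functionals of `comp p` that vanish at `p`.
-/

set_option autoImplicit false

namespace Cfsg.Agent.Omega.NO1.MiniMcL

open Cfsg.Agent.Omega.Transv

variable {K : Type*} [Group K] {V : Type*} [AddCommGroup V] [Module (ZMod 2) V] [DistribMulAction K V]

/-- the functionals of the transvections with centre `a` that are induced by `N` -/
def Phi (N : Subgroup K) (a : V) : Submodule (ZMod 2) (Du V) where
  carrier := {φ | φ a = 0 ∧ ∃ d ∈ N, ∀ v : V, d • v = v + φ v • a}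
  add_mem' := by
    rintro φ ψ ⟨h1, d, hN, hd⟩ ⟨h2, e, hN', he⟩
    refine ⟨by rw [LinearMap.add_apply, h1, h2, add_zero], d * e, mul_mem hN hN', fun v => ?_⟩
    rw [mul_smul, he, hd, map_add, map_smul, h1, smul_zero, add_zero, LinearMap.add_apply, add_smul]
    abel
  zero_mem' := ⟨rfl, 1, one_mem N, fun v => by simp⟩
  smul_mem' := by
    rintro c φ ⟨h1, d, hN, hd⟩
    rcases zmod_cases c with h | h
    · subst h
      exact ⟨by simp, 1, one_mem N, fun v => by simp⟩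
    · subst h
      exact ⟨by simp [h1], d, hN, fun v => by simp [hd]⟩

variable {N : Subgroup K}

theorem mem_Phi {a : V} {φ : Du V} :
    φ ∈ Phi N a ↔ φ a = 0 ∧ ∃ d ∈ N, ∀ v : V, d • v = v + φ v • a := Iff.rfl

theorem Phi_self {a : V} {φ : Du V} (h : φ ∈ Phi N a) : φ a = 0 := h.1

theorem Phi_tv {a : V} {φ : Du V} (ha : a ≠ 0) (h : φ ∈ Phi N a) (h0 : φ ≠ 0) :
    ∃ d ∈ N, Tv d a φ := by
  obtain ⟨d, hN, hd⟩ := h.2
  exact ⟨d, hN, ha, h0, hd⟩

theorem Phi_smul [N.Normal] {a : V} {φ : Du V} (g : K) (h : φ ∈ Phi N a) : dua g φ ∈ Phi N (g • a) := by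
  obtain ⟨h1, d, hN, hd⟩ := h
  refine ⟨by rw [dua_apply, inv_smul_smul, h1], g * d * g⁻¹, Subgroup.Normal.conj_mem inferInstance d hN g,
    fun v => ?_⟩
  rw [mul_smul, mul_smul, hd, smul_add, smul_inv_smul, smul_zmod, dua_apply]

theorem dua_inv_dua (g : K) (φ : Du V) : dua g⁻¹ (dua g φ) = φ := by
  ext v
  simp

theorem dua_dua_inv (g : K) (φ : Du V) : dua g (dua g⁻¹ φ) = φ := by
  ext v
  simp

theorem dua_injective (g : K) : Function.Injective (dua g : Du V → Du V) := fun φ ψ h => by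
  rw [← dua_inv_dua g φ, h, dua_inv_dua]

theorem Phi_smul_eq [N.Normal] (g : K) (a : V) : (Phi N (g • a) : Set (Du V)) = dua g '' (Phi N a : Set (Du V)) := by
  ext φ
  constructor
  · intro h
    refine ⟨dua g⁻¹ φ, ?_, dua_dua_inv g φ⟩
    have h1 := Phi_smul g⁻¹ h
    rwa [inv_smul_smul] at h1
  · rintro ⟨ψ, h, rfl⟩
    exact Phi_smul g h

theorem ncard_Phi [N.Normal] (g : K) (a : V) : (Phi N (g • a) : Set (Du V)).ncard = (Phi N a : Set (Du V)).ncard := by
  rw [Phi_smul_eq, Set.ncard_image_of_injective _ (dua_injective g)]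

/-- a transvection of `Phi N b`, `ψ a = 1`, moves `(a, φ)` to `(a + b, φ + φ b • ψ)` -/
theorem step [N.Normal] {a b : V} {φ ψ : Du V} (h : φ ∈ Phi N a) (h' : ψ ∈ Phi N b) (h1 : ψ a = 1) :
    φ + φ b • ψ ∈ Phi N (a + b) := by
  obtain ⟨h2, e, -, he⟩ := h'
  have h3 := Phi_smul e h
  rw [he a, h1, one_smul] at h3
  have h4 : dua e φ = φ + φ b • ψ := by
    ext v
    rw [dua_apply, LinearMap.add_apply, LinearMap.smul_apply, smul_eq_mul]
    have h5 : e⁻¹ • v = v + ψ v • b := by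
      rw [inv_smul_eq_iff, he, map_add, map_smul, h2, smul_zero, add_zero, add_add_self]
    rw [h5, map_add, map_smul, smul_eq_mul, mul_comm]
  rwa [h4] at h3

theorem step_smul {a b : V} {φ : Du V} (h' : φ ∈ Phi N b) (h1 : φ a = 1) : ∃ g ∈ N, g • a = a + b := by
  obtain ⟨h2, e, hN, he⟩ := h'
  exact ⟨e, hN, by rw [he, h1, one_smul]⟩

/-- two nonzero functionals take the value `1` at a common point -/
theorem exists_one_one {U : Submodule (ZMod 2) V} {φ ψ : Du V} (h1 : ∃ a ∈ U, φ a = 1)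
    (h2 : ∃ b ∈ U, ψ b = 1) : ∃ r ∈ U, φ r = 1 ∧ ψ r = 1 := by
  obtain ⟨a, ha, h1⟩ := h1
  obtain ⟨b, hb, h2⟩ := h2
  rcases zmod_cases (ψ a) with h3 | h3
  · rcases zmod_cases (φ b) with h4 | h4
    · exact ⟨a + b, add_mem ha hb, by rw [map_add, h1, h4, add_zero], by rw [map_add, h3, h2, zero_add]⟩
    · exact ⟨b, hb, h4, h2⟩
  · exact ⟨a, ha, h1, h3⟩

/-- the configuration -/
structure Cfg {K : Type*} [Group K] (N : Subgroup K) {V : Type*} [AddCommGroup V] [Module (ZMod 2) V]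
    [DistribMulAction K V] (Pts : Set V) : Prop where
  /-- `N` is normal -/
  nor : N.Normal
  /-- the centres are not zero -/
  ne : ∀ a ∈ Pts, a ≠ 0
  /-- `Pts` is invariant -/
  inv : ∀ (g : K), ∀ a ∈ Pts, g • a ∈ Pts
  /-- `Pts` is transitive -/
  tr : ∀ a ∈ Pts, ∀ b ∈ Pts, ∃ g : K, g • a = b
  /-- `Pts` spans -/
  span : Submodule.span (ZMod 2) Pts = ⊤
  /-- `dim Phi ≥ 2` -/
  two : ∀ a ∈ Pts, ∃ φ ∈ Phi N a, ∃ ψ ∈ Phi N a, φ ≠ 0 ∧ ψ ≠ 0 ∧ φ ≠ ψ
  /-- no common zero -/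
  rad : ∀ v : V, (∀ a ∈ Pts, ∀ φ ∈ Phi N a, φ v = 0) → v = 0

variable (N) in
/-- `b` is moved by a transvection with centre `a` -/
def Adj (a b : V) : Prop := ∃ φ ∈ Phi N a, φ b = 1

theorem not_adj {a b : V} : ¬ Adj N a b ↔ ∀ φ ∈ Phi N a, φ b = 0 := by
  constructor
  · intro h φ hφ
    exact eq_zero_of_ne fun h1 => h ⟨φ, hφ, h1⟩
  · rintro h ⟨φ, hφ, h1⟩
    rw [h φ hφ] at h1
    exact one_ne h1.symm

theorem not_adj_self (a : V) : ¬ Adj N a a := not_adj.2 fun _ h => h.1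

variable (N) in
/-- the functionals of `Phi N a` that vanish at `b` -/
def Per (a b : V) : Set (Du V) := {φ | φ ∈ Phi N a ∧ φ b = 0}

theorem hyp_eq {a b c : V} (h : Per N a b ⊆ Per N a c) (hc : Adj N a c) : Per N a b = Per N a c := by
  refine Set.Subset.antisymm h ?_
  rintro φ ⟨h1, h2⟩
  refine ⟨h1, eq_zero_of_ne fun h3 => ?_⟩
  obtain ⟨ψ, h4, h5⟩ := hc
  have h6 : ψ b = 1 := by
    refine eq_one_of_ne fun h7 => ?_
    have h8 := (h ⟨h4, h7⟩ : ψ ∈ Per N a c).2
    rw [h5] at h8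
    exact one_ne h8
  have h7 : φ + ψ ∈ Per N a b := ⟨add_mem h1 h4, by rw [LinearMap.add_apply, h3, h6, one_add_one]⟩
  have h8 := (h h7).2
  rw [LinearMap.add_apply, h2, h5, zero_add] at h8
  exact one_ne h8

/-- (a) -/
theorem per_comm [N.Normal] {a b : V} (h : Adj N a b) (h' : Adj N b a) : Per N a b = Per N b a := by
  have key : ∀ {a b : V}, Adj N a b → Adj N b a → Per N a b ⊆ Per N b a := by
    rintro a b ⟨φ, h1, h2⟩ ⟨ψ, h3, h4⟩ χ ⟨h5, h6⟩
    -- `χ ∈ Phi (a + b)`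
    have h7 := step h5 h3 h4
    rw [h6, zero_smul, add_zero] at h7
    -- `χ ∈ Phi b`
    have h8 : φ (a + b) = 1 := by rw [map_add, h1.1, h2, zero_add]
    have h9 := step h7 h1 h8
    rw [h5.1, zero_smul, add_zero, show a + b + a = b by rw [add_comm a b, add_add_self]] at h9
    exact ⟨h9, h5.1⟩
  exact Set.Subset.antisymm (key h h') (key h' h)

namespace Cfg

variable {Pts : Set V} (C : Cfg N Pts)
include C

theorem le_eq [Finite V] {a b : V} (ha : a ∈ Pts) (hb : b ∈ Pts) (h : Phi N a ≤ Phi N b) :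
    Phi N a = Phi N b := by
  have := C.nor
  obtain ⟨g, rfl⟩ := C.tr a ha b hb
  apply SetLike.coe_injective
  have : Finite (Du V) := Finite.of_injective (fun φ : Du V => (φ : V → ZMod 2)) DFunLike.coe_injective
  exact Set.eq_of_subset_of_ncard_le h (ncard_Phi g a).le (Set.toFinite _)

/-- (b) -/
theorem adj_symm [Finite V] {a b : V} (ha : a ∈ Pts) (hb : b ∈ Pts) (h : Adj N a b) : Adj N b a := by
  have := C.nor
  by_contra hcon
  rw [not_adj] at hcon
  obtain ⟨φ, h1, h2⟩ := h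
  have h3 : Phi N b ≤ Phi N a := by
    intro ψ hψ
    -- `ψ ∈ Phi (b + a)`
    have h4 := step hψ h1 h2
    rw [hcon ψ hψ, zero_smul, add_zero] at h4
    obtain ⟨h5, d, hN, hd⟩ := hψ
    obtain ⟨h6, e, hN', he⟩ := h4
    refine ⟨hcon ψ ⟨h5, d, hN, hd⟩, d * e, mul_mem hN hN', fun v => ?_⟩
    rw [mul_smul, he, hd, map_add, map_smul, h6, smul_zero, add_zero, smul_add]
    rw [show v + (ψ v • b + ψ v • a) + ψ v • b = v + ψ v • a + (ψ v • b + ψ v • b) by abel, add_self, add_zero]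
  have h4 := C.le_eq hb ha h3
  rw [← h4] at h1
  rw [h1.1] at h2
  exact one_ne h2.symm

theorem per_comm [Finite V] {a b : V} (ha : a ∈ Pts) (hb : b ∈ Pts) (h : Adj N a b) :
    Per N a b = Per N b a :=
  have := C.nor
  MiniMcL.per_comm h (C.adj_symm ha hb h)

/-- (c) -/
theorem per_eq [Finite V] {p q r : V} (hp : p ∈ Pts) (hq : q ∈ Pts) (hr : r ∈ Pts) (h1 : Adj N p q)
    (h2 : Adj N q r) (h3 : ¬ Adj N p r) : Per N q p = Per N q r := by
  have key : ∀ {p q r : V}, p ∈ Pts → q ∈ Pts → r ∈ Pts → Adj N p q → Adj N q r → ¬ Adj N p r →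
      Per N q p ⊆ Per N q r := by
    intro p q r hp hq hr h1 h2 h3 φ hφ
    refine ⟨hφ.1, ?_⟩
    rw [← C.per_comm hp hq h1] at hφ
    exact not_adj.1 h3 φ hφ.1
  exact Set.Subset.antisymm (key hp hq hr h1 h2 h3)
    (key hr hq hp (C.adj_symm hq hr h2) (C.adj_symm hp hq h1) fun h => h3 (C.adj_symm hr hp h))

omit C in
theorem eval_eq {p q r : V} (h : Per N q p = Per N q r) {φ : Du V} (hφ : φ ∈ Phi N q) : φ p = φ r := by
  by_cases h0 : φ p = 0
  · have h1 : φ ∈ Per N q p := ⟨hφ, h0⟩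
    rw [h] at h1
    rw [h0, h1.2]
  · have h2 : φ r ≠ 0 := by
      intro h3
      have h1 : φ ∈ Per N q r := ⟨hφ, h3⟩
      rw [← h] at h1
      exact h0 h1.2
    rw [eq_one_of_ne h0, eq_one_of_ne h2]

/-- a second functional -/
theorem exists_second {p q : V} (hp : p ∈ Pts) :
    ∃ r ∈ Pts, Adj N p r ∧ Per N p r ≠ Per N p q := by
  by_contra hcon
  push Not at hcon
  obtain ⟨φ, h1, ψ, h2, h3, h4, h5⟩ := C.two p hp
  have key : ∀ χ ∈ Per N p q, χ = 0 := by
    intro χ hχ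
    have h6 : Submodule.span (ZMod 2) Pts ≤ LinearMap.ker χ := by
      rw [Submodule.span_le]
      intro r hr
      rw [SetLike.mem_coe, LinearMap.mem_ker]
      by_cases h7 : Adj N p r
      · rw [← hcon r hr h7] at hχ
        exact hχ.2
      · exact not_adj.1 h7 χ hχ.1
    rw [C.span, top_le_iff, LinearMap.ker_eq_top] at h6
    exact h6
  have h6 : φ q = 1 := eq_one_of_ne fun h => h3 (key φ ⟨h1, h⟩)
  have h7 : ψ q = 1 := eq_one_of_ne fun h => h4 (key ψ ⟨h2, h⟩)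
  have h8 := key (φ + ψ) ⟨add_mem h1 h2, by rw [LinearMap.add_apply, h6, h7, one_add_one]⟩
  apply h5
  ext v
  have h9 : (φ + ψ) v = 0 := by rw [h8]; rfl
  exact eq_of_add h9

/-- (d) : two points at distance two are equal -/
theorem trans' [Finite V] {p q r : V} (hp : p ∈ Pts) (hq : q ∈ Pts) (hr : r ∈ Pts) (h1 : Adj N p q)
    (h2 : Adj N q r) (h3 : ¬ Adj N p r) : p = r := by
  obtain ⟨s, hs, h4, h5⟩ := C.exists_second (q := q) hp
  have hpq := C.per_comm hp hq h1
  have hqr := C.per_eq hp hq hr h1 h2 h3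
  have hrq := C.per_comm hq hr h2
  -- `q ~ s`
  have h6 : Adj N q s := by
    by_contra hcon
    exact h5 (C.per_eq hq hp hs (C.adj_symm hp hq h1) h4 hcon).symm
  -- `r ~ s`
  have h7 : Adj N r s := by
    by_contra hcon
    have h8 := C.per_eq hr hq hs (C.adj_symm hq hr h2) h6 hcon
    have h9 : Per N p q ⊆ Per N p s := by
      intro φ hφ
      refine ⟨hφ.1, ?_⟩
      rw [hpq, hqr, h8] at hφ
      exact hφ.2
    exact h5 (hyp_eq h9 h4).symm
  have h8 := C.per_eq hp hs hr h4 (C.adj_symm hr hs h7) h3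
  have h9 : Per N p s = Per N r s := by
    rw [C.per_comm hp hs h4, h8, C.per_comm hr hs h7]
  have h9' : Per N p q = Per N r q := by rw [hpq, hqr, hrq]
  -- `Phi p ≤ Phi r`
  have h10 : Phi N p ≤ Phi N r := by
    intro φ hφ
    by_cases h11 : φ s = 0
    · have h12 : φ ∈ Per N p s := ⟨hφ, h11⟩
      rw [h9] at h12
      exact h12.1
    have h11' := eq_one_of_ne h11
    obtain ⟨α, h12, h13⟩ : ∃ α ∈ Per N p q, α s = 1 := by
      by_contra hcon
      push Not at hcon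
      exact h5 (hyp_eq (fun α hα => ⟨hα.1, eq_zero_of_ne (hcon α hα)⟩) h4).symm
    have h14 : φ + α ∈ Per N p s :=
      ⟨add_mem hφ h12.1, by rw [LinearMap.add_apply, h11', h13, one_add_one]⟩
    rw [h9] at h14
    rw [h9'] at h12
    have h15 := sub_mem h14.1 h12.1
    rwa [add_sub_cancel_right] at h15
  have h11 := C.le_eq hp hr h10
  have h12 : p + r = 0 := by
    refine C.rad _ fun x hx ψ hψ => ?_
    rw [map_add]
    by_cases h13 : Adj N p x
    · have h14 : Adj N r x := by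
        obtain ⟨φ, h15, h16⟩ := h13
        exact ⟨φ, h11 ▸ h15, h16⟩
      rw [eval_eq (C.per_eq hp hx hr h13 (C.adj_symm hr hx h14) h3) hψ, add_self]
    · have h14 : ¬ Adj N r x := by
        rintro ⟨φ, h15, h16⟩
        rw [← h11] at h15
        exact h13 ⟨φ, h15, h16⟩
      have h15 : ¬ Adj N x p := fun h => h13 (C.adj_symm hx hp h)
      have h16 : ¬ Adj N x r := fun h => h14 (C.adj_symm hx hr h)
      rw [not_adj.1 h15 ψ hψ, not_adj.1 h16 ψ hψ, add_zero]
  exact eq_of_add h12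

theorem trans [Finite V] {p q r : V} (hp : p ∈ Pts) (hq : q ∈ Pts) (hr : r ∈ Pts) (h1 : Adj N p q)
    (h2 : Adj N q r) (h3 : p ≠ r) : Adj N p r := by
  by_contra hcon
  exact h3 (C.trans' hp hq hr h1 h2 hcon)

theorem add_mem_pts [Finite V] {p q : V} (hp : p ∈ Pts) (hq : q ∈ Pts) (h1 : Adj N p q) : p + q ∈ Pts := by
  obtain ⟨φ, h2, h3⟩ := C.adj_symm hp hq h1
  obtain ⟨g, -, hg⟩ := step_smul h2 h3
  rw [← hg]
  exact C.inv g p hp

omit C in
theorem adj_add {p q : V} (h1 : Adj N p q) : Adj N p (p + q) := by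
  obtain ⟨φ, h2, h3⟩ := h1
  exact ⟨φ, h2, by rw [map_add, h2.1, h3, zero_add]⟩

/-- the component of `p` -/
def comp [Finite V] {p : V} (hp : p ∈ Pts) : Submodule (ZMod 2) V where
  carrier := {v | v = 0 ∨ v = p ∨ (v ∈ Pts ∧ Adj N p v)}
  zero_mem' := Or.inl rfl
  add_mem' := by
    have key : ∀ {v : V}, v ∈ Pts → Adj N p v → p + v ∈ Pts ∧ Adj N p (p + v) := fun hv h =>
      ⟨C.add_mem_pts hp hv h, adj_add h⟩
    rintro v w (rfl | rfl | ⟨hv, h1⟩) (rfl | rfl | ⟨hw, h2⟩)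
    · exact Or.inl (add_zero _)
    · exact Or.inr (Or.inl (zero_add _))
    · rw [zero_add]; exact Or.inr (Or.inr ⟨hw, h2⟩)
    · exact Or.inr (Or.inl (add_zero _))
    · exact Or.inl (add_self _)
    · exact Or.inr (Or.inr (key hw h2))
    · rw [add_zero]; exact Or.inr (Or.inr ⟨hv, h1⟩)
    · rw [add_comm v w]; exact Or.inr (Or.inr (key hv h1))
    · by_cases h3 : v = w
      · subst h3; exact Or.inl (add_self _)
      have h4 : Adj N v w := C.trans hv hp hw (C.adj_symm hp hv h1) h2 h3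
      have h5 := C.add_mem_pts hv hw h4
      by_cases h6 : v + w = p
      · exact Or.inr (Or.inl h6)
      · exact Or.inr (Or.inr ⟨h5, C.trans hp hv h5 h1 (adj_add h4) fun h => h6 h.symm⟩)
  smul_mem' := by
    intro c v hv
    rcases zmod_cases c with h | h
    · subst h; exact Or.inl (zero_smul _ _)
    · subst h; rwa [one_smul]

theorem mem_comp [Finite V] {p v : V} (hp : p ∈ Pts) :
    v ∈ C.comp hp ↔ v = 0 ∨ v = p ∨ (v ∈ Pts ∧ Adj N p v) := Iff.rfl

theorem self_mem_comp [Finite V] {p : V} (hp : p ∈ Pts) : p ∈ C.comp hp := Or.inr (Or.inl rfl)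

theorem comp_pts [Finite V] {p v : V} (hp : p ∈ Pts) (hv : v ∈ C.comp hp) (h0 : v ≠ 0) : v ∈ Pts := by
  rcases hv with h | h | h
  · exact absurd h h0
  · rw [h]; exact hp
  · exact h.1

/-- the components are a partition -/
theorem comp_eq [Finite V] {p v : V} (hp : p ∈ Pts) (hv : v ∈ Pts) (h1 : v ∈ C.comp hp) :
    C.comp hv = C.comp hp := by
  have key : ∀ {p v : V} (hp : p ∈ Pts) (hv : v ∈ Pts), Adj N p v → C.comp hv ≤ C.comp hp := by
    intro p v hp hv h w hw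
    rcases hw with rfl | rfl | ⟨h2, h3⟩
    · exact Or.inl rfl
    · exact Or.inr (Or.inr ⟨hv, h⟩)
    · by_cases h4 : w = p
      · exact Or.inr (Or.inl h4)
      · exact Or.inr (Or.inr ⟨h2, C.trans hp hv h2 h h3 fun h => h4 h.symm⟩)
  rcases h1 with h | h | h
  · exact absurd h (C.ne v hv)
  · subst h; rfl
  · exact le_antisymm (key hp hv h.2) (key hv hp (C.adj_symm hp hv h.2))

/-- the functionals of `Phi p` vanish on the other components -/
theorem Phi_off [Finite V] {p q : V} (hp : p ∈ Pts) (hq : q ∈ Pts) (h1 : q ∉ C.comp hp) {φ : Du V}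
    (hφ : φ ∈ Phi N p) : φ q = 0 :=
  eq_zero_of_ne fun h => h1 (Or.inr (Or.inr ⟨hq, φ, hφ, h⟩))

/-- the functionals of `Phi p` separate the points of the component outside `⟨p⟩` -/
theorem Phi_sep [Finite V] {p v : V} (hp : p ∈ Pts) (hv : v ∈ C.comp hp) (h0 : v ≠ 0) (h1 : v ≠ p) :
    ∃ φ ∈ Phi N p, φ v = 1 := by
  rcases hv with h | h | h
  · exact absurd h h0
  · exact absurd h h1
  · exact h.2

/-- a functional of `Phi p` is determined by its restriction to the component of `p` -/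
theorem Phi_ext [Finite V] {p : V} (hp : p ∈ Pts) {φ ψ : Du V} (h1 : φ ∈ Phi N p) (h2 : ψ ∈ Phi N p)
    (h3 : ∀ v ∈ C.comp hp, φ v = ψ v) : φ = ψ := by
  have h4 : Submodule.span (ZMod 2) Pts ≤ LinearMap.ker (φ + ψ) := by
    rw [Submodule.span_le]
    intro v hv
    rw [SetLike.mem_coe, LinearMap.mem_ker, LinearMap.add_apply]
    by_cases h5 : v ∈ C.comp hp
    · rw [h3 v h5, add_self]
    · rw [C.Phi_off hp hv h5 h1, C.Phi_off hp hv h5 h2, add_zero]
  rw [C.span, top_le_iff, LinearMap.ker_eq_top] at h4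
  ext v
  have h9 : (φ + ψ) v = 0 := by rw [h4]; rfl
  exact eq_of_add h9

/-- **Mini-McLaughlin**: `Phi p` induces all functionals of the component that vanish at `p` -/
theorem Phi_full [Finite V] {p : V} (hp : p ∈ Pts) (f : Du (C.comp hp))
    (hf : f ⟨p, C.self_mem_comp hp⟩ = 0) : ∃ φ ∈ Phi N p, ∀ v : C.comp hp, φ v = f v := by
  classical
  have : Module.Finite (ZMod 2) (C.comp hp) := Module.Finite.of_finite
  let r : Du V →ₗ[ZMod 2] Du (C.comp hp) := LinearMap.lcomp (ZMod 2) (ZMod 2) (C.comp hp).subtype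
  let A : Submodule (ZMod 2) (Du (C.comp hp)) := (Phi N p).map r
  have h1 : A.dualCoannihilator.dualAnnihilator = A := Subspace.dualCoannihilator_dualAnnihilator_eq
  have h2 : f ∈ A := by
    rw [← h1, Submodule.mem_dualAnnihilator]
    intro w hw
    rw [Submodule.mem_dualCoannihilator] at hw
    by_cases h0 : w = 0
    · rw [h0, map_zero]
    by_cases h3 : (w : V) = p
    · have h4 : w = ⟨p, C.self_mem_comp hp⟩ := Subtype.ext h3
      rw [h4, hf]
    obtain ⟨φ, h4, h5⟩ := C.Phi_sep hp w.2 (fun h => h0 (Subtype.ext h)) h3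
    have h6 := hw (r φ) (Submodule.mem_map_of_mem h4)
    have h7 : r φ w = φ w := rfl
    rw [h7, h5] at h6
    exact absurd h6 one_ne
  obtain ⟨φ, h3, h4⟩ := h2
  refine ⟨φ, h3, fun v => ?_⟩
  rw [← h4]
  rfl

omit C in
/-- `K` acts on `~` -/
theorem adj_smul [N.Normal] {a b : V} (g : K) (h : Adj N a b) : Adj N (g • a) (g • b) := by
  obtain ⟨φ, h1, h2⟩ := h
  exact ⟨dua g φ, Phi_smul g h1, by rw [dua_apply, inv_smul_smul, h2]⟩

/-- `K` permutes the components -/
theorem comp_smul [Finite V] {p v : V} (hp : p ∈ Pts) (g : K) (hv : v ∈ C.comp hp) :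
    g • v ∈ C.comp (C.inv g p hp) := by
  have := C.nor
  rcases hv with h | h | h
  · left; rw [h, smul_zero]
  · right; left; rw [h]
  · right; right; exact ⟨C.inv g v h.1, adj_smul g h.2⟩

/-- the stabiliser of `p` acts on its component -/
theorem comp_smul_self [Finite V] {p v : V} (hp : p ∈ Pts) {g : K} (hg : g • p = p) (hv : v ∈ C.comp hp) :
    g • v ∈ C.comp hp := by
  have h1 := C.comp_smul hp g hv
  have h2 : C.comp (C.inv g p hp) = C.comp hp := by
    congr 1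
  rwa [h2] at h1

/-- a transvection of `N` acts on every component -/
theorem comp_add [Finite V] {p a v : V} (hp : p ∈ Pts) (ha : a ∈ Pts) {φ : Du V} (hφ : φ ∈ Phi N a)
    (hv : v ∈ C.comp hp) : v + φ v • a ∈ C.comp hp := by
  rcases zmod_cases (φ v) with h | h
  · rwa [h, zero_smul, add_zero]
  rw [h, one_smul]
  by_cases h0 : v = 0
  · rw [h0, map_zero] at h
    exact absurd h.symm one_ne
  have h1 := C.comp_pts hp hv h0
  have h2 := C.adj_symm ha h1 ⟨φ, hφ, h⟩
  have h3 : a ∈ C.comp h1 := Or.inr (Or.inr ⟨ha, h2⟩)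
  rw [C.comp_eq hp h1 hv] at h3
  exact add_mem hv h3

/-- `φ₁` fixed, `φ₂ ↦ φ₃`: the centre `q` of the transvection with functional `φ₂ + φ₃` -/
theorem exists_move [Finite V] {p : V} (hp : p ∈ Pts) {φ₁ φ₂ φ₃ : Du V} (h1 : φ₁ ∈ Phi N p)
    (h2 : φ₂ ∈ Phi N p) (h3 : φ₃ ∈ Phi N p) (n2 : φ₂ ≠ 0) (n3 : φ₃ ≠ 0) (n12 : φ₂ ≠ φ₁)
    (n13 : φ₃ ≠ φ₁) :
    ∃ q ∈ C.comp hp, q ≠ 0 ∧ q ≠ p ∧ φ₂ + φ₃ ∈ Phi N q ∧ φ₁ q = 0 ∧ φ₂ q = 1 ∧ φ₃ q = 1 := by
  have key : ∀ {φ : Du V}, φ ∈ Phi N p → φ ≠ 0 → φ ≠ φ₁ → ∃ q ∈ C.comp hp, φ₁ q = 0 ∧ φ q = 1 := by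
    intro φ hφ n0 n1
    by_contra hcon
    push Not at hcon
    -- `φ` vanishes on `ker φ₁`
    have h4 : ∀ v ∈ C.comp hp, φ₁ v = 0 → φ v = 0 := fun v hv h => eq_zero_of_ne (hcon v hv h)
    by_cases h5 : ∃ v ∈ C.comp hp, φ v = 1
    · obtain ⟨v, hv, h6⟩ := h5
      have h7 : φ₁ v = 1 := eq_one_of_ne fun h => by rw [h4 v hv h] at h6; exact one_ne h6.symm
      refine n1 (C.Phi_ext hp hφ h1 fun w hw => ?_)
      rcases zmod_cases (φ₁ w) with h8 | h8
      · rw [h8, h4 w hw h8]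
      · have h9 := h4 (w + v) (add_mem hw hv) (by rw [map_add, h8, h7, one_add_one])
        rw [map_add, h6] at h9
        rw [h8]
        exact eq_of_add h9
    · push Not at h5
      refine n0 (C.Phi_ext hp hφ (zero_mem _) fun w hw => ?_)
      rw [eq_zero_of_ne (h5 w hw)]
      rfl
  obtain ⟨q, hq, h4, h5, h6⟩ : ∃ q ∈ C.comp hp, φ₁ q = 0 ∧ φ₂ q = 1 ∧ φ₃ q = 1 := by
    obtain ⟨a, ha, h4, h5⟩ := key h2 n2 n12
    obtain ⟨b, hb, h6, h7⟩ := key h3 n3 n13
    rcases zmod_cases (φ₃ a) with h8 | h8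
    · rcases zmod_cases (φ₂ b) with h9 | h9
      · exact ⟨a + b, add_mem ha hb, by rw [map_add, h4, h6, add_zero],
          by rw [map_add, h5, h9, add_zero], by rw [map_add, h8, h7, zero_add]⟩
      · exact ⟨b, hb, h6, h9, h7⟩
    · exact ⟨a, ha, h4, h5, h8⟩
  have hq0 : q ≠ 0 := fun h => by rw [h, map_zero] at h5; exact one_ne h5.symm
  have hqp : q ≠ p := fun h => by rw [h, h2.1] at h5; exact one_ne h5.symm
  refine ⟨q, hq, hq0, hqp, ?_, h4, h5, h6⟩
  have h7 : φ₂ + φ₃ ∈ Per N p q := ⟨add_mem h2 h3, by rw [LinearMap.add_apply, h5, h6, one_add_one]⟩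
  rw [C.per_comm hp (C.comp_pts hp hq hq0) ⟨φ₂, h2, h5⟩] at h7
  exact h7.1

/-- `dim (comp p) ≥ 4`: the transvection `(q, ψ)`, `ψ p = 0`, is the commutator of `(q, χ)` and `(r, ψ)` -/
theorem exists_comm [Finite V] {p : V} (hp : p ∈ Pts) (h16 : 8 < Nat.card (C.comp hp)) {q : V}
    (hq : q ∈ C.comp hp) (hq0 : q ≠ 0) (hqp : q ≠ p) {ψ : Du V} (h1 : ψ ∈ Phi N q) (h2 : ψ p = 0) :
    ∃ r ∈ C.comp hp, ∃ χ : Du V, r ≠ 0 ∧ r ≠ p ∧ ψ ∈ Phi N r ∧ χ ∈ Phi N q ∧ χ p = 0 ∧ χ r = 1 := by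
  classical
  have hqP := C.comp_pts hp hq hq0
  have hpq : Adj N p q := by
    obtain ⟨φ, h3, h4⟩ := C.Phi_sep hp hq hq0 hqp
    exact ⟨φ, h3, h4⟩
  have hqp' := C.adj_symm hp hqP hpq
  have hψp : ψ ∈ Phi N p := by
    have h3 : ψ ∈ Per N q p := ⟨h1, h2⟩
    rw [← C.per_comm hp hqP hpq] at h3
    exact h3.1
  -- `r`
  have h3 : ∃ r ∈ C.comp hp, ψ r = 0 ∧ r ∉ Submodule.span (ZMod 2) {p, q} := by
    by_contra hcon
    push Not at hcon
    -- the map `v ↦ v` on `ker ψ`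
    let N : Submodule (ZMod 2) V := C.comp hp ⊓ LinearMap.ker ψ
    have h4 : N ≤ Submodule.span (ZMod 2) {p, q} := fun r hr => hcon r hr.1 (LinearMap.mem_ker.1 hr.2)
    have h5 : Nat.card (Submodule.span (ZMod 2) ({p, q} : Set V)) ≤ 4 := by
      have h6 : ((Submodule.span (ZMod 2) ({p, q} : Set V) : Submodule (ZMod 2) V) : Set V) ⊆
          (({0, p, q, p + q} : Finset V) : Set V) := by
        intro v hv
        rw [SetLike.mem_coe, Submodule.mem_span_pair] at hv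
        obtain ⟨a, b, rfl⟩ := hv
        rcases zmod_cases a with h | h <;> rcases zmod_cases b with h' | h' <;> subst h <;> subst h' <;>
          simp
      have h7 := Set.ncard_le_ncard h6 (Finset.finite_toSet _)
      rw [Set.ncard_coe_finset] at h7
      refine le_trans ?_ (h7.trans Finset.card_le_four)
      exact le_of_eq rfl
    have h6 : Nat.card N ≤ 4 := by
      refine le_trans ?_ h5
      exact Nat.card_le_card_of_injective (Submodule.inclusion h4) (Submodule.inclusion_injective h4)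
    -- `comp ≤ N ∪ (v + N)`
    have h7 : Nat.card (C.comp hp) ≤ 2 * Nat.card N := by
      by_cases h8 : ∃ v ∈ C.comp hp, ψ v = 1
      · obtain ⟨v, hv, h9⟩ := h8
        have h10 : ∀ w : C.comp hp, ∃ x : ZMod 2 × N, (w : V) = x.1 • v + x.2 := by
          intro w
          rcases zmod_cases (ψ w) with h11 | h11
          · exact ⟨(0, ⟨w, w.2, h11⟩), by simp⟩
          · refine ⟨(1, ⟨v + w, add_mem hv w.2, ?_⟩), ?_⟩
            · rw [SetLike.mem_coe, LinearMap.mem_ker, map_add, h9, h11, one_add_one]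
            · rw [one_smul, ← add_assoc, add_self, zero_add]
        choose f hf using h10
        have h11 : Function.Injective f := fun w w' h => Subtype.ext (by rw [hf w, hf w', h])
        refine (Nat.card_le_card_of_injective f h11).trans ?_
        rw [Nat.card_prod, Nat.card_zmod]
      · push Not at h8
        have h9 : C.comp hp ≤ N := fun v hv => ⟨hv, LinearMap.mem_ker.2 (eq_zero_of_ne (h8 v hv))⟩
        refine (Nat.card_le_card_of_injective (Submodule.inclusion h9)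
          (Submodule.inclusion_injective h9)).trans (by omega)
    omega
  obtain ⟨r, hr, h4, h5⟩ := h3
  have hr0 : r ≠ 0 := fun h => h5 (h ▸ zero_mem _)
  have hrp : r ≠ p := fun h => h5 (h ▸ Submodule.subset_span (Set.mem_insert _ _))
  have hrq : r ≠ q := fun h => h5 (h ▸ Submodule.subset_span (Set.mem_insert_of_mem _ rfl))
  have hrP := C.comp_pts hp hr hr0
  -- `ψ ∈ Phi r`
  have hpr : Adj N p r := by
    obtain ⟨φ, h6, h7⟩ := C.Phi_sep hp hr hr0 hrp
    exact ⟨φ, h6, h7⟩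
  have h6 : ψ ∈ Per N p r := ⟨hψp, h4⟩
  rw [C.per_comm hp hrP hpr] at h6
  -- `χ`
  obtain ⟨f, h7, h8⟩ := Submodule.exists_le_ker_of_notMem h5
  obtain ⟨χ, h9, h10⟩ := C.Phi_full hp (f.comp (C.comp hp).subtype)
    (LinearMap.mem_ker.1 (h8 (Submodule.subset_span (Set.mem_insert _ _))))
  have h11 : χ q = 0 := by
    rw [h10 ⟨q, hq⟩]
    exact LinearMap.mem_ker.1 (h8 (Submodule.subset_span (Set.mem_insert_of_mem _ rfl)))
  have h12 : χ r = 1 := by
    rw [h10 ⟨r, hr⟩]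
    exact eq_one_of_ne h7
  have h13 : χ ∈ Per N p q := ⟨h9, h11⟩
  rw [C.per_comm hp hqP hpq] at h13
  exact ⟨r, hr, χ, hr0, hrp, h6.1, h13.1, h9.1, h12⟩

end Cfg

/-- the action of the transvection `(q, ψ)` on the functionals -/
theorem dua_of_act {d : K} {q : V} {ψ : Du V} (h1 : ψ q = 0) (hd : ∀ v : V, d • v = v + ψ v • q)
    (φ : Du V) : dua d φ = φ + φ q • ψ := by
  ext v
  rw [dua_apply, LinearMap.add_apply, LinearMap.smul_apply, smul_eq_mul]
  have h5 : d⁻¹ • v = v + ψ v • q := by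
    rw [inv_smul_eq_iff, hd, map_add, map_smul, h1, smul_zero, add_zero, add_add_self]
  rw [h5, map_add, map_smul, smul_eq_mul, mul_comm]

/-- the commutator of two transvections -/
theorem comm_act {d e : K} {q r : V} {χ ψ : Du V} (h1 : χ q = 0) (h2 : ψ r = 0) (h3 : ψ q = 0)
    (h4 : χ r = 1) (hd : ∀ v : V, d • v = v + χ v • q) (he : ∀ v : V, e • v = v + ψ v • r) (v : V) :
    (d * e * d⁻¹ * e⁻¹) • v = v + ψ v • q := by
  have hd' : ∀ v : V, d⁻¹ • v = v + χ v • q := fun v => by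
    rw [inv_smul_eq_iff, hd, map_add, map_smul, h1, smul_zero, add_zero, add_add_self]
  have he' : ∀ v : V, e⁻¹ • v = v + ψ v • r := fun v => by
    rw [inv_smul_eq_iff, he, map_add, map_smul, h2, smul_zero, add_zero, add_add_self]
  rw [mul_smul, mul_smul, mul_smul, he', hd', map_add, map_smul, h4, he, hd]
  simp only [map_add, map_smul, h1, h2, h3, h4, smul_eq_mul, mul_zero, mul_one, add_zero]
  rcases zmod_cases (ψ v) with h5 | h5 <;> rcases zmod_cases (χ v) with h6 | h6 <;>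
    simp only [h5, h6, zero_smul, one_smul, add_zero, zero_add, one_add_one]
  · rw [add_add_self]
  · rw [show v + r + q + r = v + q + (r + r) by abel, add_self, add_zero]
  · rw [show v + r + r + q = v + q + (r + r) by abel, add_self, add_zero]

end Cfsg.Agent.Omega.NO1.MiniMcL
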