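import Cfsg.Agent.Omega.NO1.MiniMcL

/-!
# THEOREM NAT (#13408) (4): the group side of Mini-McLaughlin

`Dat`: an elementary abelian 2-subgroup `W` and a subgroup `Wc`, both normalised by `C`; the `F₂`-space `D.Q = W/Wc`
with the action of `C`, and the projection `D.p : G → D.Q` (meaningful on `W`).
`Inp`: the output of (3); `Inp.cfg`: the configuration `MiniMcL.Cfg` on `W/Wc`.
-/

set_option autoImplicit false
set_option linter.unusedSectionVars false

namespace Cfsg.Agent.Omega.NO1.NatQuot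

open Subgroup
open Cfsg.Agent.Omega.Transv Cfsg.Agent.Omega.NO1.MiniMcL

/-- the data -/
structure Dat (G : Type*) [Group G] where
  C : Subgroup G
  W : Subgroup G
  Wc : Subgroup G
  comm : ∀ a ∈ W, ∀ b ∈ W, a * b = b * a
  sq : ∀ a ∈ W, a * a = 1
  normW : ∀ c ∈ C, ∀ w ∈ W, c * w * c⁻¹ ∈ W
  normWc : ∀ c ∈ C, ∀ w ∈ Wc, c * w * c⁻¹ ∈ Wc

namespace Dat

variable {G : Type*} [Group G] (D : Dat G)

/-- `Wc` in `W` -/
abbrev Ws : Subgroup D.W := D.Wc.subgroupOf D.W

instance : D.Ws.Normal := ⟨by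
  intro x hx w
  have h : w * x * w⁻¹ = x := by
    apply Subtype.ext
    change (w : G) * x * (w : G)⁻¹ = x
    rw [D.comm w w.2 x x.2, mul_inv_cancel_right]
  rwa [h]⟩

/-- the quotient as a multiplicative group -/
abbrev Qm : Type _ := D.W ⧸ D.Ws

instance : CommGroup D.Qm :=
  { (inferInstance : Group D.Qm) with
    mul_comm := by
      intro x y
      induction x using QuotientGroup.induction_on with
      | H x =>
        induction y using QuotientGroup.induction_on with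
        | H y =>
          change (QuotientGroup.mk (x * y) : D.Qm) = QuotientGroup.mk (y * x)
          congr 1
          exact Subtype.ext (D.comm x x.2 y y.2) }

/-- the quotient `W/Wc`, additively -/
def Q : Type _ := Additive D.Qm

instance : AddCommGroup D.Q := inferInstanceAs (AddCommGroup (Additive D.Qm))

instance [Finite G] : Finite D.Q := inferInstanceAs (Finite (Additive D.Qm))

/-- conjugation by `C` on `W` -/
def cj (c : D.C) : D.W →* D.W where
  toFun x := ⟨c * x * (c : G)⁻¹, D.normW c c.2 x x.2⟩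
  map_one' := Subtype.ext (by simp)
  map_mul' x y := Subtype.ext (by
    change (c : G) * (x * y) * (c : G)⁻¹ = c * x * (c : G)⁻¹ * (c * y * (c : G)⁻¹)
    group)

/-- the action on the quotient -/
def act (c : D.C) : D.Qm →* D.Qm :=
  QuotientGroup.map D.Ws D.Ws (D.cj c) (fun x hx => D.normWc c c.2 x hx)

theorem act_mk (c : D.C) (x : D.W) : D.act c (QuotientGroup.mk x) = QuotientGroup.mk (D.cj c x) := rfl

instance : DistribMulAction D.C D.Q where
  smul c m := (Additive.ofMul (D.act c (Additive.toMul (show Additive D.Qm from m))) : Additive D.Qm)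
  one_smul := by
    intro m
    change (Additive.ofMul (D.act 1 (Additive.toMul (show Additive D.Qm from m))) : Additive D.Qm) = m
    have key : ∀ m : D.Qm, D.act 1 m = m := by
      intro m
      induction m using QuotientGroup.induction_on with
      | H x =>
        rw [act_mk]
        congr 1
        apply Subtype.ext
        change (1 : G) * x * (1 : G)⁻¹ = x
        group
    rw [key]
    rfl
  mul_smul := by
    intro n n' m
    change (Additive.ofMul (D.act (n * n') (Additive.toMul (show Additive D.Qm from m))) : Additive D.Qm) =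
      Additive.ofMul (D.act n (D.act n' (Additive.toMul (show Additive D.Qm from m))))
    have key : ∀ m : D.Qm, D.act (n * n') m = D.act n (D.act n' m) := by
      intro m
      induction m using QuotientGroup.induction_on with
      | H x =>
        rw [act_mk, act_mk, act_mk]
        congr 1
        apply Subtype.ext
        change ((n * n' : D.C) : G) * x * ((n * n' : D.C) : G)⁻¹ = n * (n' * x * (n' : G)⁻¹) * (n : G)⁻¹
        push_cast
        group
    rw [key]
  smul_zero := by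
    intro n
    change (Additive.ofMul (D.act n 1) : Additive D.Qm) = _
    rw [map_one]
    rfl
  smul_add := by
    intro n x y
    change (Additive.ofMul (D.act n (Additive.toMul (show Additive D.Qm from x) *
      Additive.toMul (show Additive D.Qm from y))) : Additive D.Qm) = _
    rw [map_mul]
    rfl

open Classical in
/-- the projection -/
noncomputable def p (g : G) : D.Q :=
  if h : g ∈ D.W then (Additive.ofMul (QuotientGroup.mk ⟨g, h⟩ : D.Qm) : Additive D.Qm) else 0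

theorem p_of {g : G} (h : g ∈ D.W) :
    D.p g = (Additive.ofMul (QuotientGroup.mk ⟨g, h⟩ : D.Qm) : Additive D.Qm) := dif_pos h

theorem p_surj (m : D.Q) : ∃ x ∈ D.W, D.p x = m := by
  have key : ∀ m : D.Qm, ∃ x ∈ D.W, D.p x = (Additive.ofMul m : Additive D.Qm) := by
    intro m
    induction m using QuotientGroup.induction_on with
    | H x => exact ⟨x, x.2, D.p_of x.2⟩
  exact key (Additive.toMul (show Additive D.Qm from m))

theorem p_mul {x y : G} (hx : x ∈ D.W) (hy : y ∈ D.W) : D.p (x * y) = D.p x + D.p y := by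
  rw [D.p_of hx, D.p_of hy, D.p_of (mul_mem hx hy)]
  rfl

theorem p_ker {x : G} (hx : x ∈ D.W) : D.p x = 0 ↔ x ∈ D.Wc := by
  rw [D.p_of hx]
  have h : ((QuotientGroup.mk ⟨x, hx⟩ : D.Qm) = 1) ↔ x ∈ D.Wc := by
    rw [QuotientGroup.eq_one_iff]
    rfl
  exact h

theorem p_act (c : D.C) {x : G} (hx : x ∈ D.W) : c • D.p x = D.p (c * x * (c : G)⁻¹) := by
  rw [D.p_of hx, D.p_of (D.normW c c.2 x hx)]
  rfl

theorem p_one : D.p 1 = 0 := (D.p_ker D.W.one_mem).2 D.Wc.one_mem

theorem p_add_self (m : D.Q) : m + m = 0 := by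
  obtain ⟨x, hx, rfl⟩ := D.p_surj m
  rw [← D.p_mul hx hx, D.sq x hx, p_one]

instance : Module (ZMod 2) D.Q := AddCommGroup.zmodModule (n := 2) (fun x => by
  rw [two_nsmul]; exact D.p_add_self x)

theorem p_eq {x y : G} (hx : x ∈ D.W) (hy : y ∈ D.W) : D.p x = D.p y ↔ x * y ∈ D.Wc := by
  rw [← D.p_ker (mul_mem hx hy), D.p_mul hx hy]
  constructor
  · intro h; rw [h]; exact D.p_add_self _
  · intro h; exact eq_of_add h

theorem p_inv {x : G} (hx : x ∈ D.W) : D.p x⁻¹ = D.p x := by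
  rw [D.p_eq (inv_mem hx) hx, inv_mul_cancel]
  exact D.Wc.one_mem

/-- the preimage of a subspace -/
def pre (U : Submodule (ZMod 2) D.Q) : Subgroup G where
  carrier := {g | g ∈ D.W ∧ D.p g ∈ U}
  one_mem' := ⟨D.W.one_mem, by rw [p_one]; exact U.zero_mem⟩
  mul_mem' := by
    rintro x y ⟨hx, hx'⟩ ⟨hy, hy'⟩
    exact ⟨mul_mem hx hy, by rw [D.p_mul hx hy]; exact U.add_mem hx' hy'⟩
  inv_mem' := by
    rintro x ⟨hx, hx'⟩
    exact ⟨inv_mem hx, by rw [D.p_inv hx]; exact hx'⟩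

theorem mem_pre {U : Submodule (ZMod 2) D.Q} {g : G} : g ∈ D.pre U ↔ g ∈ D.W ∧ D.p g ∈ U := Iff.rfl

/-- an additive functional is linear -/
noncomputable def mkDu (f : D.Q → ZMod 2) (hf : ∀ x y, f (x + y) = f x + f y) : Du D.Q where
  toFun := f
  map_add' := hf
  map_smul' := by
    intro c x
    rcases zmod_cases c with h | h
    · subst h
      rw [zero_smul, RingHom.id_apply, zero_smul]
      have := hf 0 0
      rw [add_zero] at this
      exact (add_eq_left (a := f 0)).1 this.symm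
    · subst h
      rw [one_smul, RingHom.id_apply, one_smul]

end Dat

/-- an element moving everything by `0` or `a` is a transvection -/
theorem exists_Phi {K : Type*} [Group K] {V : Type*} [AddCommGroup V] [Module (ZMod 2) V]
    [DistribMulAction K V] {N : Subgroup K} {a : V} (ha : a ≠ 0) {d : K} (hdN : d ∈ N)
    (h : ∀ x : V, d • x = x ∨ d • x = x + a) :
    ∃ φ ∈ Phi N a, ∀ x : V, d • x = x + φ x • a := by
  classical
  have h0 : ∀ x : V, x + a ≠ x := fun x hx => ha (add_eq_left.1 hx)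
  have hda : d • a = a := by
    refine (h a).resolve_right fun h1 => ha ?_
    rw [add_self] at h1
    have h2 : d⁻¹ • (d • a) = d⁻¹ • (0 : V) := by rw [h1]
    rwa [inv_smul_smul, smul_zero] at h2
  have key : ∀ x : V, d • x = x + (if d • x = x then (0 : ZMod 2) else 1) • a := by
    intro x
    by_cases h1 : d • x = x
    · rw [if_pos h1, zero_smul, add_zero, h1]
    · rw [if_neg h1, one_smul]
      exact (h x).resolve_left h1
  have hinj : ∀ c c' : ZMod 2, c • a = c' • a → c = c' := by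
    intro c c' hc
    rcases zmod_cases c with h1 | h1 <;> rcases zmod_cases c' with h2 | h2 <;> subst h1 <;> subst h2
    · rfl
    · rw [zero_smul, one_smul] at hc; exact absurd hc.symm ha
    · rw [zero_smul, one_smul] at hc; exact absurd hc ha
    · rfl
  let φ : Du V :=
    { toFun := fun x => if d • x = x then (0 : ZMod 2) else 1
      map_add' := by
        intro x y
        apply hinj
        have h1 := key (x + y)
        rw [smul_add, key x, key y] at h1
        rw [add_smul]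
        have h2 : x + y + ((if d • x = x then (0 : ZMod 2) else 1) • a +
            (if d • y = y then (0 : ZMod 2) else 1) • a) =
            x + y + (if d • (x + y) = x + y then (0 : ZMod 2) else 1) • a := by
          have e1 : d • (x + y) = x + (if d • x = x then (0 : ZMod 2) else 1) • a +
              (y + (if d • y = y then (0 : ZMod 2) else 1) • a) := by
            rw [smul_add, key x, key y]
            simp only [← key x, ← key y]
          rw [← key (x + y), e1]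
          abel
        exact (add_left_cancel h2).symm
      map_smul' := by
        intro c x
        rcases zmod_cases c with h1 | h1
        · subst h1; simp
        · subst h1; simp }
  refine ⟨φ, ⟨?_, d, hdN, key⟩, key⟩
  exact if_pos hda

/-- **the output of (3)**: `V ≤ C`, `V ≤ J` normalised by `C`, `V₁ ≤ W = ⟨V₁^C⟩`, ... -/
structure Inp {G : Type*} [Group G] (D : Dat G) (J V V1 : Subgroup G) : Prop where
  VC : V ≤ D.C
  VJ : V ≤ J
  normJ : ∀ c ∈ D.C, ∀ j ∈ J, c * j * c⁻¹ ∈ J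
  V1W : V1 ≤ D.W
  gen : ∀ w ∈ D.W, w ∈ closure {x | ∃ c ∈ D.C, ∃ a ∈ V1, x = c * a * c⁻¹}
  com : ∀ w ∈ D.W, ∀ v ∈ V, v * w * v⁻¹ * w⁻¹ ∈ V1
  onto : ∀ v ∈ V, v ∉ V1 → ∃ w ∈ D.W, v * w * v⁻¹ * w⁻¹ ∉ D.Wc
  four : ∃ v ∈ V, ∃ v' ∈ V, v ∉ V1 ∧ v' ∉ V1 ∧ v⁻¹ * v' ∉ V1
  ex : ∃ e ∈ V1, e ∉ D.Wc
  two : ∀ a ∈ V1, ∀ b ∈ V1, a ∉ D.Wc → b ∉ D.Wc → a * b ∈ D.Wc
  small : ∀ w ∈ D.W, (∀ v ∈ V, v * w * v⁻¹ * w⁻¹ ∈ D.Wc) → ∀ v ∈ V, v * w = w * v
  big : ∀ w ∈ D.W, (∀ c ∈ D.C, ∀ v ∈ V, (c * v * c⁻¹) * w = w * (c * v * c⁻¹)) → w ∈ D.Wc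

namespace Inp

variable {G : Type*} [Group G] {D : Dat G} {J V V1 : Subgroup G} (I : Inp D J V V1)
include I

theorem nor : (J.subgroupOf D.C).Normal := ⟨fun j hj c => I.normJ c c.2 j hj⟩

/-- all elements of `V₁ - Wc` have the same image -/
theorem p_eq {a b : G} (ha : a ∈ V1) (hb : b ∈ V1) (ha' : a ∉ D.Wc) (hb' : b ∉ D.Wc) : D.p a = D.p b :=
  (D.p_eq (I.V1W ha) (I.V1W hb)).2 (I.two a ha b hb ha' hb')

theorem p_ne {e : G} (he : e ∈ V1) (he' : e ∉ D.Wc) : D.p e ≠ 0 := fun h =>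
  he' ((D.p_ker (I.V1W he)).1 h)

/-- the action of `V` -/
theorem smul_p {v w : G} (hv : v ∈ V) (hw : w ∈ D.W) :
    (⟨v, I.VC hv⟩ : D.C) • D.p w = D.p w + D.p (v * w * v⁻¹ * w⁻¹) := by
  rw [D.p_act _ hw, ← D.p_mul hw (I.V1W (I.com w hw v hv)), D.comm w hw _ (I.V1W (I.com w hw v hv))]
  congr 1
  change v * w * v⁻¹ = v * w * v⁻¹ * w⁻¹ * w
  group

theorem exists_phi {e : G} (he : e ∈ V1) (he' : e ∉ D.Wc) {v : G} (hv : v ∈ V) :
    ∃ φ ∈ Phi (J.subgroupOf D.C) (D.p e), ∀ x : D.Q, (⟨v, I.VC hv⟩ : D.C) • x = x + φ x • D.p e := by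
  apply exists_Phi (I.p_ne he he') (show (⟨v, I.VC hv⟩ : D.C) ∈ J.subgroupOf D.C from I.VJ hv)
  intro x
  obtain ⟨w, hw, rfl⟩ := D.p_surj x
  rw [I.smul_p hv hw]
  have h1 := I.com w hw v hv
  by_cases h2 : v * w * v⁻¹ * w⁻¹ ∈ D.Wc
  · left
    rw [(D.p_ker (I.V1W h1)).2 h2, add_zero]
  · right
    rw [I.p_eq h1 he h2 he']

/-- the meaning of the functional of `v` -/
theorem phi_eq_zero {e : G} (he : e ∈ V1) (he' : e ∉ D.Wc) {v : G} (hv : v ∈ V) {φ : Du D.Q}
    (hφ : ∀ x : D.Q, (⟨v, I.VC hv⟩ : D.C) • x = x + φ x • D.p e) {w : G} (hw : w ∈ D.W) :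
    φ (D.p w) = 0 ↔ v * w * v⁻¹ * w⁻¹ ∈ D.Wc := by
  have h1 := hφ (D.p w)
  rw [I.smul_p hv hw] at h1
  have h2 := add_left_cancel h1
  rw [← D.p_ker (I.V1W (I.com w hw v hv)), h2]
  constructor
  · intro h; rw [h, zero_smul]
  · intro h
    by_contra h3
    rw [eq_one_of_ne h3, one_smul] at h
    exact I.p_ne he he' h

theorem phi_ne_zero {e : G} (he : e ∈ V1) (he' : e ∉ D.Wc) {v : G} (hv : v ∈ V) (hv1 : v ∉ V1) {φ : Du D.Q}
    (hφ : ∀ x : D.Q, (⟨v, I.VC hv⟩ : D.C) • x = x + φ x • D.p e) : φ ≠ 0 := by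
  rintro rfl
  obtain ⟨w, hw, h⟩ := I.onto v hv hv1
  exact h ((I.phi_eq_zero he he' hv hφ hw).1 rfl)

/-- **the configuration** -/
theorem cfg {e : G} (he : e ∈ V1) (he' : e ∉ D.Wc) :
    Cfg (J.subgroupOf D.C) {x : D.Q | ∃ c : D.C, x = c • D.p e} where
  nor := I.nor
  ne := by
    rintro _ ⟨c, rfl⟩ h
    apply I.p_ne he he'
    have h2 : c⁻¹ • (c • D.p e) = c⁻¹ • (0 : D.Q) := by rw [h]
    rwa [inv_smul_smul, smul_zero] at h2
  inv := by
    rintro g _ ⟨c, rfl⟩
    exact ⟨g * c, (mul_smul g c _).symm⟩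
  tr := by
    rintro _ ⟨c, rfl⟩ _ ⟨d, rfl⟩
    exact ⟨d * c⁻¹, by rw [mul_smul, inv_smul_smul]⟩
  span := by
    rw [eq_top_iff]
    rintro x -
    obtain ⟨w, hw, rfl⟩ := D.p_surj x
    have key : w ∈ D.W ∧ D.p w ∈ Submodule.span (ZMod 2) {x : D.Q | ∃ c : D.C, x = c • D.p e} := by
      refine closure_induction (p := fun w _ => w ∈ D.W ∧
        D.p w ∈ Submodule.span (ZMod 2) {x : D.Q | ∃ c : D.C, x = c • D.p e}) ?_ ?_ ?_ ?_ (I.gen w hw)
      · rintro x ⟨c, hc, a, ha, rfl⟩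
        refine ⟨D.normW c hc a (I.V1W ha), ?_⟩
        have h1 := D.p_act ⟨c, hc⟩ (I.V1W ha)
        by_cases h2 : a ∈ D.Wc
        · rw [(D.p_ker (D.normW c hc a (I.V1W ha))).2 (D.normWc c hc a h2)]
          exact Submodule.zero_mem _
        · apply Submodule.subset_span
          refine ⟨⟨c, hc⟩, ?_⟩
          rw [I.p_eq he ha he' h2, h1]
      · exact ⟨D.W.one_mem, by rw [D.p_one]; exact Submodule.zero_mem _⟩
      · rintro x y _ _ ⟨hx, hx'⟩ ⟨hy, hy'⟩
        exact ⟨mul_mem hx hy, by rw [D.p_mul hx hy]; exact Submodule.add_mem _ hx' hy'⟩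
      · rintro x _ ⟨hx, hx'⟩
        exact ⟨inv_mem hx, by rw [D.p_inv hx]; exact hx'⟩
    exact key.2
  two := by
    rintro _ ⟨c, rfl⟩
    obtain ⟨v, hv, v', hv', h1, h2, h3⟩ := I.four
    obtain ⟨φ, hφ, h4⟩ := I.exists_phi he he' hv
    obtain ⟨ψ, hψ, h5⟩ := I.exists_phi he he' hv'
    have := I.nor
    refine ⟨dua c φ, Phi_smul c hφ, dua c ψ, Phi_smul c hψ, ?_, ?_, ?_⟩
    · intro h
      apply I.phi_ne_zero he he' hv h1 h4
      rw [← dua_inv_dua c φ, h]
      ext x; rfl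
    · intro h
      apply I.phi_ne_zero he he' hv' h2 h5
      rw [← dua_inv_dua c ψ, h]
      ext x; rfl
    · intro h
      have h6 := dua_injective c h
      subst h6
      have hvv : v⁻¹ * v' ∈ V := mul_mem (inv_mem hv) hv'
      obtain ⟨w, hw, h7⟩ := I.onto _ hvv h3
      apply h7
      have h8 : (⟨v⁻¹ * v', I.VC hvv⟩ : D.C) = (⟨v, I.VC hv⟩ : D.C)⁻¹ * ⟨v', I.VC hv'⟩ := rfl
      have h9 : (⟨v⁻¹ * v', I.VC hvv⟩ : D.C) • D.p w = D.p w := by
        rw [h8, mul_smul, h5, ← h4, inv_smul_smul]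
      rw [I.smul_p hvv hw] at h9
      have h10 := add_eq_left.1 h9
      exact (D.p_ker (I.V1W (I.com w hw _ hvv))).1 h10
  rad := by
    intro x hx
    obtain ⟨w, hw, rfl⟩ := D.p_surj x
    rw [D.p_ker hw]
    apply I.big w hw
    intro c hc v hv
    have hw' : c⁻¹ * w * c ∈ D.W := by
      have := D.normW c⁻¹ (inv_mem hc) w hw
      rwa [inv_inv] at this
    have key : ∀ v ∈ V, v * (c⁻¹ * w * c) * v⁻¹ * (c⁻¹ * w * c)⁻¹ ∈ D.Wc := by
      intro v hv
      obtain ⟨φ, hφ, h4⟩ := I.exists_phi he he' hv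
      rw [← I.phi_eq_zero he he' hv h4 hw']
      have := I.nor
      let d : D.C := ⟨c, hc⟩
      have h5 : (dua d φ) (D.p w) = 0 := hx (d • D.p e) ⟨d, rfl⟩ (dua d φ) (Phi_smul d hφ)
      rw [dua_apply, D.p_act _ hw] at h5
      have h6 : ((d⁻¹ : D.C) : G) * w * ((d⁻¹ : D.C) : G)⁻¹ = c⁻¹ * w * c := by
        rw [InvMemClass.coe_inv, inv_inv]
      rwa [h6] at h5
    have h1 := I.small _ hw' key v hv
    have h2 : c * (v * (c⁻¹ * w * c)) * c⁻¹ = c * ((c⁻¹ * w * c) * v) * c⁻¹ := by rw [h1]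
    have e1 : c * (v * (c⁻¹ * w * c)) * c⁻¹ = c * v * c⁻¹ * w := by group
    have e2 : c * ((c⁻¹ * w * c) * v) * c⁻¹ = w * (c * v * c⁻¹) := by group
    rwa [e1, e2] at h2

end Inp

end Cfsg.Agent.Omega.NO1.NatQuot
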