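import Cfsg.Agent.Omega.NO1.NatFiveA

/-!
# Theorem NAT of NO-1', step (5), part B

The group `WP` of the `w ∈ Wc` such that `J ∩ C(W1)` realises all rank one maps `m ↦ φ(m) w`; it contains all
values `c m c⁻¹ m⁻¹`, `c ∈ J ∩ C(W1)`, `m ∈ M1`.
-/

set_option autoImplicit false
set_option linter.unusedSectionVars false

namespace Cfsg.Agent.Omega.NO1.NatFive

open Subgroup Cfsg.Agent.Omega.Transv Cfsg.Agent.Omega.NO1.MiniMcL

universe u v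

variable {G : Type u} [Group G]

/-- `w ^ a` -/
def pw (a : ZMod 2) (w : G) : G := if a = 0 then 1 else w

theorem pw_zero (w : G) : pw 0 w = 1 := if_pos rfl

theorem pw_one (w : G) : pw 1 w = w := if_neg one_ne

theorem pw_add {w : G} (hw : w * w = 1) (a b : ZMod 2) : pw (a + b) w = pw a w * pw b w := by
  rcases zmod_cases a with h | h <;> rcases zmod_cases b with h' | h' <;> subst h <;> subst h'
  · rw [add_zero, pw_zero, mul_one]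
  · rw [zero_add, pw_zero, one_mul]
  · rw [add_zero, pw_zero, mul_one]
  · rw [one_add_one, pw_zero, pw_one, hw]

variable {C J V V1 W Wc : Subgroup G} {z e : G} {M : Type v} [AddCommGroup M]
  [Module (ZMod 2) M] [DistribMulAction C M] {cl : G → M}

namespace Fv

/-- `c` induces `m ↦ φ(m) w` -/
def Rl (J V1 : Subgroup G) (cl : G → M) (c : C) (φ : Du M) (w : G) : Prop :=
  ∀ m ∈ M1 J V1, fc c m = pw (φ (cl m)) w

variable (F : Fv C J V V1 W Wc z e cl) [Finite M]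
include F

theorem Rl_mul {c c' : C} (hc : c ∈ F.KW) (hc' : c' ∈ F.KW) {φ : Du M} {w w' : G}
    (h : Rl J V1 cl c φ w) (h' : Rl J V1 cl c' φ w') : Rl J V1 cl (c * c') φ (w * w') := by
  intro m hm
  rw [F.fc_mul_left hc hc' hm, h m hm, h' m hm]
  rcases zmod_cases (φ (cl m)) with h1 | h1
  · rw [h1, pw_zero, pw_zero, pw_zero, one_mul]
  · rw [h1, pw_one, pw_one, pw_one]

/-- conjugation with a transvection -/
theorem Rl_conj {x c : C} (hx : (x : G) ∈ J) (hc : c ∈ F.KW) {φ χ : Du M} {r : M}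
    (hχ : χ r = 0) (hxr : ∀ m : M, x • m = m + χ m • r) {w : G} (h : Rl J V1 cl c φ w) :
    Rl J V1 cl (x * c * x⁻¹) (φ + φ r • χ) w := by
  intro m hm
  have h0 : (x : G)⁻¹ * m * x ∈ M1 J V1 := by
    have := M1_conj_J (V1 := V1) (inv_mem hx) hm
    rwa [inv_inv] at this
  rw [F.fc_conj hx hc hm, h _ h0]
  congr 1
  have h1 : cl ((x : G)⁻¹ * m * x) = x⁻¹ • cl m := by
    rw [F.cl_smul x⁻¹ m (F.M1_le hm), Subgroup.coe_inv, inv_inv]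
  rw [h1, ← dua_apply, dua_of_act hχ hxr]

/-- `WP` -/
def WP : Subgroup G where
  carrier := {w | w ∈ Wc ∧ ∀ q ∈ F.W1, q ≠ 0 → ∀ φ ∈ Phi (J.subgroupOf C) q, ∃ c ∈ F.KW, Rl J V1 cl c φ w}
  one_mem' := by
    refine ⟨one_mem _, fun q _ _ φ _ => ⟨1, one_mem _, fun m hm => ?_⟩⟩
    rcases zmod_cases (φ (cl m)) with h1 | h1
    · rw [h1, pw_zero, fc, OneMemClass.coe_one]; group
    · rw [h1, pw_one, fc, OneMemClass.coe_one]; group
  mul_mem' := by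
    rintro w w' ⟨hw, h⟩ ⟨hw', h'⟩
    refine ⟨mul_mem hw hw', fun q hq h0 φ hφ => ?_⟩
    obtain ⟨c, hc, h1⟩ := h q hq h0 φ hφ
    obtain ⟨c', hc', h1'⟩ := h' q hq h0 φ hφ
    exact ⟨c * c', mul_mem hc hc', F.Rl_mul hc hc' h1 h1'⟩
  inv_mem' := by
    rintro w ⟨hw, h⟩
    rw [inv_eq_of_mul_eq_one_left (F.Wsq w (F.WcW hw))]
    exact ⟨hw, h⟩

theorem mem_WP {w : G} : w ∈ F.WP ↔ w ∈ Wc ∧ ∀ q ∈ F.W1, q ≠ 0 → ∀ φ ∈ Phi (J.subgroupOf C) q,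
    ∃ c ∈ F.KW, Rl J V1 cl c φ w := Iff.rfl

/-- a nonzero functional of `Phi q` is nonzero on the component of `q` -/
theorem Phi_nz {q : M} (hq : q ∈ F.W1) (h0 : q ≠ 0) {φ : Du M} (hφ : φ ∈ Phi (J.subgroupOf C) q)
    (h1 : φ ≠ 0) : ∃ m ∈ F.W1, φ m = 1 := by
  by_contra hcon
  push Not at hcon
  have hp := self_mem_Pt C (cl e)
  have h2 := F.cfg.comp_pts hp hq h0
  refine h1 (F.cfg.Phi_ext h2 hφ (zero_mem _) fun v hv => ?_)
  rw [F.cfg.comp_eq hp h2 hq] at hv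
  rw [eq_zero_of_ne (hcon v hv)]
  rfl

/-- all functionals of `W1` that vanish at `q` come from `Phi q` -/
theorem Phi_full {q : M} (hq : q ∈ F.W1) (h0 : q ≠ 0) {χ : Du M} (hχ : χ q = 0) :
    ∃ φ ∈ Phi (J.subgroupOf C) q, ∀ m ∈ F.W1, φ m = χ m := by
  have hp := self_mem_Pt C (cl e)
  have h2 := F.cfg.comp_pts hp hq h0
  obtain ⟨φ, h3, h4⟩ := F.cfg.Phi_full h2 (χ.comp (F.cfg.comp h2).subtype) hχ
  refine ⟨φ, h3, fun m hm => ?_⟩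
  have h5 : m ∈ F.cfg.comp h2 := by
    rw [F.cfg.comp_eq hp h2 hq]
    exact hm
  exact h4 ⟨m, h5⟩

/-- there is a nonzero functional in `Phi q` -/
theorem exists_Phi {q : M} (hq : q ∈ F.W1) (h0 : q ≠ 0) : ∃ φ ∈ Phi (J.subgroupOf C) q, φ ≠ 0 := by
  obtain ⟨φ, h1, -, -, h2, -, -⟩ := F.cfg.two q (F.cfg.comp_pts (self_mem_Pt C (cl e)) hq h0)
  exact ⟨φ, h1, h2⟩

/-- **all values are in `WP`** -/
theorem fc_mem_WP {c : C} (hc : c ∈ F.KW) {m : G} (hm : m ∈ M1 J V1) : fc c m ∈ F.WP := by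
  have hw := F.fc_mem hc hm
  have hww := F.Wsq _ (F.WcW hw)
  by_cases hq0 : cl m = 0
  · rw [F.fc_Wc hc.1 ((F.cl_ker m (F.M1_le hm)).1 hq0)]
    exact one_mem _
  have hq := F.cl_M1 hm
  refine ⟨hw, ?_⟩
  -- functionals of `Phi (cl m)`
  have step1 : ∀ φ ∈ Phi (J.subgroupOf C) (cl m), ∃ c' ∈ F.KW, Rl J V1 cl c' φ (fc c m) := by
    intro φ hφ
    obtain ⟨h1, x, hx, hxq⟩ := F.mem_Phi hφ
    refine ⟨x * c * x⁻¹ * c, mul_mem (F.KW_conj hx hc) hc, fun m' hm' => ?_⟩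
    rw [F.fc_mul_left (F.KW_conj hx hc) hc hm', F.fc_conj hx hc hm']
    have h0 : (x : G)⁻¹ * m' * x ∈ M1 J V1 := by
      have := M1_conj_J (V1 := V1) (inv_mem hx) hm'
      rwa [inv_inv] at this
    have h2 : cl ((x : G)⁻¹ * m' * x) = cl m' + φ (cl m') • cl m := by
      have h3 : cl ((x : G)⁻¹ * m' * x) = x⁻¹ • cl m' := by
        rw [F.cl_smul x⁻¹ m' (F.M1_le hm'), Subgroup.coe_inv, inv_inv]
      rw [h3, inv_smul_eq_iff, hxq, map_add, map_smul, h1, smul_zero, add_zero, add_add_self]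
    have h4 := F.Wsq _ (F.WcW (F.fc_mem hc hm'))
    rcases zmod_cases (φ (cl m')) with h5 | h5
    · rw [h5, zero_smul, add_zero] at h2
      rw [F.fc_eq_of_cl hc h0 hm' h2, h4, h5, pw_zero]
    · rw [h5, one_smul, ← F.cl_mul _ (F.M1_le hm') _ (F.M1_le hm)] at h2
      rw [F.fc_eq_of_cl hc h0 (mul_mem hm' hm) h2, F.fc_mul hc hm' hm, h5, pw_one,
        F.Wcomm _ (F.WcW (F.fc_mem hc hm')) _ (F.WcW hw), mul_assoc, h4, mul_one]
  intro q hqm hq1 ψ hψ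
  by_cases hψ0 : ψ = 0
  · refine ⟨1, one_mem _, fun m' hm' => ?_⟩
    rw [hψ0, LinearMap.zero_apply, pw_zero, fc, OneMemClass.coe_one]
    group
  obtain ⟨φ, hφ, hφ0⟩ := F.exists_Phi hq hq0
  obtain ⟨c', hc', h1⟩ := step1 φ hφ
  obtain ⟨r, hr, hr1, hr2⟩ := exists_one_one (F.Phi_nz hq hq0 hφ hφ0) (F.Phi_nz hqm hq1 hψ hψ0)
  have hr0 : r ≠ 0 := fun h => by rw [h, map_zero] at hr1; exact one_ne hr1.symm
  obtain ⟨χ, h2, h3⟩ := F.Phi_full hr hr0 (χ := φ + ψ) (by rw [LinearMap.add_apply, hr1, hr2, one_add_one])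
  obtain ⟨h4, x, hx, hxr⟩ := F.mem_Phi h2
  refine ⟨x * c' * x⁻¹, F.KW_conj hx hc', fun m' hm' => ?_⟩
  rw [F.Rl_conj hx hc' h4 hxr h1 m' hm', LinearMap.add_apply, LinearMap.smul_apply, hr1, one_smul,
    h3 _ (F.cl_M1 hm'), LinearMap.add_apply, ← add_assoc, add_self, zero_add]

/-- a functional of `Phi q`, `q ∈ W1`, that takes the value `1` at `p` -/
theorem exists_at_p : ∃ q ∈ F.W1, q ≠ 0 ∧ ∃ φ ∈ Phi (J.subgroupOf C) q, φ (cl e) = 1 := by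
  have hp := self_mem_Pt C (cl e)
  obtain ⟨r, hr, hpr, -⟩ := F.cfg.exists_second (q := cl e) hp
  have h0 := F.cfg.ne r hr
  have h1 := F.cfg.adj_symm hp hr hpr
  obtain ⟨φ, h2, h3⟩ := h1
  exact ⟨r, Or.inr (Or.inr ⟨hr, hpr⟩), h0, φ, h2, h3⟩

/-- elements of `V - V1` have nonzero functionals -/
theorem phi_ne {v : C} (hv : (v : G) ∈ V) (hv1 : (v : G) ∉ V1) {φ : Du M}
    (h : ∀ m : M, v • m = m + φ m • cl e) : φ ≠ 0 := by
  rintro rfl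
  obtain ⟨w, hw, h1⟩ := F.comm_surj v hv hv1 e F.eV1
  have h2 := h (cl w)
  rw [LinearMap.zero_apply, zero_smul, add_zero, F.cl_smul v w hw] at h2
  have h3 : cl e = 0 := by
    have h4 := F.Wn v v.2 w hw
    rw [← h1, F.cl_mul _ h4 _ (inv_mem hw), F.cl_inv hw, h2, add_self]
  exact F.ne h3

/-- `v ∈ V - V1` whose functional vanishes at `q` -/
theorem exists_v (q : M) : ∃ v : C, (v : G) ∈ V ∧ (v : G) ∉ V1 ∧ ∃ φ ∈ Phi (J.subgroupOf C) (cl e),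
    (∀ m : M, v • m = m + φ m • cl e) ∧ φ q = 0 ∧ φ ≠ 0 := by
  obtain ⟨a, ha, b, hb, ha1, hb1, hab1⟩ := F.four
  obtain ⟨φ, h1, h2⟩ := F.exists_phi (v := ⟨a, F.VC ha⟩) ha
  obtain ⟨ψ, h3, h4⟩ := F.exists_phi (v := ⟨b, F.VC hb⟩) hb
  have h1' := F.phi_ne (v := ⟨a, F.VC ha⟩) ha ha1 h2
  have h3' := F.phi_ne (v := ⟨b, F.VC hb⟩) hb hb1 h4
  rcases zmod_cases (φ q) with h5 | h5
  · exact ⟨⟨a, F.VC ha⟩, ha, ha1, φ, h1, h2, h5, h1'⟩
  rcases zmod_cases (ψ q) with h6 | h6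
  · exact ⟨⟨b, F.VC hb⟩, hb, hb1, ψ, h3, h4, h6, h3'⟩
  have h7 : ∀ m : M, (⟨a * b, F.VC (mul_mem ha hb)⟩ : C) • m = m + (φ + ψ) m • cl e := by
    intro m
    have h8 : (⟨a * b, F.VC (mul_mem ha hb)⟩ : C) = ⟨a, F.VC ha⟩ * ⟨b, F.VC hb⟩ := rfl
    rw [h8, mul_smul, h4, h2, map_add, map_smul, h1.1, smul_zero, add_zero, LinearMap.add_apply, add_smul]
    abel
  exact ⟨⟨a * b, F.VC (mul_mem ha hb)⟩, mul_mem ha hb, hab1, φ + ψ, add_mem h1 h3, h7,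
    by rw [LinearMap.add_apply, h5, h6, one_add_one],
    F.phi_ne (v := ⟨a * b, F.VC (mul_mem ha hb)⟩) (mul_mem ha hb) hab1 h7⟩

/-- **the common computation**: `x ∈ J` acts as the transvection `(q, ψ)`, `ψ p = 0`.  There are `u ∈ V1` and `u' ∈ V1^x`
with `cl u = cl u' = p` and `u' = f_c(u) u f_c(m)` -/
theorem common {x : C} (hx : (x : G) ∈ J) {q : M} {ψ : Du M} (hψ : ψ ∈ Phi (J.subgroupOf C) q) (hψp : ψ (cl e) = 0) (hxq : ∀ m : M, x • m = m + ψ m • q) :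
    ∃ u ∈ V1, ∃ u' ∈ V1, ∃ c ∈ F.KW, ∃ m ∈ M1 J V1, cl u = cl e ∧ cl u' = cl e ∧
      (x : G) * u' * (x : G)⁻¹ = fc c u * u * fc c m := by
  obtain ⟨v, hv, hv1, φ, hφ, hvp, hφq, hφ0⟩ := F.exists_v q
  have hp := self_mem_Pt C (cl e)
  -- `v' = x v x⁻¹` acts in the same way
  have hxp : x • cl e = cl e := by rw [hxq, hψp, zero_smul, add_zero]
  have h1 : ∀ m : M, (x * v * x⁻¹) • m = m + φ m • cl e := by
    intro m
    rw [mul_smul, mul_smul, hvp, smul_add, smul_inv_smul, smul_zmod, hxp, ← dua_apply,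
      dua_of_act hψ.1 hxq, hφq, zero_smul, add_zero]
  -- `c = v' v⁻¹`
  have hc : x * v * x⁻¹ * v⁻¹ ∈ F.KW := by
    refine ⟨mul_mem (mul_mem (mul_mem hx (F.VJ hv)) (inv_mem hx)) (inv_mem (F.VJ hv)), fun m _ => ?_⟩
    rw [mul_smul, h1, ← hvp, smul_inv_smul]
  obtain ⟨t, ht, ht1⟩ := F.Phi_nz F.p_mem F.ne hφ hφ0
  obtain ⟨m, hm, rfl⟩ := F.exists_M1 ht
  have hmW := F.M1_le hm
  -- `u`
  have hu := F.comm_mem v hv m hmW
  have hclu : cl ((v : G) * m * (v : G)⁻¹ * m⁻¹) = cl e := by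
    rw [F.cl_mul _ (F.Wn v v.2 m hmW) _ (inv_mem hmW), F.cl_inv hmW, ← F.cl_smul v m hmW, hvp, ht1, one_smul,
      add_comm (cl m), add_add_self]
  -- `u'`
  have hm' : (x : G)⁻¹ * m * x ∈ W := by
    have := F.Wn (x : G)⁻¹ (inv_mem x.2) m hmW
    rwa [inv_inv] at this
  have hu' := F.comm_mem v hv _ hm'
  have h2 : (x : G) * (v * ((x : G)⁻¹ * m * x) * (v : G)⁻¹ * ((x : G)⁻¹ * m * x)⁻¹) * (x : G)⁻¹ =
      fc (x * v * x⁻¹ * v⁻¹) ((v : G) * m * (v : G)⁻¹ * m⁻¹) * ((v : G) * m * (v : G)⁻¹ * m⁻¹) *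
        fc (x * v * x⁻¹ * v⁻¹) m := by
    rw [fc, fc]
    simp only [Subgroup.coe_mul, Subgroup.coe_inv]
    group
  have hclu' : cl ((v : G) * ((x : G)⁻¹ * m * x) * (v : G)⁻¹ * ((x : G)⁻¹ * m * x)⁻¹) = cl e := by
    rw [F.cl_mul _ (F.Wn v v.2 _ hm') _ (inv_mem hm'), F.cl_inv hm', ← F.cl_smul v _ hm', hvp]
    have h3 : cl ((x : G)⁻¹ * m * x) = x⁻¹ • cl m := by
      rw [F.cl_smul x⁻¹ m hmW, Subgroup.coe_inv, inv_inv]
    have h4 : φ (cl ((x : G)⁻¹ * m * x)) = 1 := by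
      rw [h3, ← dua_apply, dua_of_act hψ.1 hxq, hφq, zero_smul, add_zero, ht1]
    rw [h4, one_smul, add_comm (cl ((x : G)⁻¹ * m * x)), add_add_self]
  exact ⟨_, hu, _, hu', _, hc, m, hm, hclu, hclu', h2⟩

end Fv

end Cfsg.Agent.Omega.NO1.NatFive
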