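import Cfsg.Agent.Omega.NO1.NatFiveB
import Cfsg.Agent.Omega.Transv.Point
import Cfsg.Agent.Classification.ZNEndA

/-!
# Theorem NAT of NO-1', step (5), part C

* `Fv.lift_A` (`κ ≠ 0`): the transvections `(q, ψ)`, `ψ p = 0`, of `W1` are induced by `J ∩ C(V1)`.
* `Fv.parity`: this is impossible, because `S ∩ C(V1)` centralises a 2-space of functionals.
-/

set_option autoImplicit false
set_option linter.unusedSectionVars false

namespace Cfsg.Agent.Omega.NO1.NatFive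

open Subgroup Cfsg.Agent.Omega.Transv Cfsg.Agent.Omega.NO1.MiniMcL

universe u v

variable {G : Type u} [Group G]

variable {C J V V1 W Wc : Subgroup G} {z e : G} {M : Type v} [AddCommGroup M]
  [Module (ZMod 2) M] [DistribMulAction C M] {cl : G → M}

/-- the action of the Sylow group -/
structure Sy (S C J V V1 W : Subgroup G) (z e : G) : Prop where
  SC : S ≤ C
  SV : ∀ s ∈ S, ∀ v ∈ V, s * v * s⁻¹ ∈ V
  SV1 : ∀ s ∈ S, ∀ v ∈ V1, s * v * s⁻¹ ∈ V1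
  SHV : ∀ s ∈ S, s * e = e * s → ∀ v ∈ V, s * v * s⁻¹ * v⁻¹ ∈ V1
  two : IsPGroup 2 S
  Sz : ∀ w ∈ W, w ≠ 1 → (∀ s ∈ S, s * w = w * s) → w = z
  odd : ¬ 2 ∣ (S ⊓ (centralizer (V1 : Set G) ⊓ J)).relIndex (centralizer (V1 : Set G) ⊓ J)

namespace Fv

section A

variable (F : Fv C J V V1 W Wc z e cl) [Finite M]
include F

theorem mem_cent {x : C} : (x : G) ∈ centralizer (V1 : Set G) ↔ (x : G) * e = e * x := by
  rw [mem_centralizer_iff]
  constructor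
  · intro h
    exact (h e F.eV1).symm
  · intro h y hy
    have hz := F.zC x x.2
    rcases (F.V1_iff y).1 hy with h1 | h1 | h1 | h1
    · subst h1; rw [one_mul, mul_one]
    · subst h1; exact hz.symm
    · subst h1; exact h.symm
    · subst h1
      rw [mul_assoc, ← hz, ← mul_assoc, ← h, mul_assoc]

/-- **case `κ ≠ 0`** -/
theorem lift_A (hz : z ∈ F.WP) {x : C} (hx : (x : G) ∈ J) {q : M} (hq : q ∈ F.W1)
    {ψ : Du M} (hψ : ψ ∈ Phi (J.subgroupOf C) q) (hψp : ψ (cl e) = 0) (hxq : ∀ m : M, x • m = m + ψ m • q) :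
    ∃ x' : C, (x' : G) ∈ centralizer (V1 : Set G) ∧ (x' : G) ∈ J ∧ ∀ m ∈ F.W1, x' • m = m + ψ m • q := by
  obtain ⟨u, hu, u', hu', c, hc, m, hm, hclu, hclu', h1⟩ := F.common hx hψ hψp hxq
  have key : ∀ y ∈ V1, cl y = cl e → ∃ a ∈ F.WP, a ∈ zpowers z ∧ y = e * a := by
    intro y hy h
    rcases (F.V1_ne hy (h ▸ F.ne)).2 with h2 | h2
    · exact ⟨1, one_mem _, one_mem _, by rw [h2, mul_one]⟩
    · exact ⟨z, hz, mem_zpowers z, h2⟩
  obtain ⟨a, ha, -, hua⟩ := key u hu hclu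
  obtain ⟨b, hb, hbz, hub⟩ := key u' hu' hclu'
  have hf1 := F.fc_mem_WP hc (F.V1_le hu)
  have hf2 := F.fc_mem_WP hc hm
  have hWP : ∀ w ∈ F.WP, w ∈ Wc := fun w hw => hw.1
  have hxb : (x : G) * b * (x : G)⁻¹ = b := by
    have hzx := F.zC x x.2
    have h2 : Commute (x : G) z := hzx
    obtain ⟨n, rfl⟩ := mem_zpowers_iff.1 hbz
    rw [(h2.zpow_right n).eq, mul_inv_cancel_right]
  -- `x e x⁻¹ = e w`
  have h2 : (x : G) * e * (x : G)⁻¹ = e * (fc c u * a * fc c m * b) := by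
    have hbb := F.Wsq b (F.WcW (hWP b hb))
    have h3 : (x : G) * e * (x : G)⁻¹ = ((x : G) * u' * (x : G)⁻¹) * ((x : G) * b * (x : G)⁻¹) := by
      rw [hub]
      have : (x : G) * (e * b) * (x : G)⁻¹ * ((x : G) * b * (x : G)⁻¹) = (x : G) * e * (b * b) * (x : G)⁻¹ := by
        group
      rw [this, hbb, mul_one]
    have h4 := F.Wcomm _ (F.WcW (F.fc_mem hc (F.V1_le hu))) e F.eW
    rw [h3, h1, hxb]
    generalize fc c u = f1 at h4 ⊢
    rw [hua, ← mul_assoc f1 e a, h4]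
    group
  set w := fc c u * a * fc c m * b with hw
  have hwP : w ∈ F.WP := mul_mem (mul_mem (mul_mem hf1 ha) hf2) hb
  obtain ⟨q', hq', hq'0, φ, hφ, hφp⟩ := F.exists_at_p
  obtain ⟨c1, hc1, hR⟩ := (F.mem_WP.1 hwP).2 q' hq' hq'0 φ hφ
  have h3 := hR e (F.V1_le F.eV1)
  rw [hφp, pw_one, fc] at h3
  have hce : (c1 : G) * e * (c1 : G)⁻¹ = e * w := by
    rw [← F.Wcomm w (F.WcW (hWP w hwP)) e F.eW, ← h3]; group
  refine ⟨c1⁻¹ * x, ?_, mul_mem (inv_mem hc1.1) hx, fun m hm => ?_⟩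
  · rw [F.mem_cent, Subgroup.coe_mul, Subgroup.coe_inv]
    have h4 : ((c1 : G)⁻¹ * x) * e * ((c1 : G)⁻¹ * x)⁻¹ = e := by
      have h5 : ((c1 : G)⁻¹ * x) * e * ((c1 : G)⁻¹ * x)⁻¹ = (c1 : G)⁻¹ * ((x : G) * e * (x : G)⁻¹) * c1 := by
        group
      rw [h5, h2, ← hce]; group
    exact mul_inv_eq_iff_eq_mul.1 h4
  · rw [mul_smul, hxq]
    have h5 : m + ψ m • q ∈ F.W1 := add_mem hm (Submodule.smul_mem _ _ hq)
    exact (inv_mem hc1 : c1⁻¹ ∈ F.KW).2 _ h5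

end A

section S

variable (F : Fv C J V V1 W Wc z e cl) [Finite M] {S : Subgroup G} (Y : Sy S C J V V1 W z e)
include F Y

/-- `S` fixes `p` -/
theorem S_p {s : C} (hs : (s : G) ∈ S) : s • cl e = cl e := by
  have h1 := Y.SV1 s hs e F.eV1
  have h2 := F.cl_smul s e F.eW
  rw [h2]
  refine (F.V1_ne h1 ?_).1
  rw [← h2]
  intro h
  have h3 : s⁻¹ • (s • cl e) = s⁻¹ • (0 : M) := by rw [h]
  rw [inv_smul_smul, smul_zero] at h3
  exact F.ne h3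

theorem S_W1 {s : C} (hs : (s : G) ∈ S) {m : M} (hm : m ∈ F.W1) : s • m ∈ F.W1 :=
  F.cfg.comp_smul_self _ (F.S_p Y hs) hm

theorem S_M1 {s : C} (hs : (s : G) ∈ S) {m : G} (hm : m ∈ M1 J V1) : (s : G) * m * (s : G)⁻¹ ∈ M1 J V1 :=
  M1_conj (fun x hx => F.Jn s s.2 x hx) (fun u hu => Y.SV1 s hs u hu) hm

theorem S_KW {s c : C} (hs : (s : G) ∈ S) (hc : c ∈ F.KW) : s * c * s⁻¹ ∈ F.KW := by
  refine ⟨F.Jn s s.2 c hc.1, fun m hm => ?_⟩
  rw [mul_smul, mul_smul, hc.2 _ (F.S_W1 Y (s := s⁻¹) (inv_mem hs) hm), smul_inv_smul]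

/-- `S` normalises `WP` -/
theorem S_WP {s : C} (hs : (s : G) ∈ S) {w : G} (hw : w ∈ F.WP) : (s : G) * w * (s : G)⁻¹ ∈ F.WP := by
  have hwc := hw.1
  have hWc : (s : G) * w * (s : G)⁻¹ ∈ Wc := by
    rw [← F.cl_ker _ (F.Wn s s.2 w (F.WcW hwc)), ← F.cl_smul s w (F.WcW hwc),
      (F.cl_ker w (F.WcW hwc)).2 hwc, smul_zero]
  have := F.cfg.nor
  refine ⟨hWc, fun q hq hq0 φ hφ => ?_⟩
  have h1 := Phi_smul s⁻¹ hφ
  have hq' : s⁻¹ • q ≠ 0 := fun h => hq0 (by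
    have h3 : s • (s⁻¹ • q) = s • (0 : M) := by rw [h]
    rwa [smul_inv_smul, smul_zero] at h3)
  obtain ⟨c, hc, h2⟩ := hw.2 _ (F.S_W1 Y (s := s⁻¹) (inv_mem hs) hq) hq' _ h1
  refine ⟨s * c * s⁻¹, F.S_KW Y hs hc, fun m hm => ?_⟩
  have hm' : (s : G)⁻¹ * m * s ∈ M1 J V1 := by
    have := F.S_M1 Y (s := s⁻¹) (inv_mem hs) hm
    rwa [Subgroup.coe_inv, inv_inv] at this
  have h3 := h2 _ hm'
  have h4 : cl ((s : G)⁻¹ * m * s) = s⁻¹ • cl m := by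
    rw [F.cl_smul s⁻¹ m (F.M1_le hm), Subgroup.coe_inv, inv_inv]
  rw [h4, dua_apply, inv_inv, smul_inv_smul] at h3
  have h5 : fc (s * c * s⁻¹) m = (s : G) * fc c ((s : G)⁻¹ * m * s) * (s : G)⁻¹ := by
    rw [fc, fc]
    simp only [Subgroup.coe_mul, Subgroup.coe_inv]
    group
  rw [h5, h3]
  rcases zmod_cases (φ (cl m)) with h6 | h6
  · rw [h6, pw_zero, pw_zero, mul_one, mul_inv_cancel]
  · rw [h6, pw_one, pw_one]

/-- `κ ≠ 0` ⟹ `z ∈ WP` -/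
theorem z_mem_WP [Finite G] (h : ∃ c ∈ F.KW, ∃ m ∈ M1 J V1, fc c m ≠ 1) : z ∈ F.WP := by
  obtain ⟨c, hc, m, hm, h1⟩ := h
  have : Fact (Nat.Prime 2) := ⟨Nat.prime_two⟩
  have hWP : IsPGroup 2 F.WP := by
    intro w
    refine ⟨1, Subtype.ext ?_⟩
    have h2 := F.Wsq w (F.WcW w.2.1)
    change (w : G) ^ 2 ^ 1 = 1
    rw [pow_one, pow_two, h2]
  have hne : F.WP ≠ ⊥ := by
    intro h2
    have h3 := F.fc_mem_WP hc hm
    rw [h2, mem_bot] at h3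
    exact h1 h3
  have hn : S ≤ normalizer (F.WP : Set G) := by
    intro s hs
    rw [mem_normalizer_iff]
    intro w
    constructor
    · intro hw
      exact F.S_WP Y (s := ⟨s, Y.SC hs⟩) hs hw
    · intro hw
      have h2 := F.S_WP Y (s := ⟨s⁻¹, Y.SC (inv_mem hs)⟩) (inv_mem hs) hw
      change s⁻¹ * (s * w * s⁻¹) * s⁻¹⁻¹ ∈ F.WP at h2
      have h3 : s⁻¹ * (s * w * s⁻¹) * s⁻¹⁻¹ = w := by group
      rwa [h3] at h2
  obtain ⟨w, hw, hw1, hw2⟩ := Classification.ZNEndA.exists_fixed hWP hne Y.two hn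
  have h3 := Y.Sz w (F.WcW hw.1) hw1 hw2
  rwa [h3] at hw

/-- `S ∩ C(V1)` fixes the functionals of `V` -/
theorem S_phi {s : C} (hs : (s : G) ∈ S) (hse : (s : G) * e = e * s) {v : C} (hv : (v : G) ∈ V) {φ : Du M}
    (hφ : φ ∈ Phi (J.subgroupOf C) (cl e)) (h : ∀ m : M, v • m = m + φ m • cl e) : dua s φ = φ := by
  have := F.cfg.nor
  have h1 := F.S_p Y hs
  have h2 := Phi_smul s hφ
  rw [h1] at h2
  have h3 : ∀ m : M, (s * v * s⁻¹) • m = m + dua s φ m • cl e := by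
    intro m
    rw [mul_smul, mul_smul, h, smul_add, smul_inv_smul, smul_zmod, h1, dua_apply]
  have h4 := Y.SHV s hs hse v hv
  -- `s v s⁻¹ v⁻¹ ∈ V1` acts trivially
  have h5 : ∀ m : M, (s * v * s⁻¹ * v⁻¹) • m = m := by
    intro m
    obtain ⟨w, hw, rfl⟩ := F.exists_cl m
    rw [F.cl_smul _ w hw]
    congr 1
    have h6 := F.Wcomm _ (F.V1W h4) w hw
    have h7 : ((s * v * s⁻¹ * v⁻¹ : C) : G) = s * v * (s : G)⁻¹ * (v : G)⁻¹ := rfl
    rw [h7, h6, mul_inv_cancel_right]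
  ext m
  have h6 : (s * v * s⁻¹) • m = v • m := by
    have h7 := h5 (v • m)
    rwa [← mul_smul, inv_mul_cancel_right] at h7
  rw [h3, h] at h6
  have h7 := add_left_cancel h6
  have h8 : (dua s φ m - φ m) • cl e = 0 := by rw [sub_smul, h7, sub_self]
  by_contra h9
  have h10 : dua s φ m - φ m ≠ 0 := fun h0 => h9 (sub_eq_zero.mp h0)
  rw [eq_one_of_ne h10, one_smul] at h8
  exact F.ne h8

end S

end Fv

end Cfsg.Agent.Omega.NO1.NatFive
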