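import Cfsg.Agent.Omega.NO1.NatFiveC

/-!
# Theorem NAT of NO-1', step (5), part D: parity

`S ∩ C(V1) ∩ J` is a Sylow 2-subgroup of `L = C(V1) ∩ J` and centralises the functionals `φ₁, φ₂` of `V`.  If `L` induces
all transvections `(q, ψ)`, `ψ p = 0`, then `L_{φ₁}` is transitive on the even set `Phi p - {0, φ₁}`.
-/

set_option autoImplicit false
set_option linter.unusedSectionVars false

namespace Cfsg.Agent.Omega.NO1.NatFive

open Subgroup Cfsg.Agent.Omega.Transv Cfsg.Agent.Omega.NO1.MiniMcL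

universe u v

variable {G : Type u} [Group G]

variable {C J V V1 W Wc : Subgroup G} {z e : G} {M : Type v} [AddCommGroup M]
  [Module (ZMod 2) M] [DistribMulAction C M] {cl : G → M}

theorem even_ncard (A : Submodule (ZMod 2) (Du M)) [Finite M] {φ : Du M} (hφ : φ ∈ A) (h0 : φ ≠ 0) :
    2 ∣ ((A : Set (Du M)) \ {0, φ}).ncard := by
  have : Finite (Du M) := Finite.of_injective (fun φ : Du M => (φ : M → ZMod 2)) DFunLike.coe_injective
  have h1 : 2 ∣ Nat.card A := by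
    have h2 : addOrderOf (⟨φ, hφ⟩ : A) = 2 := by
      apply addOrderOf_eq_prime
      · apply Subtype.ext
        change (2 : ℕ) • φ = 0
        rw [two_nsmul]
        exact Transv.add_self φ
      · intro h
        exact h0 (congrArg Subtype.val h)
    have h3 := addOrderOf_dvd_natCard (⟨φ, hφ⟩ : A)
    rwa [h2] at h3
  have h2 : ({0, φ} : Set (Du M)) ⊆ A := by
    rintro x (rfl | rfl)
    · exact zero_mem A
    · exact hφ
  have h3 : ({0, φ} : Set (Du M)).ncard = 2 := Set.ncard_pair (Ne.symm h0)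
  have h4 : ((A : Set (Du M)) \ {0, φ}).ncard + ({0, φ} : Set (Du M)).ncard = (A : Set (Du M)).ncard :=
    Set.ncard_sdiff_add_ncard_of_subset h2
  have h5 : (A : Set (Du M)).ncard = Nat.card A := rfl
  omega

namespace Fv

variable (F : Fv C J V V1 W Wc z e cl) [Finite M] {S : Subgroup G} (Y : Sy S C J V V1 W z e)
include F Y

/-- **parity** -/
theorem parity [Finite G]
    (hL : ∀ q ∈ F.W1, q ≠ 0 → q ≠ cl e → ∀ ψ ∈ Phi (J.subgroupOf C) q, ψ (cl e) = 0 →
      ∃ x' : C, (x' : G) ∈ centralizer (V1 : Set G) ∧ (x' : G) ∈ J ∧ ∀ m ∈ F.W1, x' • m = m + ψ m • q) :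
    False := by
  let _ : DistribMulAction C (Du M) := dualAct C M
  have hp := self_mem_Pt C (cl e)
  have hnor := F.cfg.nor
  obtain ⟨a, ha, b, hb, ha1, hb1, hab1⟩ := F.four
  obtain ⟨φ₁, h1, h1'⟩ := F.exists_phi (v := ⟨a, F.VC ha⟩) ha
  obtain ⟨φ₂, h2, h2'⟩ := F.exists_phi (v := ⟨b, F.VC hb⟩) hb
  have n1 := F.phi_ne (v := ⟨a, F.VC ha⟩) ha ha1 h1'
  have n2 := F.phi_ne (v := ⟨b, F.VC hb⟩) hb hb1 h2'
  have n12 : φ₂ ≠ φ₁ := by
    rintro rfl
    refine F.phi_ne (v := ⟨a * b, F.VC (mul_mem ha hb)⟩) (mul_mem ha hb) hab1 (φ := 0) (fun m => ?_) rfl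
    have h8 : (⟨a * b, F.VC (mul_mem ha hb)⟩ : C) = ⟨a, F.VC ha⟩ * ⟨b, F.VC hb⟩ := rfl
    rw [h8, mul_smul, h2', h1', map_add, map_smul, h1.1, smul_zero, add_zero, LinearMap.zero_apply,
      zero_smul, add_zero, add_add_self]
  -- `L` fixes `p`
  have hLp : ∀ l : C, (l : G) ∈ centralizer (V1 : Set G) → l • cl e = cl e := by
    intro l hl
    rw [F.cl_smul l e F.eW, F.mem_cent.1 hl, mul_inv_cancel_right]
  let L : Subgroup C := (centralizer (V1 : Set G) ⊓ J).subgroupOf C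
  let L1 : Subgroup C := L ⊓ MulAction.stabilizer C φ₁
  let T : Subgroup C := (S ⊓ (centralizer (V1 : Set G) ⊓ J)).subgroupOf C
  have hKC : centralizer (V1 : Set G) ⊓ J ≤ C := inf_le_right.trans F.JC
  have hTL : T.relIndex L = (S ⊓ (centralizer (V1 : Set G) ⊓ J)).relIndex (centralizer (V1 : Set G) ⊓ J) :=
    relIndex_subgroupOf hKC
  have hTf : ∀ s ∈ T, dua s φ₁ = φ₁ ∧ dua s φ₂ = φ₂ := by
    intro s hs
    have hsS : (s : G) ∈ S := hs.1
    have hse := F.mem_cent.1 (hs.2.1 : (s : G) ∈ centralizer (V1 : Set G))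
    exact ⟨F.S_phi Y hsS hse (v := ⟨a, F.VC ha⟩) ha h1 h1', F.S_phi Y hsS hse (v := ⟨b, F.VC hb⟩) hb h2 h2'⟩
  have hT1 : T ≤ L1 := fun s hs => ⟨hs.2, (hTf s hs).1⟩
  have hLL : L1 ≤ L := inf_le_left
  -- the orbit
  have horb : MulAction.orbit L1 φ₂ = (Phi (J.subgroupOf C) (cl e) : Set (Du M)) \ {0, φ₁} := by
    ext φ₃
    constructor
    · rintro ⟨l, rfl⟩
      change dua (l : C) φ₂ ∈ _
      have h3 := Phi_smul (l : C) h2
      rw [hLp _ l.2.1.1] at h3
      have h4 : dua (l : C) φ₁ = φ₁ := l.2.2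
      refine ⟨h3, ?_⟩
      rintro (h5 | h5)
      · have h6 : dua (l : C) φ₂ = dua (l : C) 0 := by
          rw [h5]; rfl
        exact n2 (dua_injective _ h6)
      · have h6 : dua (l : C) φ₂ = dua (l : C) φ₁ := by
          rw [h4]; exact h5
        exact n12 (dua_injective _ h6)
    · rintro ⟨h3, h4⟩
      rw [Set.mem_insert_iff, Set.mem_singleton_iff, not_or] at h4
      obtain ⟨q, hq, hq0, hqp, h5, h6, h7, h8⟩ := F.cfg.exists_move hp h1 h2 h3 n2 h4.1 n12 h4.2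
      have hψp : (φ₂ + φ₃) (cl e) = 0 := by
        rw [LinearMap.add_apply, h2.1, h3.1, add_zero]
      obtain ⟨x, hx1, hx2, hx3⟩ := hL q hq hq0 hqp _ h5 hψp
      have key : ∀ φ ∈ Phi (J.subgroupOf C) (cl e), dua x φ = φ + φ q • (φ₂ + φ₃) := by
        intro φ hφ
        have h9 := Phi_smul x hφ
        rw [hLp x hx1] at h9
        refine F.cfg.Phi_ext hp h9 (add_mem hφ (Submodule.smul_mem _ _ (add_mem h2 h3))) fun m hm => ?_
        have h10 : x⁻¹ • m = m + (φ₂ + φ₃) m • q := by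
          have hm' : m + (φ₂ + φ₃) m • q ∈ F.W1 := add_mem hm (Submodule.smul_mem _ _ hq)
          rw [inv_smul_eq_iff, hx3 _ hm', map_add, map_smul, h5.1, smul_zero, add_zero, add_add_self]
        rw [dua_apply, h10, map_add, map_smul, LinearMap.add_apply φ, LinearMap.smul_apply, smul_eq_mul,
          smul_eq_mul, mul_comm]
      have hx4 : dua x φ₁ = φ₁ := by rw [key _ h1, h6, zero_smul, add_zero]
      refine ⟨⟨x, ⟨⟨hx1, hx2⟩, hx4⟩⟩, ?_⟩
      change dua x φ₂ = φ₃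
      rw [key _ h2, h7, one_smul, ← add_assoc, Transv.add_self, zero_add]
  have h3 : (MulAction.stabilizer L1 φ₂).index = ((Phi (J.subgroupOf C) (cl e) : Set (Du M)) \ {0, φ₁}).ncard := by
    rw [MulAction.index_stabilizer, horb]
  have h4 := even_ncard _ h1 n1
  rw [← h3] at h4
  have h5 : T.subgroupOf L1 ≤ MulAction.stabilizer L1 φ₂ := fun s hs => (hTf (s : C) hs).2
  have h6 : (MulAction.stabilizer L1 φ₂).index ∣ T.relIndex L1 := index_dvd_of_le h5
  have h7 := relIndex_mul_relIndex T L1 L hT1 hLL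
  apply Y.odd
  rw [← hTL, ← h7]
  exact (h4.trans h6).trans (Dvd.intro _ rfl)

end Fv

end Cfsg.Agent.Omega.NO1.NatFive
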