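import Cfsg.Agent.Omega.NO1.NatFiveD

/-!
# Theorem NAT of NO-1', step (5), part E: `κ = 0`

`J ∩ C(W1)` centralises `M1`.  Then `N_C(p) ≤ N(V1)`, `M1` is the union of the conjugates `V1^x`, `x ∈ J`, `M1 ∩ Wc = ⟨z⟩`.
-/

set_option autoImplicit false
set_option linter.unusedSectionVars false

namespace Cfsg.Agent.Omega.NO1.NatFive

open Subgroup Cfsg.Agent.Omega.Transv Cfsg.Agent.Omega.NO1.MiniMcL

universe u v

variable {G : Type u} [Group G]

variable {C J V V1 W Wc : Subgroup G} {z e : G} {M : Type v} [AddCommGroup M]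
  [Module (ZMod 2) M] [DistribMulAction C M] {cl : G → M}

namespace Fv

/-- `κ = 0` -/
def Kz (F : Fv C J V V1 W Wc z e cl) [Finite M] : Prop := ∀ c ∈ F.KW, ∀ m ∈ M1 J V1, fc c m = 1

variable (F : Fv C J V V1 W Wc z e cl) [Finite M] (hB : F.Kz)
include F

theorem act_add {x : C} {q : M} {ψ : Du M} (hψ : ψ q = 0) (hxq : ∀ m : M, x • m = m + ψ m • q) (m : M) :
    x⁻¹ • m = m + ψ m • q := by
  rw [inv_smul_eq_iff, hxq, map_add, map_smul, hψ, smul_zero, add_zero, add_add_self]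

/-- `v w v⁻¹ w⁻¹` is a homomorphism on `W` -/
theorem fc_mul_W (v : C) {w w' : G} (hw : w ∈ W) (hw' : w' ∈ W) : fc v (w * w') = fc v w * fc v w' := by
  have h2 := F.Wn v v.2 w' hw'
  have h3 : fc v w' ∈ W := mul_mem h2 (inv_mem hw')
  have h4 := F.Wcomm _ (inv_mem hw) _ h3
  have e1 : fc v (w * w') = ((v : G) * w * (v : G)⁻¹) * (fc v w' * w⁻¹) := by
    rw [fc, fc]; group
  rw [e1, ← h4, ← mul_assoc]
  rfl

theorem cl_fc (v : C) {w : G} (hw : w ∈ W) : cl (fc v w) = v • cl w + cl w := by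
  rw [fc, F.cl_mul _ (F.Wn v v.2 w hw) _ (inv_mem hw), F.cl_inv hw, F.cl_smul v w hw]

include hB

theorem Kz.comm {c : C} (hc : c ∈ F.KW) {m : G} (hm : m ∈ M1 J V1) : (c : G) * m * (c : G)⁻¹ = m := by
  have h := hB c hc m hm
  rw [fc] at h
  exact mul_inv_eq_one.1 h

/-- (E1) -/
theorem norm_of_act {x : C} (hx : (x : G) ∈ J) {q : M} {ψ : Du M} (hψ : ψ ∈ Phi (J.subgroupOf C) q)
    (hψp : ψ (cl e) = 0) (hxq : ∀ m : M, x • m = m + ψ m • q) {y : G} (hy : y ∈ V1) :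
    (x : G) * y * (x : G)⁻¹ ∈ V1 := by
  obtain ⟨u, hu, u', hu', c, hc, m, hm, -, hclu', h1⟩ := F.common hx hψ hψp hxq
  rw [hB c hc u (F.V1_le hu), hB c hc m hm, one_mul, mul_one] at h1
  have hz : (x : G) * z * (x : G)⁻¹ = z := by rw [F.zC x x.2, mul_inv_cancel_right]
  have he : (x : G) * e * (x : G)⁻¹ ∈ V1 := by
    rcases (F.V1_ne hu' (hclu' ▸ F.ne)).2 with h2 | h2
    · rw [h2] at h1
      rwa [h1]
    · rw [h2] at h1
      have h3 : (x : G) * e * (x : G)⁻¹ = ((x : G) * (e * z) * (x : G)⁻¹) * ((x : G) * z * (x : G)⁻¹)⁻¹ := by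
        group
      rw [h3, h1, hz]
      exact mul_mem hu (inv_mem F.zV1)
  rcases (F.V1_iff y).1 hy with h | h | h | h
  · rw [h, mul_one, mul_inv_cancel]; exact one_mem _
  · rw [h, hz]; exact F.zV1
  · rw [h]; exact he
  · have h3 : (x : G) * (e * z) * (x : G)⁻¹ = ((x : G) * e * (x : G)⁻¹) * ((x : G) * z * (x : G)⁻¹) := by group
    rw [h, h3, hz]
    exact mul_mem he F.zV1

/-- (E2) : `[M1, v] = V1` -/
theorem M1_surj {v : C} (hv : (v : G) ∈ V) (hv1 : (v : G) ∉ V1) {y : G} (hy : y ∈ V1) :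
    ∃ m ∈ M1 J V1, fc v m = y := by
  let B : Subgroup G :=
    { carrier := {w | w ∈ W ∧ ∃ m ∈ M1 J V1, fc v m = fc v w}
      one_mem' := ⟨one_mem _, 1, one_mem _, rfl⟩
      mul_mem' := by
        rintro a b ⟨ha, m, hm, h1⟩ ⟨hb, m', hm', h2⟩
        refine ⟨mul_mem ha hb, m * m', mul_mem hm hm', ?_⟩
        rw [F.fc_mul_W v (F.M1_le hm) (F.M1_le hm'), F.fc_mul_W v ha hb, h1, h2]
      inv_mem' := by
        rintro a ⟨ha, m, hm, h1⟩
        refine ⟨inv_mem ha, m, hm, ?_⟩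
        rw [inv_eq_of_mul_eq_one_left (F.Wsq a ha), h1] }
  have hp := self_mem_Pt C (cl e)
  obtain ⟨φ, hφ, hφv⟩ := F.exists_phi hv
  have key : W ≤ B := by
    refine F.Wgen B fun c hc u hu => ?_
    have huW := F.V1W hu
    have hcu := F.Wn c hc u huW
    refine ⟨hcu, ?_⟩
    have hcl := F.cl_smul ⟨c, hc⟩ u huW
    by_cases h1 : (⟨c, hc⟩ : C) • cl u ∈ F.W1
    · -- `c u c⁻¹ = m w₀`
      obtain ⟨m, hm, h2⟩ := F.exists_M1 h1
      refine ⟨m, hm, ?_⟩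
      have hmW := F.M1_le hm
      have h3 : m * (c * u * c⁻¹) ∈ Wc := by
        rw [← F.cl_ker _ (mul_mem hmW hcu), F.cl_mul _ hmW _ hcu, h2, hcl]
        exact Transv.add_self _
      have h4 := F.fc_mul_W v hmW hcu
      rw [F.fc_Wc (F.VJ hv) h3] at h4
      have h5 : fc v (c * u * c⁻¹) * fc v (c * u * c⁻¹) = 1 := by
        refine F.Wsq _ (mul_mem (F.Wn v v.2 _ hcu) (inv_mem hcu))
      exact mul_right_cancel (h4.symm.trans h5.symm)
    · -- `v` centralises `c u c⁻¹`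
      have hp' : cl u = cl e := by
        rcases F.V1_cases hu with h2 | h2
        · rw [h2.1, smul_zero] at h1
          exact absurd (zero_mem _) h1
        · exact h2.1
      refine ⟨1, one_mem _, ?_⟩
      have hcC : (⟨c, hc⟩ : C) • cl e ∈ Pt C (cl e) := ⟨_, rfl⟩
      -- `c⁻¹ v c` is trivial on `W1`
      have hk : (⟨c, hc⟩ : C)⁻¹ * v * ⟨c, hc⟩ ∈ F.KW := by
        refine ⟨?_, fun m hm => ?_⟩
        · have := F.Jn c⁻¹ (inv_mem hc) v (F.VJ hv)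
          rwa [inv_inv] at this
        · rw [mul_smul, mul_smul, inv_smul_eq_iff, hφv]
          have h3 : φ ((⟨c, hc⟩ : C) • m) = 0 := by
            by_cases h0 : m = 0
            · rw [h0, smul_zero, map_zero]
            have h4 := F.cfg.comp_smul hp ⟨c, hc⟩ hm
            have hm0 : (⟨c, hc⟩ : C) • m ≠ 0 := fun h => h0 (by
              have h5 : (⟨c, hc⟩ : C)⁻¹ • ((⟨c, hc⟩ : C) • m) = (⟨c, hc⟩ : C)⁻¹ • (0 : M) := by rw [h]
              rwa [inv_smul_smul, smul_zero] at h5)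
            have h5 := F.cfg.comp_pts hcC h4 hm0
            refine F.cfg.Phi_off hp h5 (fun h6 => h1 ?_) hφ
            have h7 := F.cfg.comp_eq hcC h5 h4
            have h8 := F.cfg.comp_eq hp h5 h6
            have h9 := F.cfg.self_mem_comp hcC
            rw [← h7, h8] at h9
            rw [hp']
            exact h9
          rw [h3, zero_smul, add_zero]
      have h2 := Kz.comm F hB hk (F.V1_le hu)
      have h3 : fc v (c * u * c⁻¹) = c * ((((⟨c, hc⟩ : C)⁻¹ * v * ⟨c, hc⟩ : C) : G) * u *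
          (((⟨c, hc⟩ : C)⁻¹ * v * ⟨c, hc⟩ : C) : G)⁻¹ * u⁻¹) * c⁻¹ := by
        rw [fc]
        simp only [Subgroup.coe_mul, Subgroup.coe_inv]
        group
      rw [h3, h2, mul_inv_cancel, mul_one, mul_inv_cancel, fc]
      group
  obtain ⟨w, hw, h1⟩ := F.comm_surj v hv hv1 y hy
  obtain ⟨-, m, hm, h2⟩ := key hw
  exact ⟨m, hm, by rw [h2]; exact h1⟩

/-- (E3) : the transvection `(p, φ)` is induced by a conjugate of an element of `V` -/
theorem exists_tv {φ : Du M} (hφ : φ ∈ Phi (J.subgroupOf C) (cl e)) (h0 : φ ≠ 0) :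
    ∃ y : C, (y : G) ∈ J ∧ ∃ a : C, (a : G) ∈ V ∧ (∀ m : M, (y * a * y⁻¹) • m = m + φ m • cl e) ∧
      ∀ m ∈ M1 J V1, fc (y * a * y⁻¹) m ∈ V1 := by
  have hp := self_mem_Pt C (cl e)
  obtain ⟨a, ha, ha1, φa, hφa, hact, -, hφa0⟩ := F.exists_v 0
  by_cases h1 : φ = φa
  · subst h1
    refine ⟨1, one_mem _, a, ha, fun m => by rw [one_mul, inv_one, mul_one, hact], fun m hm => ?_⟩
    rw [one_mul, inv_one, mul_one]
    exact F.comm_mem a ha m (F.M1_le hm)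
  obtain ⟨q, hq, h2, h3⟩ := exists_one_one (F.Phi_nz F.p_mem F.ne hφa hφa0) (F.Phi_nz F.p_mem F.ne hφ h0)
  have hq0 : q ≠ 0 := fun h => by rw [h, map_zero] at h2; exact one_ne h2.symm
  have hqP := F.cfg.comp_pts hp hq hq0
  have h4 : φa + φ ∈ Per (J.subgroupOf C) (cl e) q :=
    ⟨add_mem hφa hφ, by rw [LinearMap.add_apply, h2, h3, one_add_one]⟩
  have h4p : (φa + φ) (cl e) = 0 := h4.1.1
  rw [F.cfg.per_comm hp hqP ⟨φa, hφa, h2⟩] at h4
  obtain ⟨h5, y, hy, hyq⟩ := F.mem_Phi h4.1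
  have hyp : y • cl e = cl e := by rw [hyq, h4p, zero_smul, add_zero]
  refine ⟨y, hy, a, ha, fun m => ?_, fun m hm => ?_⟩
  · rw [mul_smul, mul_smul, hact, smul_add, smul_inv_smul, smul_zmod, hyp, ← dua_apply,
      dua_of_act h5 hyq, h2, one_smul, ← add_assoc, Transv.add_self, zero_add]
  · have hm' : (y : G)⁻¹ * m * y ∈ M1 J V1 := by
      have := M1_conj_J (V1 := V1) (inv_mem hy) hm
      rwa [inv_inv] at this
    have h6 := F.norm_of_act hB hy h4.1 h4p hyq (F.comm_mem a ha _ (F.M1_le hm'))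
    have h7 : fc (y * a * y⁻¹) m = (y : G) * (a * ((y : G)⁻¹ * m * y) * (a : G)⁻¹ * ((y : G)⁻¹ * m * y)⁻¹) *
        (y : G)⁻¹ := by
      rw [fc]
      simp only [Subgroup.coe_mul, Subgroup.coe_inv]
      group
    rw [h7]
    exact h6

/-- (E4) : `N_C(p) ≤ N(V1)` -/
theorem norm_of_fix {c : C} (hc : c • cl e = cl e) {y : G} (hy : y ∈ V1) : (c : G) * y * (c : G)⁻¹ ∈ V1 := by
  have hnor := F.cfg.nor
  obtain ⟨a, ha, ha1, φa, hφa, hact, -, hφa0⟩ := F.exists_v 0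
  have h1 := Phi_smul c hφa
  rw [hc] at h1
  have h2 : dua c φa ≠ 0 := fun h => hφa0 (dua_injective c (by rw [h]; rfl))
  obtain ⟨k, hk, b, hb, h3, h4⟩ := F.exists_tv hB h1 h2
  have hkb : ((k * b * k⁻¹ : C) : G) ∈ J := mul_mem (mul_mem hk (F.VJ hb)) (inv_mem hk)
  have h5 : ∀ m : M, (c * a * c⁻¹) • m = m + dua c φa m • cl e := by
    intro m
    rw [mul_smul, mul_smul, hact, smul_add, smul_inv_smul, smul_zmod, hc, dua_apply]
  have hv2 : ((c * a * c⁻¹ : C) : G) ∈ J := F.Jn c c.2 a (F.VJ ha)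
  have h6 : (c * a * c⁻¹) * (k * b * k⁻¹)⁻¹ ∈ F.KW := by
    refine ⟨mul_mem hv2 (inv_mem hkb), fun m _ => ?_⟩
    rw [mul_smul, F.act_add (q := cl e) (ψ := dua c φa) h1.1 h3, h5, map_add, map_smul, h1.1, smul_zero,
      add_zero, add_add_self]
  obtain ⟨m, hm, rfl⟩ := F.M1_surj hB ha ha1 hy
  have hmW := F.Wn c c.2 m (F.M1_le hm)
  have h7 : c • cl m ∈ F.W1 := F.cfg.comp_smul_self _ hc (F.cl_M1 hm)
  obtain ⟨m1, hm1, h8⟩ := F.exists_M1 h7
  have hm1W := F.M1_le hm1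
  have h9 : m1 * ((c : G) * m * (c : G)⁻¹) ∈ Wc := by
    rw [← F.cl_ker _ (mul_mem hm1W hmW), F.cl_mul _ hm1W _ hmW, h8, F.cl_smul c m (F.M1_le hm)]
    exact Transv.add_self _
  have h10 := F.fc_mul_W (c * a * c⁻¹) hm1W hmW
  rw [F.fc_Wc hv2 h9] at h10
  have h11 : fc (c * a * c⁻¹) ((c : G) * m * (c : G)⁻¹) * fc (c * a * c⁻¹) ((c : G) * m * (c : G)⁻¹) = 1 :=
    F.Wsq _ (mul_mem (F.Wn _ (c * a * c⁻¹ : C).2 _ hmW) (inv_mem hmW))
  have h12 : fc (c * a * c⁻¹) m1 = fc (c * a * c⁻¹) ((c : G) * m * (c : G)⁻¹) :=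
    mul_right_cancel (h10.symm.trans h11.symm)
  have h13 : fc (c * a * c⁻¹) ((c : G) * m * (c : G)⁻¹) = (c : G) * fc a m * (c : G)⁻¹ := by
    rw [fc, fc]
    simp only [Subgroup.coe_mul, Subgroup.coe_inv]
    group
  rw [← h13, ← h12]
  -- `c a c⁻¹ = k₁ (k b k⁻¹)`
  have h14 := Kz.comm F hB h6 (M1_conj_J (V1 := V1) hkb hm1)
  have h15 : fc (c * a * c⁻¹) m1 = fc (k * b * k⁻¹) m1 := by
    have h16 : ((c * a * c⁻¹ * (k * b * k⁻¹)⁻¹ : C) : G) * (((k * b * k⁻¹ : C) : G) * m1 *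
        ((k * b * k⁻¹ : C) : G)⁻¹) * ((c * a * c⁻¹ * (k * b * k⁻¹)⁻¹ : C) : G)⁻¹ =
        ((c * a * c⁻¹ : C) : G) * m1 * ((c * a * c⁻¹ : C) : G)⁻¹ := by
      rw [Subgroup.coe_mul (H := C) (c * a * c⁻¹) (k * b * k⁻¹)⁻¹, Subgroup.coe_inv C (k * b * k⁻¹)]
      group
    rw [h16] at h14
    rw [fc, fc, h14]
  rw [h15]
  exact h4 m1 hm1

/-- (E5) : `M1` is the union of the conjugates of `V1` -/
theorem M1_union {m : G} (hm : m ∈ M1 J V1) : ∃ x : C, (x : G) ∈ J ∧ ∃ y ∈ V1, m = x * y * (x : G)⁻¹ := by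
  have hnor := F.cfg.nor
  have hp := self_mem_Pt C (cl e)
  have hcent : ∀ x : C, ∀ y ∈ V1, cl y = 0 → (x : G) * y * (x : G)⁻¹ = y := by
    intro x y hy h
    rcases F.V1_zero hy h with h1 | h1
    · rw [h1]; group
    · rw [h1, F.zC x x.2, mul_inv_cancel_right]
  have hz0 : ∀ (x : C), ∀ y ∈ V1, cl ((x : G) * y * (x : G)⁻¹) = 0 → cl y = 0 := by
    intro x y hy h
    rw [← F.cl_smul x y (F.V1W hy)] at h
    have h1 : x⁻¹ • (x • cl y) = x⁻¹ • (0 : M) := by rw [h]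
    rwa [inv_smul_smul, smul_zero] at h1
  rw [M1] at hm
  induction hm using closure_induction with
  | mem y hy =>
    obtain ⟨x, hx, u, hu, rfl⟩ := hy
    exact ⟨⟨x, F.JC hx⟩, hx, u, hu, rfl⟩
  | one => exact ⟨1, one_mem _, 1, one_mem _, by simp⟩
  | inv a ha h1 =>
    obtain ⟨x, hx, y, hy, rfl⟩ := h1
    exact ⟨x, hx, y⁻¹, inv_mem hy, by group⟩
  | mul a b ha hb h1 h2 =>
    obtain ⟨x, hx, y, hy, rfl⟩ := h1
    obtain ⟨x', hx', y', hy', rfl⟩ := h2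
    have hyW := F.V1W hy
    have hyW' := F.V1W hy'
    have haW := F.Wn x x.2 y hyW
    have hbW := F.Wn x' x'.2 y' hyW'
    by_cases ha0 : cl ((x : G) * y * (x : G)⁻¹) = 0
    · have h3 := hz0 x y hy ha0
      refine ⟨x', hx', y * y', mul_mem hy hy', ?_⟩
      rw [hcent x y hy h3]
      have h4 := hcent x' y hy h3
      calc y * ((x' : G) * y' * (x' : G)⁻¹) = ((x' : G) * y * (x' : G)⁻¹) * ((x' : G) * y' * (x' : G)⁻¹) := by
            rw [h4]
        _ = _ := by group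
    by_cases hb0 : cl ((x' : G) * y' * (x' : G)⁻¹) = 0
    · have h3 := hz0 x' y' hy' hb0
      refine ⟨x, hx, y * y', mul_mem hy hy', ?_⟩
      rw [hcent x' y' hy' h3]
      have h4 := hcent x y' hy' h3
      calc (x : G) * y * (x : G)⁻¹ * y' = (x : G) * y * (x : G)⁻¹ * ((x : G) * y' * (x : G)⁻¹) := by rw [h4]
        _ = _ := by group
    have hyp : cl y = cl e := (F.V1_ne hy fun h => ha0 (by
      rw [← F.cl_smul x y hyW, h, smul_zero])).1
    have hyp' : cl y' = cl e := (F.V1_ne hy' fun h => hb0 (by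
      rw [← F.cl_smul x' y' hyW', h, smul_zero])).1
    have hca : cl ((x : G) * y * (x : G)⁻¹) = x • cl e := by rw [← F.cl_smul x y hyW, hyp]
    have hcb : cl ((x' : G) * y' * (x' : G)⁻¹) = x' • cl e := by rw [← F.cl_smul x' y' hyW', hyp']
    by_cases hab : cl ((x : G) * y * (x : G)⁻¹) = cl ((x' : G) * y' * (x' : G)⁻¹)
    · -- the same conjugate
      rw [hca, hcb] at hab
      have h3 : (x'⁻¹ * x) • cl e = cl e := by rw [mul_smul, hab, inv_smul_smul]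
      have h4 := F.norm_of_fix hB h3 hy
      refine ⟨x', hx', _, mul_mem h4 hy', ?_⟩
      simp only [Subgroup.coe_mul, Subgroup.coe_inv]
      group
    · -- different conjugates
      have haM : (x : G) * y * (x : G)⁻¹ ∈ M1 J V1 := subset_closure ⟨x, hx, y, hy, rfl⟩
      have hq := F.cl_M1 haM
      have hr : x' • cl e ∈ F.W1 := F.J_W1 hx' F.p_mem
      have hrP : x' • cl e ∈ Pt C (cl e) := ⟨x', rfl⟩
      rw [hcb] at hab hb0
      have hq' : cl ((x : G) * y * (x : G)⁻¹) ∈ F.cfg.comp hrP := by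
        rw [F.cfg.comp_eq hp hrP hr]
        exact hq
      obtain ⟨φ, hφ, hφq⟩ := F.cfg.Phi_sep hrP hq' ha0 hab
      have h3 := Phi_smul x'⁻¹ hφ
      rw [inv_smul_smul] at h3
      have hφ0 : dua x'⁻¹ φ ≠ 0 := by
        intro h
        have h4 : φ = 0 := dua_injective x'⁻¹ (by rw [h]; rfl)
        rw [h4] at hφq
        exact one_ne hφq.symm
      obtain ⟨k, hk, b, hbV, h4, h5⟩ := F.exists_tv hB h3 hφ0
      set v1 : C := k * b * k⁻¹ with hv1
      have hv1J : (v1 : G) ∈ J := mul_mem (mul_mem hk (F.VJ hbV)) (inv_mem hk)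
      -- `v' = x' v₁ x'⁻¹`
      have hm' : (x' : G)⁻¹ * ((x : G) * y * (x : G)⁻¹) * x' ∈ M1 J V1 := by
        have := M1_conj_J (V1 := V1) (inv_mem hx') haM
        rwa [inv_inv] at this
      have h6 := h5 _ hm'
      have hclm' : cl ((x' : G)⁻¹ * ((x : G) * y * (x : G)⁻¹) * x') = x'⁻¹ • cl ((x : G) * y * (x : G)⁻¹) := by
        rw [F.cl_smul x'⁻¹ _ haW, Subgroup.coe_inv, inv_inv]
      have h7 : cl (fc v1 ((x' : G)⁻¹ * ((x : G) * y * (x : G)⁻¹) * x')) = cl e := by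
        rw [F.cl_fc v1 (F.M1_le hm'), h4, hclm', dua_apply, inv_inv, smul_inv_smul, hφq, one_smul,
          add_comm _ (cl e), add_add_self]
      have h8 := (F.V1_ne h6 (h7 ▸ F.ne)).2
      have h9 := (F.V1_ne hy' (hyp' ▸ F.ne)).2
      -- `g = b t`, `t ∈ {1, z}`
      obtain ⟨t, ht, htz, h10⟩ : ∃ t ∈ V1, (t = 1 ∨ t = z) ∧
          fc v1 ((x' : G)⁻¹ * ((x : G) * y * (x : G)⁻¹) * x') = y' * t := by
        rcases h8 with h8 | h8 <;> rcases h9 with h9 | h9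
        · exact ⟨1, one_mem _, Or.inl rfl, by rw [h8, h9, mul_one]⟩
        · exact ⟨z, F.zV1, Or.inr rfl, by rw [h8, h9, mul_assoc, F.zsq, mul_one]⟩
        · exact ⟨z, F.zV1, Or.inr rfl, by rw [h8, h9]⟩
        · exact ⟨1, one_mem _, Or.inl rfl, by rw [h8, h9, mul_one]⟩
      have htC : ∀ c : C, (c : G) * t = t * c := by
        intro c
        rcases htz with h | h
        · rw [h, mul_one, one_mul]
        · rw [h]; exact F.zC c c.2
      have htt : t * t = 1 := F.Wsq t (F.V1W ht)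
      refine ⟨x' * v1 * x'⁻¹ * x, mul_mem (mul_mem (mul_mem hx' hv1J) (inv_mem hx')) hx, y * t,
        mul_mem hy ht, ?_⟩
      -- `x' fc x'⁻¹ a = (x' v₁ x'⁻¹) a (x' v₁ x'⁻¹)⁻¹`
      have h11 : (x' : G) * fc v1 ((x' : G)⁻¹ * ((x : G) * y * (x : G)⁻¹) * x') * (x' : G)⁻¹ *
          ((x : G) * y * (x : G)⁻¹) = ((x' * v1 * x'⁻¹ * x : C) : G) * y * ((x' * v1 * x'⁻¹ * x : C) : G)⁻¹ := by
        rw [fc]
        simp only [Subgroup.coe_mul, Subgroup.coe_inv]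
        group
      rw [h10] at h11
      have h12 : ((x' * v1 * x'⁻¹ * x : C) : G) * (y * t) * ((x' * v1 * x'⁻¹ * x : C) : G)⁻¹ =
          ((x' * v1 * x'⁻¹ * x : C) : G) * y * ((x' * v1 * x'⁻¹ * x : C) : G)⁻¹ * t := by
        have h13 := htC (x' * v1 * x'⁻¹ * x)⁻¹
        rw [Subgroup.coe_inv] at h13
        rw [mul_assoc, mul_assoc y t, ← h13]
        group
      rw [h12, ← h11]
      have h14 := htC x'⁻¹
      rw [Subgroup.coe_inv] at h14
      have h15 := htC x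
      have h16 := htC x⁻¹
      rw [Subgroup.coe_inv] at h16
      have h17 := F.Wcomm y hyW t (F.V1W ht)
      have h18 : (x' : G) * (y' * t) * (x' : G)⁻¹ * ((x : G) * y * (x : G)⁻¹) * t =
          ((x' : G) * y' * (x' : G)⁻¹) * ((x : G) * y * (x : G)⁻¹) := by
        have h19 : t * ((x : G) * y * (x : G)⁻¹) = ((x : G) * y * (x : G)⁻¹) * t := F.Wcomm t (F.V1W ht) _ haW
        calc (x' : G) * (y' * t) * (x' : G)⁻¹ * ((x : G) * y * (x : G)⁻¹) * t
            = (x' : G) * y' * (t * (x' : G)⁻¹) * ((x : G) * y * (x : G)⁻¹) * t := by group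
          _ = (x' : G) * y' * (x' : G)⁻¹ * (t * ((x : G) * y * (x : G)⁻¹)) * t := by rw [← h14]; group
          _ = (x' : G) * y' * (x' : G)⁻¹ * ((x : G) * y * (x : G)⁻¹) * (t * t) := by rw [h19]; group
          _ = _ := by rw [htt, mul_one]
      rw [h18]
      exact F.Wcomm _ haW _ hbW

/-- (E6) : `M1 ∩ Wc = ⟨z⟩` -/
theorem M1_ker {m : G} (hm : m ∈ M1 J V1) (h : cl m = 0) : m = 1 ∨ m = z := by
  obtain ⟨x, -, y, hy, rfl⟩ := F.M1_union hB hm
  rw [← F.cl_smul x y (F.V1W hy)] at h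
  have h1 : x⁻¹ • (x • cl y) = x⁻¹ • (0 : M) := by rw [h]
  rw [inv_smul_smul, smul_zero] at h1
  rcases F.V1_zero hy h1 with h2 | h2
  · left; rw [h2]; group
  · right; rw [h2, F.zC x x.2, mul_inv_cancel_right]

end Fv

end Cfsg.Agent.Omega.NO1.NatFive
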