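import Cfsg.Agent.Omega.NO1.NatFiveE

/-!
# Theorem NAT of NO-1', step (5), part F: `dim W1 = 3`, `|M1| = 16`
-/

set_option autoImplicit false
set_option linter.unusedSectionVars false

namespace Cfsg.Agent.Omega.NO1.NatFive

open Subgroup Cfsg.Agent.Omega.Transv Cfsg.Agent.Omega.NO1.MiniMcL

universe u v

variable {G : Type u} [Group G]

variable {C J V V1 W Wc : Subgroup G} {z e : G} {M : Type v} [AddCommGroup M]
  [Module (ZMod 2) M] [DistribMulAction C M] {cl : G → M}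

namespace Fv

section A

variable (F : Fv C J V V1 W Wc z e cl) [Finite M]
include F

/-- `dim W1 ≥ 3` -/
theorem three_le : 3 ≤ Module.finrank (ZMod 2) F.W1 := by
  have hp := self_mem_Pt C (cl e)
  obtain ⟨φ, hφ, ψ, hψ, h1, h2, h3⟩ := F.cfg.two (cl e) hp
  obtain ⟨r, hr, h4, h5⟩ := exists_one_one (F.Phi_nz F.p_mem F.ne hφ h1) (F.Phi_nz F.p_mem F.ne hψ h2)
  obtain ⟨s, hs, h6⟩ : ∃ s ∈ F.W1, φ s ≠ ψ s := by
    by_contra hcon
    push Not at hcon
    exact h3 (F.cfg.Phi_ext hp hφ hψ hcon)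
  let f : F.W1 →ₗ[ZMod 2] ZMod 2 × ZMod 2 := (φ.comp F.W1.subtype).prod (ψ.comp F.W1.subtype)
  have hf : ∀ m : F.W1, f m = (φ m, ψ m) := fun m => rfl
  have hsurj : Function.Surjective f := by
    have key : ∃ a b : F.W1, f a = (1, 0) ∧ f b = (0, 1) := by
      rcases zmod_cases (φ s) with h7 | h7 <;> rcases zmod_cases (ψ s) with h8 | h8
      · exact absurd (h7.trans h8.symm) h6
      · refine ⟨⟨r + s, add_mem hr hs⟩, ⟨s, hs⟩, ?_, ?_⟩
        · rw [hf]
          change (φ (r + s), ψ (r + s)) = _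
          rw [map_add, map_add, h4, h5, h7, h8, add_zero, one_add_one]
        · rw [hf]
          change (φ s, ψ s) = _
          rw [h7, h8]
      · refine ⟨⟨s, hs⟩, ⟨r + s, add_mem hr hs⟩, ?_, ?_⟩
        · rw [hf]
          change (φ s, ψ s) = _
          rw [h7, h8]
        · rw [hf]
          change (φ (r + s), ψ (r + s)) = _
          rw [map_add, map_add, h4, h5, h7, h8, add_zero, one_add_one]
      · exact absurd (h7.trans h8.symm) h6
    obtain ⟨a, b, ha, hb⟩ := key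
    rintro ⟨x, y⟩
    refine ⟨x • a + y • b, ?_⟩
    rw [map_add, map_smul, map_smul, ha, hb]
    ext <;> simp
  have : Module.Finite (ZMod 2) F.W1 := Module.Finite.of_finite
  have h7 := LinearMap.finrank_range_add_finrank_ker f
  rw [LinearMap.range_eq_top.2 hsurj, finrank_top, Module.finrank_prod, Module.finrank_self] at h7
  have h8 : 0 < Module.finrank (ZMod 2) (LinearMap.ker f) := by
    rw [Module.finrank_pos_iff]
    refine ⟨⟨⟨⟨cl e, F.p_mem⟩, ?_⟩, 0, fun h => F.ne ?_⟩⟩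
    · rw [LinearMap.mem_ker, hf]
      change (φ (cl e), ψ (cl e)) = 0
      rw [hφ.1, hψ.1]
      rfl
    · exact congrArg (fun x : LinearMap.ker f => ((x : F.W1) : M)) h
  omega

variable (hB : F.Kz)
include hB

/-- (F6) -/
theorem faith {c : G} (hc : c ∈ C) (hn : ∀ m ∈ M1 J V1, c * m * c⁻¹ ∈ M1 J V1)
    (h : ∀ m ∈ M1 J V1, cl (c * m * c⁻¹) = cl m) {m : G} (hm : m ∈ M1 J V1) : c * m * c⁻¹ = m := by
  -- `f m = c m c⁻¹ m⁻¹ ∈ {1, z}`
  have h1 : ∀ m ∈ M1 J V1, fc (⟨c, hc⟩ : C) m = 1 ∨ fc (⟨c, hc⟩ : C) m = z := by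
    intro m hm
    refine F.M1_ker hB (mul_mem (hn m hm) (inv_mem hm)) ?_
    change cl (c * m * c⁻¹ * m⁻¹) = 0
    rw [F.cl_mul _ (F.M1_le (hn m hm)) _ (inv_mem (F.M1_le hm)), F.cl_inv (F.M1_le hm), h m hm,
      Transv.add_self]
  have hmul : ∀ m ∈ M1 J V1, ∀ m' ∈ M1 J V1,
      fc (⟨c, hc⟩ : C) (m * m') = fc (⟨c, hc⟩ : C) m * fc (⟨c, hc⟩ : C) m' := fun m hm m' hm' =>
    F.fc_mul_W _ (F.M1_le hm) (F.M1_le hm')
  have htriv : ∀ m ∈ F.W1, (⟨c, hc⟩ : C) • m = m := by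
    intro m hm
    obtain ⟨x, hx, rfl⟩ := F.exists_M1 hm
    rw [F.cl_smul _ x (F.M1_le hx)]
    exact h x hx
  -- conjugation by `x ∈ J`
  have h2 : ∀ x : C, (x : G) ∈ J → ∀ m ∈ M1 J V1,
      fc (⟨c, hc⟩ : C) ((x : G)⁻¹ * m * x) = fc (⟨c, hc⟩ : C) m := by
    intro x hx m hm
    have hk : x * ⟨c, hc⟩ * x⁻¹ * (⟨c, hc⟩ : C)⁻¹ ∈ F.KW := by
      refine ⟨?_, fun m hm => ?_⟩
      · have h3 : (x : G) * (c * (x : G)⁻¹ * c⁻¹) ∈ J := mul_mem hx (F.Jn c hc _ (inv_mem hx))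
        have e1 : ((x * ⟨c, hc⟩ * x⁻¹ * (⟨c, hc⟩ : C)⁻¹ : C) : G) = (x : G) * (c * (x : G)⁻¹ * c⁻¹) := by
          simp only [Subgroup.coe_mul, Subgroup.coe_inv]
          group
        rw [e1]
        exact h3
      · have h3 : (⟨c, hc⟩ : C)⁻¹ • m = m := by rw [inv_smul_eq_iff, htriv m hm]
        rw [mul_smul, mul_smul, mul_smul, h3, htriv _ (F.J_W1 (x := x⁻¹) (inv_mem hx) hm), smul_inv_smul]
    have h4 := Kz.comm F hB hk (hn m hm)
    have h5 := F.cl_one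
    have h6 : (x : G)⁻¹ * m * x ∈ M1 J V1 := by
      have := M1_conj_J (V1 := V1) (inv_mem hx) hm
      rwa [inv_inv] at this
    have h7 : ((x * ⟨c, hc⟩ * x⁻¹ * (⟨c, hc⟩ : C)⁻¹ : C) : G) * (c * m * c⁻¹) *
        ((x * ⟨c, hc⟩ * x⁻¹ * (⟨c, hc⟩ : C)⁻¹ : C) : G)⁻¹ =
        (x : G) * (c * ((x : G)⁻¹ * m * x) * c⁻¹) * (x : G)⁻¹ := by
      simp only [Subgroup.coe_mul, Subgroup.coe_inv]
      group
    rw [h7] at h4
    have h8 : fc (⟨c, hc⟩ : C) ((x : G)⁻¹ * m * x) = (x : G)⁻¹ * ((x : G) * (c * ((x : G)⁻¹ * m * x) * c⁻¹) *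
        (x : G)⁻¹ * m⁻¹) * x := by
      rw [fc]; group
    rw [h8, h4]
    have h9 : c * m * c⁻¹ * m⁻¹ = fc (⟨c, hc⟩ : C) m := rfl
    rw [h9]
    rcases h1 m hm with h10 | h10
    · rw [h10]; group
    · rw [h10, mul_assoc, ← F.zC x x.2]; group
  -- conclusion
  suffices h3 : fc (⟨c, hc⟩ : C) m = 1 from mul_inv_eq_one.1 h3
  have hz1 : fc (⟨c, hc⟩ : C) z = 1 := by
    rw [fc]
    change c * z * c⁻¹ * z⁻¹ = 1
    rw [F.zC c hc]; group
  have hker : ∀ m ∈ M1 J V1, cl m = 0 → fc (⟨c, hc⟩ : C) m = 1 := by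
    intro m hm h0
    rcases F.M1_ker hB hm h0 with h4 | h4
    · rw [h4, fc]
      change c * 1 * c⁻¹ * 1⁻¹ = 1
      group
    · rw [h4]; exact hz1
  by_cases h0 : cl m = 0
  · exact hker m hm h0
  have hr := F.cl_M1 hm
  obtain ⟨χ, hχ, hχ0⟩ := F.exists_Phi hr h0
  obtain ⟨t, ht, htχ⟩ := F.Phi_nz hr h0 hχ hχ0
  obtain ⟨y, hy, rfl⟩ := F.exists_M1 ht
  obtain ⟨h4, x, hx, hxr⟩ := F.mem_Phi hχ
  have h5 : (x : G)⁻¹ * y * x ∈ M1 J V1 := by
    have := M1_conj_J (V1 := V1) (inv_mem hx) hy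
    rwa [inv_inv] at this
  have h6 := h2 x hx y hy
  have h7 : cl ((x : G)⁻¹ * y * x) = cl y + cl m := by
    have h8 : cl ((x : G)⁻¹ * y * x) = x⁻¹ • cl y := by
      rw [F.cl_smul x⁻¹ y (F.M1_le hy), Subgroup.coe_inv, inv_inv]
    rw [h8, F.act_add h4 hxr, htχ, one_smul]
  -- `x⁻¹ y x · y · m ∈ ⟨z⟩`
  have h8 : cl ((x : G)⁻¹ * y * x * y * m) = 0 := by
    rw [F.cl_mul _ (F.M1_le (mul_mem h5 hy)) _ (F.M1_le hm), F.cl_mul _ (F.M1_le h5) _ (F.M1_le hy), h7,
      show cl y + cl m + cl y + cl m = (cl y + cl y) + (cl m + cl m) by abel, Transv.add_self,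
      Transv.add_self, add_zero]
  have h9 := hker _ (mul_mem (mul_mem h5 hy) hm) h8
  rw [hmul _ (mul_mem h5 hy) _ hm, hmul _ h5 _ hy, h6] at h9
  have h10 : fc (⟨c, hc⟩ : C) y * fc (⟨c, hc⟩ : C) y = 1 := by
    rcases h1 y hy with h11 | h11
    · rw [h11, mul_one]
    · rw [h11, F.zsq]
  rwa [h10, one_mul] at h9

/-- (F7) : all transvections of `W1` are induced by conjugates of elements of `V` -/
theorem full {q : M} (hq : q ∈ F.W1) (hq0 : q ≠ 0) (χ : Du M) (hχ : χ q = 0) (hχ0 : ∃ m ∈ F.W1, χ m = 1) :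
    ∃ x : C, (x : G) ∈ J ∧ ∃ a ∈ V, ∀ m ∈ M1 J V1,
      cl ((x : G) * a * (x : G)⁻¹ * m * ((x : G) * a * (x : G)⁻¹)⁻¹) = cl m + χ (cl m) • q := by
  have hnor := F.cfg.nor
  obtain ⟨φ, hφ, hφ1⟩ := F.Phi_full hq hq0 hχ
  obtain ⟨y, hy, rfl⟩ := F.exists_J hq hq0
  have h1 := Phi_smul y⁻¹ hφ
  rw [inv_smul_smul] at h1
  have h2 : dua y⁻¹ φ ≠ 0 := by
    intro h
    have h3 : φ = 0 := dua_injective y⁻¹ (by rw [h]; rfl)
    obtain ⟨m, hm, h4⟩ := hχ0
    rw [← hφ1 m hm, h3] at h4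
    exact one_ne h4.symm
  obtain ⟨k, hk, a, ha, h3, -⟩ := F.exists_tv hB h1 h2
  refine ⟨y * k, mul_mem hy hk, a, ha, fun m hm => ?_⟩
  have h4 : ∀ m : M, (y * (k * a * k⁻¹) * y⁻¹) • m = m + φ m • (y • cl e) := by
    intro m
    rw [mul_smul, mul_smul, h3, smul_add, smul_inv_smul, smul_zmod, dua_apply, inv_inv, smul_inv_smul]
  have h5 := h4 (cl m)
  rw [F.cl_smul _ m (F.M1_le hm), hφ1 _ (F.cl_M1 hm)] at h5
  rw [← h5]
  congr 1
  simp only [Subgroup.coe_mul, Subgroup.coe_inv]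
  group

end A

section B

variable (F : Fv C J V V1 W Wc z e cl) [Finite M] (hB : F.Kz) {S : Subgroup G} (Y : Sy S C J V V1 W z e)
include F hB Y

/-- `|W1| ≤ 8` -/
theorem card_le [Finite G] : Nat.card F.W1 ≤ 8 := by
  by_contra hcon
  push Not at hcon
  have hp := self_mem_Pt C (cl e)
  refine F.parity Y fun q hq hq0 hqp ψ hψ hψp => ?_
  obtain ⟨r, hr, χ, hr0, hrp, hψr, hχ, hχp, hχr⟩ := F.cfg.exists_comm hp hcon hq hq0 hqp hψ hψp
  obtain ⟨h1, d, hd, hdq⟩ := F.mem_Phi hχ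
  obtain ⟨h2, d', hd', hdr⟩ := F.mem_Phi hψr
  have h3 : ψ q = 0 := hψ.1
  -- both normalise `V1`
  have key : ∀ x : C, (x : G) * e * (x : G)⁻¹ ∈ V1 → x • cl e = cl e →
      ∃ t, (t = 1 ∨ t = z) ∧ (x : G) * e = e * t * x := by
    intro x h4 h5
    have h6 : cl ((x : G) * e * (x : G)⁻¹) ≠ 0 := by
      rw [← F.cl_smul x e F.eW, h5]; exact F.ne
    rcases (F.V1_ne h4 h6).2 with h7 | h7
    · exact ⟨1, Or.inl rfl, by rw [mul_one]; exact mul_inv_eq_iff_eq_mul.1 h7⟩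
    · exact ⟨z, Or.inr rfl, mul_inv_eq_iff_eq_mul.1 h7⟩
  have hdp : d • cl e = cl e := by rw [hdq, hχp, zero_smul, add_zero]
  have hdp' : d' • cl e = cl e := by rw [hdr, hψp, zero_smul, add_zero]
  obtain ⟨s, hs, hds⟩ := key d (F.norm_of_act hB hd hχ hχp hdq F.eV1) hdp
  obtain ⟨t, ht, hdt⟩ := key d' (F.norm_of_act hB hd' hψr hψp hdr F.eV1) hdp'
  have hcen : ∀ t : G, (t = 1 ∨ t = z) → ∀ x : C, (x : G) * t = t * x := by
    intro t ht x
    rcases ht with h | h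
    · rw [h, mul_one, one_mul]
    · rw [h]; exact F.zC x x.2
  have hst : s * t = t * s := by
    rcases hs with h | h <;> rcases ht with h' | h' <;> rw [h, h'] <;> simp
  have h4 : ((d : G) * d') * e = e * (s * t) * (d * d') := by
    have h5 := hcen t ht d
    have h6 := hcen s hs d
    calc ((d : G) * d') * e = d * (d' * e) := by group
      _ = (d * e) * t * d' := by rw [hdt]; group
      _ = e * s * (d * t) * d' := by rw [hds]; group
      _ = e * (s * t) * (d * d') := by rw [h5]; group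
  have h5 : ((d' : G) * d) * e = e * (s * t) * (d' * d) := by
    have h5 := hcen t ht d'
    have h6 := hcen s hs d'
    calc ((d' : G) * d) * e = d' * (d * e) := by group
      _ = (d' * e) * s * d := by rw [hds]; group
      _ = e * t * (d' * s) * d := by rw [hdt]; group
      _ = e * (t * s) * (d' * d) := by rw [h6]; group
      _ = _ := by rw [hst]
  refine ⟨d * d' * d⁻¹ * d'⁻¹, ?_, mul_mem (mul_mem (mul_mem hd hd') (inv_mem hd)) (inv_mem hd'), fun m _ =>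
    comm_act h1 h2 h3 hχr hdq hdr m⟩
  rw [F.mem_cent]
  have h6 : ((d * d' * d⁻¹ * d'⁻¹ : C) : G) = (d * d') * ((d' : G) * d)⁻¹ := by
    simp only [Subgroup.coe_mul, Subgroup.coe_inv]
    group
  have hc1 : ((d : G) * d') * (s * t) = (s * t) * (d * d') := by
    have h7 := hcen s hs (d * d')
    have h8 := hcen t ht (d * d')
    rw [Subgroup.coe_mul] at h7 h8
    calc ((d : G) * d') * (s * t) = ((d : G) * d' * s) * t := by group
      _ = s * ((d : G) * d' * t) := by rw [h7]; group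
      _ = _ := by rw [h8]; group
  have h7 : ((d' : G) * d)⁻¹ * e = e * ((d' : G) * d)⁻¹ * (s * t)⁻¹ := by
    have h8 : e = ((d' : G) * d)⁻¹ * (e * (s * t) * (d' * d)) := by rw [← h5]; group
    have hc2 : (s * t) * ((d' : G) * d) = ((d' : G) * d) * (s * t) := by
      have h7 := hcen s hs (d' * d)
      have h8 := hcen t ht (d' * d)
      rw [Subgroup.coe_mul] at h7 h8
      calc (s * t) * ((d' : G) * d) = s * (t * (d' * d)) := by group
        _ = (s * (d' * d)) * t := by rw [← h8]; group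
        _ = _ := by rw [← h7]; group
    rw [mul_assoc e, hc2] at h8
    calc ((d' : G) * d)⁻¹ * e = (((d' : G) * d)⁻¹ * (e * ((d' : G) * d * (s * t)))) * (s * t)⁻¹ *
          ((d' : G) * d)⁻¹ := by group
      _ = e * ((s * t)⁻¹ * ((d' : G) * d)⁻¹) := by rw [← h8]; group
      _ = e * (((d' : G) * d) * (s * t))⁻¹ := by group
      _ = e * ((s * t) * ((d' : G) * d))⁻¹ := by rw [hc2]
      _ = _ := by group
  rw [h6]
  calc ((d : G) * d') * ((d' : G) * d)⁻¹ * e = ((d : G) * d') * (((d' : G) * d)⁻¹ * e) := by group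
    _ = (((d : G) * d') * e) * ((d' : G) * d)⁻¹ * (s * t)⁻¹ := by rw [h7]; group
    _ = e * (s * t) * (d * d') * ((d' : G) * d)⁻¹ * (s * t)⁻¹ := by rw [h4]
    _ = e * ((d : G) * d' * (s * t)) * ((d' : G) * d)⁻¹ * (s * t)⁻¹ := by rw [hc1]; group
    _ = e * ((d : G) * d') * ((s * t) * ((d' : G) * d)⁻¹) * (s * t)⁻¹ := by group
    _ = e * ((d : G) * d') * (((d' : G) * d)⁻¹ * (s * t)) * (s * t)⁻¹ := by
        have hc2 : (s * t) * ((d' : G) * d) = ((d' : G) * d) * (s * t) := by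
          have h7 := hcen s hs (d' * d)
          have h8 := hcen t ht (d' * d)
          rw [Subgroup.coe_mul] at h7 h8
          calc (s * t) * ((d' : G) * d) = s * (t * (d' * d)) := by group
            _ = (s * (d' * d)) * t := by rw [← h8]; group
            _ = _ := by rw [← h7]; group
        have h9 : (s * t) * ((d' : G) * d)⁻¹ = ((d' : G) * d)⁻¹ * (s * t) := by
          rw [mul_inv_eq_iff_eq_mul, mul_assoc, hc2]
          group
        rw [h9]
    _ = _ := by group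

/-- `dim W1 = 3` -/
theorem finrank_eq [Finite G] : Module.finrank (ZMod 2) F.W1 = 3 := by
  have h1 := F.three_le
  have h2 := F.card_le hB Y
  have : Module.Finite (ZMod 2) F.W1 := Module.Finite.of_finite
  rw [Module.natCard_eq_pow_finrank (K := ZMod 2), Nat.card_zmod] at h2
  by_contra hcon
  have h3 : 4 ≤ Module.finrank (ZMod 2) F.W1 := by omega
  have h4 : 2 ^ 4 ≤ 2 ^ Module.finrank (ZMod 2) F.W1 := Nat.pow_le_pow_right (by norm_num) h3
  omega

/-- `|M1| = 16` -/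
theorem card_M1 [Finite G] (hz : z ≠ 1) : Nat.card (M1 J V1) = 16 := by
  have : Module.Finite (ZMod 2) F.W1 := Module.Finite.of_finite
  let f : M1 J V1 →* Multiplicative F.W1 :=
    { toFun := fun m => Multiplicative.ofAdd ⟨cl m, F.cl_M1 m.2⟩
      map_one' := by
        rw [← ofAdd_zero]
        congr 1
        exact Subtype.ext F.cl_one
      map_mul' := fun a b => by
        rw [← ofAdd_add]
        congr 1
        exact Subtype.ext (F.cl_mul _ (F.M1_le a.2) _ (F.M1_le b.2)) }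
  have hf : ∀ m : M1 J V1, f m = 1 ↔ cl m = 0 := by
    intro m
    constructor
    · intro h
      have h1 : (⟨cl m, F.cl_M1 m.2⟩ : F.W1) = 0 := h
      exact congrArg Subtype.val h1
    · intro h
      have h1 : (⟨cl m, F.cl_M1 m.2⟩ : F.W1) = 0 := Subtype.ext h
      exact congrArg Multiplicative.ofAdd h1
  have hsurj : Function.Surjective f := by
    intro y
    obtain ⟨m, hm, h⟩ := F.exists_M1 (Multiplicative.toAdd y).2
    exact ⟨⟨m, hm⟩, congrArg Multiplicative.ofAdd (Subtype.ext h)⟩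
  have h1 : Nat.card f.ker = 2 := by
    have hzM : z ∈ M1 J V1 := F.V1_le F.zV1
    rw [Nat.card_eq_two_iff]
    refine ⟨⟨1, one_mem _⟩, ⟨⟨z, hzM⟩, (hf _).2 F.cl_z⟩, ?_, ?_⟩
    · intro h
      exact hz (congrArg (fun x : f.ker => ((x : M1 J V1) : G)) h).symm
    · ext m
      simp only [Set.mem_insert_iff, Set.mem_singleton_iff, Set.mem_univ, iff_true]
      have h2 := (hf m).1 m.2
      rcases F.M1_ker hB m.1.2 h2 with h3 | h3
      · left; exact Subtype.ext (Subtype.ext h3)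
      · right; exact Subtype.ext (Subtype.ext h3)
  have h2 := card_mul_index f.ker
  rw [Subgroup.index_ker, MonoidHom.range_eq_top.2 hsurj, Subgroup.card_top, h1] at h2
  have h3 : Nat.card (Multiplicative F.W1) = 8 := by
    have h4 : Nat.card F.W1 = 8 := by
      rw [Module.natCard_eq_pow_finrank (K := ZMod 2), Nat.card_zmod, F.finrank_eq hB Y]
      rfl
    exact h4
  rw [h3] at h2
  omega

/-- `C_{M1}(v) = V1` -/
theorem cent_M1 [Finite G] (hz : z ≠ 1) (h4 : Nat.card V1 = 4) {v : C} (hv : (v : G) ∈ V) (hv1 : (v : G) ∉ V1)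
    (hc : ∀ y ∈ V1, (v : G) * y = y * v) {m : G} (hm : m ∈ M1 J V1) (h : (v : G) * m = m * v) : m ∈ V1 := by
  let f : M1 J V1 →* V1 :=
    { toFun := fun m => ⟨fc v m, F.comm_mem v hv m (F.M1_le m.2)⟩
      map_one' := Subtype.ext (by change fc v 1 = 1; rw [fc]; group)
      map_mul' := fun a b => Subtype.ext (F.fc_mul_W v (F.M1_le a.2) (F.M1_le b.2)) }
  have hsurj : Function.Surjective f := by
    intro y
    obtain ⟨m, hm, h⟩ := F.M1_surj hB hv hv1 y.2
    exact ⟨⟨m, hm⟩, Subtype.ext h⟩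
  have h2 := card_mul_index f.ker
  rw [Subgroup.index_ker, MonoidHom.range_eq_top.2 hsurj, Subgroup.card_top, h4, F.card_M1 hB Y hz] at h2
  have h3 : Nat.card f.ker = 4 := by omega
  have h5 : (V1.subgroupOf (M1 J V1)) ≤ f.ker := by
    intro y hy
    have hy' : (y : G) ∈ V1 := hy
    rw [MonoidHom.mem_ker]
    apply Subtype.ext
    change fc v y = 1
    rw [fc, hc y hy']; group
  have h6 : Nat.card (V1.subgroupOf (M1 J V1)) = 4 := by
    rw [← h4]
    exact Nat.card_congr (subgroupOfEquivOfLe F.V1_le).toEquiv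
  have h7 : V1.subgroupOf (M1 J V1) = f.ker := eq_of_le_of_card_ge h5 (by rw [h3, h6])
  have h8 : (⟨m, hm⟩ : M1 J V1) ∈ f.ker := by
    rw [MonoidHom.mem_ker]
    apply Subtype.ext
    change fc v m = 1
    rw [fc, h]; group
  rw [← h7] at h8
  exact h8

end B

end Fv

end Cfsg.Agent.Omega.NO1.NatFive
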