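import Cfsg.Agent.Omega.NO1.Many.Trich
import Cfsg.Agent.Omega.NO1.Many.Plus
import Cfsg.Agent.Omega.NO1.NSix.End
import Cfsg.Agent.Omega.NO1.WR.NTwo
import Cfsg.Agent.Omega.Node.NO1

/-!
# The leaf N1: `V_P` the sum of `k ≥ 2` natural modules (THEOREM WR #15037)

`natMany : NO1.NatMany`, from
* `Many.trich` (helper727): (Q) or `k = 2`, `|F| = 2`; `Many.plus2_of`: the latter is `V = O₄⁺(2)`;
* `NatWr.main_two`: (Q), `|F| = 2`, `k ≥ 3` is impossible; and `k = 2`, `|F| = 2` is the same type;
* `NSix.main` (helper675): (Q), `|F| ≥ 4` is impossible.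
-/

set_option autoImplicit false

namespace Cfsg.Agent.Omega.NO1

open Subgroup Cfsg Cfsg.Agent.ZN Cfsg.Agent.Omega.MinPar
open Cfsg.Agent.Omega.FFThm (NatK)
open Cfsg.Agent.Omega.FrameFF (cv)

universe u

/-- **`V_P` the sum of `k ≥ 2` natural modules**: `V_P = O₄⁺(2)`. -/
theorem natMany : NatMany.{u} := by
  intro G _ _ S P h F _ _ _ k hk M
  rcases Nat.lt_or_ge (Nat.card F) 3 with hF3 | hF3
  · have hF : Nat.card F = 2 := by
      have h1 : 1 < Nat.card F := Finite.one_lt_card
      omega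
    rcases Nat.lt_or_ge k 3 with hk3 | hk3
    · obtain rfl : k = 2 := by omega
      exact Many.ty_of_two h hF M
    · have hcv : cv (S : Subgroup G) P = ⊥ := h.one.cen
      rw [hcv] at M
      rcases Many.trich h M hk with hE | ⟨-, hk2⟩
      · exact (NatWr.main_two h M hk3 hF hE).elim
      · omega
  · have hcv : cv (S : Subgroup G) P = ⊥ := h.one.cen
    have hF4 : 4 ≤ Nat.card F := by
      have : Fintype F := Fintype.ofFinite F
      obtain ⟨n, -, hn⟩ := FiniteField.card F 2
      rw [Nat.card_eq_fintype_card] at hF3 ⊢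
      rw [hn] at hF3 ⊢
      rcases Nat.lt_or_ge (n : ℕ) 2 with h2 | h2
      · have h1 : (n : ℕ) = 1 := by
          have := n.pos
          omega
        rw [h1] at hF3
        omega
      · calc 4 = 2 ^ 2 := by norm_num
          _ ≤ 2 ^ (n : ℕ) := Nat.pow_le_pow_right (by norm_num) h2
    rw [hcv] at M
    rcases Many.trich h M hk with hE | ⟨hF2, -⟩
    · exact (NSix.main h M hk hF4 hE).elim
    · omega

end Cfsg.Agent.Omega.NO1
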