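import Cfsg.Agent.Omega.NO1.KS
import Cfsg.Agent.Omega.NOne.Frame

/-!
# (BT), tool (WR) of text #13107 (helper620): the imprimitive case of near data

`h : NearTwo V E D F v` (`Near` with `|V : E| = 2`, `D ≠ F`), `V` with coordinates `e : V → ι → M`
(`Coord V F e`), `F` permutes the coordinates, `2 ≤ |ι|`, no summand `P i` is contained in `E`.  Then `F` is
transitive on `ι`, and either `|V| ∈ {4, 16}` with known numbers or `|ι| = 2`, `|D| = |F₀ : D| = |P i| / 2`.
-/

set_option autoImplicit false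

namespace Cfsg.Agent.Omega.NO1.WR

open Subgroup Cfsg Cfsg.Agent.Omega.NoFF.Basic Cfsg.Agent.Omega.NOne.Frame Cfsg.Agent.Omega.NOne.NearFF Cfsg.Agent.Omega.NO1.KS
open scoped Pointwise

universe u

variable {G : Type u} [Group G]

/-- Coordinates on `V`: `V` is the direct product of the subgroups `{v | e v j = 0 for j ≠ i}`. -/
structure Coord {ι M : Type*} [AddCommGroup M] (V F : Subgroup G) (e : G → ι → M) : Prop where
  mul : ∀ v ∈ V, ∀ w ∈ V, e (v * w) = e v + e w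
  ker : ∀ v ∈ V, e v = 0 → v = 1
  cut : ∀ v ∈ V, ∀ s : Set ι, ∃ w ∈ V, e w = s.indicator (e v)
  perm : ∀ f ∈ F, ∃ σ : Equiv.Perm ι, ∀ v ∈ V, ∀ i, e (f * v * f⁻¹) (σ i) = 0 ↔ e v i = 0

namespace Coord

variable {ι M : Type*} [AddCommGroup M] {V F : Subgroup G} {e : G → ι → M} (d : Coord V F e)
include d

theorem one : e 1 = 0 := by
  have := d.mul 1 (one_mem V) 1 (one_mem V)
  rw [mul_one] at this
  exact left_eq_add.1 this

theorem inv {v : G} (hv : v ∈ V) : e v⁻¹ = -e v := by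
  have := d.mul v hv v⁻¹ (inv_mem hv)
  rw [mul_inv_cancel, d.one] at this
  exact (neg_eq_of_add_eq_zero_right this.symm).symm

theorem ext {v w : G} (hv : v ∈ V) (hw : w ∈ V) (h : e v = e w) : v = w := by
  have h1 : e (v * w⁻¹) = 0 := by
    rw [d.mul v hv _ (inv_mem hw), d.inv hw, h, add_neg_cancel]
  exact mul_inv_eq_one.1 (d.ker _ (mul_mem hv (inv_mem hw)) h1)

end Coord

/-- the elements of `V` with support in `s` -/
def sub {ι M : Type*} [AddCommGroup M] {V F : Subgroup G} {e : G → ι → M} (d : Coord V F e) (s : Set ι) :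
    Subgroup G where
  carrier := {v | v ∈ V ∧ ∀ i, i ∉ s → e v i = 0}
  one_mem' := ⟨one_mem V, fun i _ => by rw [d.one]; rfl⟩
  mul_mem' := fun {a b} ha hb => ⟨mul_mem ha.1 hb.1, fun i hi => by
    rw [d.mul a ha.1 b hb.1, Pi.add_apply, ha.2 i hi, hb.2 i hi, add_zero]⟩
  inv_mem' := fun {a} ha => ⟨inv_mem ha.1, fun i hi => by
    rw [d.inv ha.1, Pi.neg_apply, ha.2 i hi, neg_zero]⟩

section sub

variable {ι M : Type*} [AddCommGroup M] {V F : Subgroup G} {e : G → ι → M} (d : Coord V F e)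

theorem mem_sub {s : Set ι} {v : G} : v ∈ sub d s ↔ v ∈ V ∧ ∀ i, i ∉ s → e v i = 0 := Iff.rfl

theorem sub_le (s : Set ι) : sub d s ≤ V := fun _ h => h.1

theorem sub_mono {s t : Set ι} (h : s ⊆ t) : sub d s ≤ sub d t :=
  fun _ hv => ⟨hv.1, fun i hi => hv.2 i fun h1 => hi (h h1)⟩

theorem sub_univ : sub d Set.univ = V :=
  le_antisymm (sub_le d _) fun _ hv => ⟨hv, fun i hi => absurd (Set.mem_univ i) hi⟩

theorem sub_empty : sub d ∅ = ⊥ := by
  rw [eq_bot_iff]
  intro v hv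
  exact d.ker v hv.1 (funext fun i => hv.2 i (Set.notMem_empty i))

theorem sub_disj {s t : Set ι} (hst : Disjoint s t) {v : G} (h1 : v ∈ sub d s) (h2 : v ∈ sub d t) : v = 1 := by
  refine d.ker v h1.1 (funext fun i => ?_)
  by_cases hi : i ∈ s
  · exact h2.2 i fun h => (Set.disjoint_left.1 hst) hi h
  · exact h1.2 i hi

theorem exists_cut {v : G} (hv : v ∈ V) (s : Set ι) :
    ∃ a ∈ sub d s, ∃ b ∈ sub d sᶜ, v = a * b ∧ e a = s.indicator (e v) := by
  classical
  obtain ⟨a, ha, hea⟩ := d.cut v hv s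
  obtain ⟨b, hb, heb⟩ := d.cut v hv sᶜ
  refine ⟨a, ⟨ha, fun i hi => ?_⟩, b, ⟨hb, fun i hi => ?_⟩, ?_, hea⟩
  · rw [hea, Set.indicator_of_notMem hi]
  · rw [heb, Set.indicator_of_notMem hi]
  · refine d.ext hv (mul_mem ha hb) ?_
    rw [d.mul a ha b hb, hea, heb, Set.indicator_self_add_compl]

end sub

/-! ### The permutation action of `F` -/

section act

variable {ι M : Type*} [AddCommGroup M] {V E D F : Subgroup G} {v : G} {e : G → ι → M}

/-- the data of (WR) -/
structure Wr (V E D F : Subgroup G) (v : G) (e : G → ι → M) : Prop where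
  near : NearTwo V E D F v
  co : Coord V F e
  ne : ∀ i, ∃ w ∈ V, w ∉ E ∧ ∀ j, j ≠ i → e w j = 0

namespace Wr

variable (h : Wr V E D F v e)
include h

/-- a chosen element of `P i` outside `E` -/
noncomputable def w (i : ι) : G := (h.ne i).choose

theorem w_V (i : ι) : h.w i ∈ V := (h.ne i).choose_spec.1

theorem w_E (i : ι) : h.w i ∉ E := (h.ne i).choose_spec.2.1

theorem w_off {i j : ι} (hj : j ≠ i) : e (h.w i) j = 0 := (h.ne i).choose_spec.2.2 j hj

theorem w_sub (i : ι) : h.w i ∈ sub h.co {i} := ⟨h.w_V i, fun _ hj => h.w_off hj⟩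

theorem w_self (i : ι) : e (h.w i) i ≠ 0 := by
  intro h0
  have h1 : h.w i = 1 := h.co.ker _ (h.w_V i) (funext fun j => by
    by_cases hj : j = i
    · rw [hj, h0]; rfl
    · exact h.w_off hj)
  exact h.w_E i (by rw [h1]; exact one_mem E)

theorem w_iff (i j : ι) : e (h.w i) j = 0 ↔ j ≠ i :=
  ⟨fun h0 hj => h.w_self i (by rw [← h0, hj]), h.w_off⟩

/-- the datum with `v` replaced by an element of `V - E` -/
theorem near_of {x : G} (hx : x ∈ V) (hxE : x ∉ E) : NearTwo V E D F x := by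
  have h1 : v * x ∈ E := (h.near.idx x hx).resolve_left hxE
  have h2 := h.near.mul_right h1
  have h3 : v * (v * x) = x := by rw [← mul_assoc, h.near.sq_one h.near.vV, one_mul]
  rwa [h3] at h2

/-- the permutation of `ι` induced by `f` -/
noncomputable def perm (f : F) : Equiv.Perm ι := (h.co.perm f f.2).choose

theorem perm_spec (f : F) {x : G} (hx : x ∈ V) (i : ι) :
    e (f * x * (f : G)⁻¹) (h.perm f i) = 0 ↔ e x i = 0 := (h.co.perm f f.2).choose_spec x hx i

theorem conj_V (f : F) {x : G} (hx : x ∈ V) : (f : G) * x * (f : G)⁻¹ ∈ V :=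
  norm_mem (h.near.F_norm_V f.2) hx

theorem perm_unique (f : F) {i j : ι} (hj : e (f * h.w i * (f : G)⁻¹) j ≠ 0) : h.perm f i = j := by
  have h1 := h.perm_spec f (h.w_V i) ((h.perm f).symm j)
  rw [Equiv.apply_symm_apply] at h1
  have h2 : e (h.w i) ((h.perm f).symm j) ≠ 0 := fun h0 => hj (h1.2 h0)
  have h3 : (h.perm f).symm j = i := by
    by_contra hne
    exact h2 (h.w_off hne)
  rw [← h3, Equiv.apply_symm_apply]

theorem perm_one (i : ι) : h.perm 1 i = i := by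
  apply h.perm_unique
  rw [OneMemClass.coe_one, one_mul, inv_one, mul_one]
  exact h.w_self i

theorem perm_mul (f g : F) (i : ι) : h.perm (f * g) i = h.perm f (h.perm g i) := by
  apply h.perm_unique
  have h1 : ((f * g : F) : G) * h.w i * ((f * g : F) : G)⁻¹ = f * (g * h.w i * (g : G)⁻¹) * (f : G)⁻¹ := by
    rw [Subgroup.coe_mul]; group
  rw [h1]
  intro h0
  rw [h.perm_spec f (h.conj_V g (h.w_V i)), h.perm_spec g (h.w_V i)] at h0
  exact h.w_self i h0

/-- the action of `F` on `ι` -/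
noncomputable abbrev act : MulAction F ι where
  smul f i := h.perm f i
  one_smul := h.perm_one
  mul_smul := h.perm_mul

theorem conj_sub (f : F) {s t : Set ι}
    (hs : ∀ i, i ∈ s → h.perm f i ∈ t) {x : G} (hx : x ∈ sub h.co s) :
    (f : G) * x * (f : G)⁻¹ ∈ sub h.co t := by
  refine ⟨h.conj_V f hx.1, fun j hj => ?_⟩
  have h1 := h.perm_spec f hx.1 ((h.perm f).symm j)
  rw [Equiv.apply_symm_apply] at h1
  rw [h1]
  apply hx.2
  intro h2
  have h3 := hs _ h2
  rw [Equiv.apply_symm_apply] at h3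
  exact hj h3

theorem dec {s : Set ι} (hs : ∀ f : F, ∀ i, i ∈ s → h.perm f i ∈ s) :
    Dec V F (sub h.co s) (sub h.co sᶜ) where
  le₁ := sub_le _ _
  le₂ := sub_le _ _
  ex := fun x hx => by
    obtain ⟨a, ha, b, hb, e1, -⟩ := exists_cut h.co hx s
    exact ⟨a, ha, b, hb, e1⟩
  inf := fun x h1 h2 => sub_disj h.co disjoint_compl_right h1 h2
  inv₁ := fun a ha f hf => h.conj_sub ⟨f, hf⟩ (hs ⟨f, hf⟩) ha
  inv₂ := fun b hb f hf => by
    have key : ∀ i, i ∈ sᶜ → h.perm ⟨f, hf⟩ i ∈ sᶜ := by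
      intro i hi h1
      apply hi
      have h2 := hs ⟨f, hf⟩⁻¹ _ h1
      rwa [← h.perm_mul, inv_mul_cancel, h.perm_one] at h2
    exact h.conj_sub ⟨f, hf⟩ key hb

/-- `F` is transitive on the summands. -/
theorem trans [Finite G] (i j : ι) : ∃ f : F, h.perm f i = j := by
  by_contra hcon
  push Not at hcon
  let s : Set ι := {k | ∃ f : F, h.perm f i = k}
  have hs : ∀ f : F, ∀ k, k ∈ s → h.perm f k ∈ s := by
    rintro f k ⟨g, rfl⟩
    exact ⟨f * g, h.perm_mul f g i⟩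
  have hi : i ∈ s := ⟨1, h.perm_one i⟩
  have hj : j ∈ sᶜ := fun ⟨f, hf⟩ => hcon f hf
  have key : ∀ k, ¬ ∀ f ∈ F, h.w k * f = f * h.w k := by
    intro k hk
    apply h.near.ne
    apply le_antisymm h.near.DF
    intro f hf
    have h1 := h.near_of (h.w_V k) (h.w_E k)
    refine h1.inj f hf ?_
    change c (h.w k) f ∈ D
    rw [c_of_comm (hk f hf)]
    exact one_mem D
  rcases h.near.ks (h.dec hs) with h1 | h1
  · exact key i (h1 _ (sub_mono h.co (Set.singleton_subset_iff.2 hi) (h.w_sub i)))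
  · exact key j (h1 _ (sub_mono h.co (Set.singleton_subset_iff.2 hj) (h.w_sub j)))

theorem perm_fix [Finite G] {f : F} {i : ι} (hi : h.perm f i = i) (j : ι) : h.perm f j = j := by
  obtain ⟨g, rfl⟩ := h.trans i j
  have h1 : f * g = g * f := Subtype.ext (comm_of_le_centralizer h.near.Fcomm f.2 g.2)
  rw [← h.perm_mul, h1, h.perm_mul, hi]

/-- the kernel of `F` on `ι` -/
def F0 : Subgroup G where
  carrier := {f | ∃ hf : f ∈ F, ∀ i, h.perm ⟨f, hf⟩ i = i}
  one_mem' := ⟨one_mem F, fun i => h.perm_one i⟩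
  mul_mem' := by
    rintro a b ⟨ha, ha'⟩ ⟨hb, hb'⟩
    refine ⟨mul_mem ha hb, fun i => ?_⟩
    have h1 := h.perm_mul ⟨a, ha⟩ ⟨b, hb⟩ i
    rw [hb', ha'] at h1
    exact h1
  inv_mem' := by
    rintro a ⟨ha, ha'⟩
    refine ⟨inv_mem ha, fun i => ?_⟩
    have h1 := h.perm_mul ⟨a, ha⟩⁻¹ ⟨a, ha⟩ i
    rw [inv_mul_cancel, h.perm_one, ha'] at h1
    exact h1.symm

theorem F0_le : h.F0 ≤ F := fun _ hf => hf.1

theorem mem_F0 {f : G} (hf : f ∈ h.F0) (i : ι) : h.perm ⟨f, hf.1⟩ i = i := hf.2 i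

theorem F0_of [Finite G] {f : F} {i : ι} (hi : h.perm f i = i) : (f : G) ∈ h.F0 :=
  ⟨f.2, fun j => h.perm_fix hi j⟩

/-- an element which normalises one summand lies in `F₀` -/
theorem F0_of_conj [Finite G] {f : G} (hf : f ∈ F) {i : ι} (hi : e (f * h.w i * f⁻¹) i ≠ 0) : f ∈ h.F0 :=
  h.F0_of (f := ⟨f, hf⟩) (h.perm_unique ⟨f, hf⟩ hi)

theorem D_le_F0 [Finite G] : D ≤ h.F0 := by
  intro d hd
  rcases isEmpty_or_nonempty ι with hι | ⟨⟨i⟩⟩
  · exact ⟨h.near.DF hd, fun i => hι.elim i⟩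
  · refine h.F0_of_conj (h.near.DF hd) (i := i) ?_
    have h1 : d * h.w i * d⁻¹ = h.w i := by
      rw [h.near.V_comm (h.near.DV hd) (h.w_V i), mul_inv_cancel_right]
    rw [h1]
    exact h.w_self i

theorem relIndex_F0 [Finite G] [Nonempty ι] : h.F0.relIndex F = Nat.card ι := by
  letI := h.act
  obtain ⟨i⟩ := ‹Nonempty ι›
  have : MulAction.IsPretransitive F ι := ⟨fun i j => h.trans i j⟩
  have h1 := MulAction.index_stabilizer_of_transitive F i
  rw [← h1, Subgroup.relIndex]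
  congr 1
  ext f
  rw [MulAction.mem_stabilizer_iff, mem_subgroupOf]
  exact ⟨fun hf => hf.2 i, fun hf => h.F0_of hf⟩

/-! ### `P i`, `D` and `F₀` -/

/-- `D` meets the summands trivially. -/
theorem D_inf [Finite G] (hn : ∀ i : ι, ∃ j, j ≠ i) {i : ι} {x : G} (hx : x ∈ sub h.co {i})
    (hxD : x ∈ D) : x = 1 := by
  obtain ⟨j, hj⟩ := hn i
  obtain ⟨f, hf⟩ := h.trans i j
  have h1 : (f : G) * x * (f : G)⁻¹ = x := by
    rw [← h.near.Dcent hxD f.2, mul_inv_cancel_right]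
  have h2 := h.perm_spec f hx.1 i
  rw [h1, hf] at h2
  have h3 : e x i = 0 := h2.1 (hx.2 j hj)
  refine h.co.ker x hx.1 (funext fun k => ?_)
  by_cases hk : k = i
  · rw [hk, h3]; rfl
  · exact hx.2 k hk

theorem conj_F0 {f : G} (hf : f ∈ h.F0) (s : Set ι) {x : G} (hx : x ∈ sub h.co s) :
    f * x * f⁻¹ ∈ sub h.co s := by
  refine h.conj_sub ⟨f, hf.1⟩ (fun i hi => ?_) hx
  rw [h.mem_F0 hf]
  exact hi

theorem c_F0 {f : G} (hf : f ∈ h.F0) {s : Set ι} {x : G} (hx : x ∈ sub h.co s) :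
    c x f ∈ sub h.co s := by
  have h1 : c x f = x * (f * x * f⁻¹)⁻¹ := by rw [c]; group
  rw [h1]
  exact mul_mem hx (inv_mem (h.conj_F0 hf s hx))

/-- `F₀` centralises `E ∩ P i`. -/
theorem c_E [Finite G] (hn : ∀ i : ι, ∃ j, j ≠ i) {i : ι} {x : G} (hx : x ∈ sub h.co {i})
    (hxE : x ∈ E) {f : G} (hf : f ∈ h.F0) : c x f = 1 :=
  h.D_inf hn (h.c_F0 hf hx) (h.near.c_memD hxE hf.1)

/-- `F₀ / D` embeds in `E ∩ P i`. -/
theorem card_F0 [Finite G] (hn : ∀ i : ι, ∃ j, j ≠ i) (i : ι) :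
    D.relIndex h.F0 ≤ Nat.card ↥(sub h.co {i} ⊓ E) := by
  classical
  let φ : h.F0 ⧸ D.subgroupOf h.F0 → ↥(sub h.co {i} ⊓ E) := fun q =>
    ⟨c (h.w i) q.out, h.c_F0 q.out.2 (h.w_sub i), h.near.c_mem (h.w_V i) q.out.2.1⟩
  have hφ : Function.Injective φ := by
    intro a b hab
    have h1 : c (h.w i) (a.out : G) = c (h.w i) (b.out : G) := congrArg Subtype.val hab
    rw [← QuotientGroup.out_eq' a, ← QuotientGroup.out_eq' b, QuotientGroup.eq]
    change ((a.out : h.F0) : G)⁻¹ * ((b.out : h.F0) : G) ∈ D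
    have hw := h.near_of (h.w_V i) (h.w_E i)
    apply hw.inj _ (mul_mem (inv_mem a.out.2.1) b.out.2.1)
    change c (h.w i) (((a.out : h.F0) : G)⁻¹ * ((b.out : h.F0) : G)) ∈ D
    rw [h.near.inv_F a.out.2.1, h.near.c_mul_right (h.w_V i) a.out.2.1 b.out.2.1, h1,
      h.near.sq_one (h.near.c_memV (h.w_V i) b.out.2.1), one_mul]
    have h2 : beta (h.w i) (b.out : h.F0) (a.out : h.F0) = 1 :=
      h.c_E hn (h.c_F0 b.out.2 (h.w_sub i)) (h.near.c_mem (h.w_V i) b.out.2.1) a.out.2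
    rw [h2]
    exact one_mem D
  exact Nat.card_le_card_of_injective φ hφ

/-- the `i`-component of `d ∈ D`: `d = a b`, `F₀` centralises `a`. -/
theorem comp_F0 [Finite G] {x a b : G} (hx : x ∈ D) {i : ι} (ha : a ∈ sub h.co {i})
    (hb : b ∈ sub h.co {i}ᶜ) (hab : x = a * b) {f : G} (hf : f ∈ h.F0) : c a f = 1 := by
  have h1 := h.near.c_D hx hf.1
  rw [hab, h.near.c_mul_left ha.1 hb.1 hf.1] at h1
  have h2 : c a f = (c b f)⁻¹ := eq_inv_of_mul_eq_one_left h1
  refine sub_disj h.co (s := {i}) (t := {i}ᶜ) disjoint_compl_right (h.c_F0 hf ha) ?_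
  rw [h2]
  exact inv_mem (h.c_F0 hf hb)

/-- `D` embeds in `P i` -/
theorem D_inj [Finite G] {x y : G} (hx : x ∈ D) (hy : y ∈ D) (i : ι) (he : e x i = e y i) : x = y := by
  have hxV := h.near.DV hx
  have hyV := h.near.DV hy
  have hz : x * y⁻¹ ∈ D := mul_mem hx (inv_mem hy)
  have h0 : e (x * y⁻¹) i = 0 := by
    rw [h.co.mul x hxV _ (inv_mem hyV), h.co.inv hyV, Pi.add_apply, Pi.neg_apply, he, add_neg_cancel]
  refine mul_inv_eq_one.1 (h.co.ker _ (h.near.DV hz) (funext fun j => ?_))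
  obtain ⟨f, hf⟩ := h.trans i j
  have h1 : (f : G) * (x * y⁻¹) * (f : G)⁻¹ = x * y⁻¹ := by
    rw [← h.near.Dcent hz f.2, mul_inv_cancel_right]
  have h2 := (h.perm_spec f (h.near.DV hz) i).2 h0
  rw [h1, hf] at h2
  exact h2

/-- a bound of `|D|` by a set of possible `i`-components -/
theorem card_D_le [Finite G] (i : ι) (A : Subgroup G) (hA : ∀ x ∈ D, ∀ a ∈ sub h.co {i},
    ∀ b ∈ sub h.co {i}ᶜ, x = a * b → a ∈ A) : Nat.card D ≤ Nat.card A := by
  classical
  have h1 : ∀ x : D, ∃ a ∈ A, e a i = e (x : G) i := by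
    intro x
    obtain ⟨a, ha, b, hb, hab, hea⟩ := exists_cut h.co (h.near.DV x.2) {i}
    refine ⟨a, hA x x.2 a ha b hb hab, ?_⟩
    rw [hea, Set.indicator_of_mem (Set.mem_singleton i)]
  choose φ hφA hφ using h1
  refine Nat.card_le_card_of_injective (fun x : D => (⟨φ x, hφA x⟩ : A)) fun x y hxy => ?_
  have h2 : φ x = φ y := congrArg Subtype.val hxy
  exact Subtype.ext (h.D_inj x.2 y.2 i (by rw [← hφ, ← hφ, h2]))

theorem card_D [Finite G] (i : ι) : Nat.card D ≤ Nat.card ↥(sub h.co {i}) :=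
  h.card_D_le i _ fun _ _ _ ha _ _ _ => ha

theorem card_D' [Finite G] (hne : D ≠ h.F0) (i : ι) : Nat.card D ≤ Nat.card ↥(sub h.co {i} ⊓ E) := by
  refine h.card_D_le i _ fun x hx a ha b hb hab => ⟨ha, ?_⟩
  by_contra haE
  apply hne
  apply le_antisymm h.D_le_F0
  intro f hf
  refine (h.near_of ha.1 haE).inj f hf.1 ?_
  change c a f ∈ D
  rw [h.comp_F0 hx ha hb hab hf]
  exact one_mem D

/-! ### Orders -/

theorem relIndex_two {A : Subgroup G} (hA : A ≤ V) (hAE : ¬ A ≤ E) : E.relIndex A = 2 := by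
  obtain ⟨a, ha, haE⟩ := SetLike.not_le_iff_exists.1 hAE
  rw [relIndex_eq_two_iff]
  refine ⟨a, ha, fun b hb => ?_⟩
  have hn := h.near_of (hA ha) haE
  have h1 : b * a = a * b := h.near.V_comm (hA hb) (hA ha)
  rw [h1]
  rcases hn.idx b (hA hb) with h2 | h2
  · right
    exact ⟨h2, fun h3 => haE ((mul_mem_cancel_right h2).1 h3)⟩
  · left
    exact ⟨h2, fun h3 => haE ((mul_mem_cancel_right h3).1 h2)⟩

theorem card_two {A : Subgroup G} (hA : A ≤ V) (hAE : ¬ A ≤ E) :
    Nat.card A = 2 * Nat.card ↥(A ⊓ E) := by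
  have h1 := relIndex_mul_relIndex ⊥ (A ⊓ E) A bot_le inf_le_left
  rw [relIndex_bot_left, relIndex_bot_left, inf_comm A E, inf_relIndex_right,
    h.relIndex_two hA hAE] at h1
  rw [← h1, mul_comm, inf_comm]

/-- conjugate summands have the same order -/
theorem card_P [Finite G] (i j : ι) : Nat.card ↥(sub h.co {i}) = Nat.card ↥(sub h.co {j}) := by
  have key : ∀ i j : ι, Nat.card ↥(sub h.co {i}) ≤ Nat.card ↥(sub h.co {j}) := by
    intro i j
    obtain ⟨f, hf⟩ := h.trans i j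
    refine Nat.card_le_card_of_injective (fun x : ↥(sub h.co {i}) =>
      (⟨f * x * (f : G)⁻¹, h.conj_sub f (t := {j}) (fun k hk => by
        rw [Set.mem_singleton_iff.1 hk]; exact hf) x.2⟩ : ↥(sub h.co {j}))) fun x y hxy => ?_
    have h2 : (f : G) * x * (f : G)⁻¹ = f * y * (f : G)⁻¹ := congrArg Subtype.val hxy
    exact Subtype.ext (mul_left_cancel (mul_right_cancel h2))
  exact le_antisymm (key i j) (key j i)

/-- the order of a product of summands -/
theorem card_sub [Finite G] (i : ι) (s : Finset ι) :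
    Nat.card ↥(sub h.co (s : Set ι)) = Nat.card ↥(sub h.co {i}) ^ s.card := by
  classical
  induction s using Finset.induction_on with
  | empty => rw [Finset.coe_empty, sub_empty, Finset.card_empty, pow_zero, Subgroup.card_bot]
  | insert j s hj ih =>
    rw [Finset.card_insert_of_notMem hj, pow_succ, ← ih, mul_comm, h.card_P i j, ← Nat.card_prod]
    symm
    refine Nat.card_eq_of_bijective (fun x : ↥(sub h.co {j}) × ↥(sub h.co (s : Set ι)) =>
      (⟨x.1 * x.2, mul_mem (sub_mono h.co (by simp) x.1.2)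
        (sub_mono h.co (by simp [Finset.subset_insert]) x.2.2)⟩ :
          ↥(sub h.co ((insert j s : Finset ι) : Set ι)))) ⟨?_, ?_⟩
    · rintro ⟨a, b⟩ ⟨a', b'⟩ hab
      have h1 : (a : G) * b = a' * b' := congrArg Subtype.val hab
      have h2 : (a' : G)⁻¹ * a = b' * (b : G)⁻¹ := by
        rw [eq_mul_inv_iff_mul_eq, mul_assoc, h1, inv_mul_cancel_left]
      have h3 : (a' : G)⁻¹ * a = 1 := by
        refine sub_disj h.co (s := {j}) (t := (s : Set ι)) ?_ (mul_mem (inv_mem a'.2) a.2) ?_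
        · exact Set.disjoint_singleton_left.2 hj
        · rw [h2]; exact mul_mem b'.2 (inv_mem b.2)
      have h4 : (a : G) = a' := (inv_mul_eq_one.1 h3).symm
      rw [h3] at h2
      have h5 : (b : G) = b' := (mul_inv_eq_one.1 h2.symm).symm
      exact Prod.ext (Subtype.ext h4) (Subtype.ext h5)
    · rintro ⟨x, hx⟩
      obtain ⟨a, ha, b, hb, hab, hea⟩ := exists_cut h.co hx.1 {j}
      refine ⟨(⟨a, ha⟩, ⟨b, hb.1, fun k hk => ?_⟩), Subtype.ext hab.symm⟩
      by_cases hkj : k = j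
      · exact hb.2 k (by rw [hkj]; simp)
      · have h1 := hx.2 k (by simp [hkj]; exact hk)
        have h2 := ha.2 k hkj
        rw [hab, h.co.mul a ha.1 b hb.1, Pi.add_apply, h2, zero_add] at h1
        exact h1

/-- `|V| = |P i| ^ n` -/
theorem card_V [Finite G] [Finite ι] (i : ι) : Nat.card V = Nat.card ↥(sub h.co {i}) ^ Nat.card ι := by
  have := Fintype.ofFinite ι
  rw [Nat.card_eq_fintype_card (α := ι), ← Finset.card_univ, ← h.card_sub i, Finset.coe_univ, sub_univ]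

/-- `|V| = 2 n |F₀ : D| |D|` -/
theorem card_V' [Finite G] [Nonempty ι] :
    Nat.card V = 2 * (Nat.card ι * (D.relIndex h.F0 * Nat.card D)) := by
  have hVE : ¬ V ≤ E := fun h1 => h.near.vE (h1 h.near.vV)
  rw [h.card_two le_rfl hVE, inf_eq_right.2 h.near.EV]
  have h1 := relIndex_mul_relIndex ⊥ D E bot_le h.near.DE
  rw [relIndex_bot_left, relIndex_bot_left, ← h.near.card,
    ← relIndex_mul_relIndex D h.F0 F h.D_le_F0 h.F0_le, h.relIndex_F0] at h1
  rw [← h1]
  ring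

end Wr

theorem arith {n r a d : ℕ} (hn : 2 ≤ n) (ha : 0 < a) (har : a ≤ r) (hd : d ≤ 2 * r)
    (hd' : a ≠ 1 → d ≤ r) (he : (2 * r) ^ n = 2 * (n * (a * d))) :
    (n = 2 ∧ r = 1 ∧ a = 1 ∧ d = 1) ∨ (n = 2 ∧ r = 2 ∧ a = 1 ∧ d = 4) ∨
      (n = 4 ∧ r = 1 ∧ a = 1 ∧ d = 2) ∨ (n = 2 ∧ 2 ≤ r ∧ a = r ∧ d = r) := by
  have hr : 1 ≤ r := ha.trans_le har
  obtain ⟨m, rfl⟩ : ∃ m, n = m + 2 := ⟨n - 2, by omega⟩
  have hpow : ∀ m : ℕ, 2 ^ m * (r * r) ≤ (2 * r) ^ (m + 2) / 4 := by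
    intro m
    rw [Nat.le_div_iff_mul_le (by norm_num), mul_pow]
    have h1 : r * r ≤ r ^ (m + 2) := by
      calc r * r = r ^ 2 := by ring
        _ ≤ r ^ (m + 2) := Nat.pow_le_pow_right hr (by omega)
    calc 2 ^ m * (r * r) * 4 = 2 ^ (m + 2) * (r * r) := by ring
      _ ≤ 2 ^ (m + 2) * r ^ (m + 2) := Nat.mul_le_mul_left _ h1
  have hlt : ∀ m : ℕ, 3 ≤ m → m + 2 < 2 ^ m := by
    intro m hm
    induction m, hm using Nat.le_induction with
    | base => norm_num
    | succ k hk ih => rw [pow_succ]; omega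
  by_cases ha1 : a = 1
  · subst ha1
    have hd1 : 2 ^ m * (r * r) ≤ (2 * ((m + 2) * (1 * d))) / 4 := by rw [← he]; exact hpow m
    have hd2 : 2 ^ m * (r * r) * 4 ≤ 2 * ((m + 2) * d) := by
      rw [Nat.le_div_iff_mul_le (by norm_num)] at hd1
      simpa using hd1
    have hd3 : 2 ^ m * (r * r) * 4 ≤ 2 * ((m + 2) * (2 * r)) :=
      hd2.trans (Nat.mul_le_mul_left _ (Nat.mul_le_mul_left _ hd))
    have hd4 : 2 ^ m * r ≤ m + 2 := by
      have : 2 ^ m * r * (4 * r) ≤ (m + 2) * (4 * r) := by nlinarith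
      exact Nat.le_of_mul_le_mul_right this (by omega)
    have hm : m ≤ 2 := by
      by_contra hm
      have h1 := hlt m (by omega)
      have h2 : 2 ^ m ≤ 2 ^ m * r := Nat.le_mul_of_pos_right _ hr
      omega
    interval_cases m
    · have hr2 : r ≤ 2 := by omega
      interval_cases r
      · left; omega
      · right; left; omega
    · have hr2 : r = 1 := by omega
      subst hr2
      omega
    · have hr2 : r = 1 := by omega
      subst hr2
      right; right; left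
      omega
  · have hd'' := hd' ha1
    have h2r : 2 ≤ r := by omega
    have had : a * d ≤ r * r := Nat.mul_le_mul har hd''
    have hm : m = 0 := by
      by_contra hm
      have h1 : (2 * r) ^ (m + 2) = (2 * r) ^ m * (2 * r) ^ 2 := pow_add _ _ _
      have h2 : 2 * (m + 2) ≤ (2 * r) ^ m * 2 := by
        have h3 : 4 ^ m ≤ (2 * r) ^ m := Nat.pow_le_pow_left (by omega) m
        have h4 : ∀ k : ℕ, k + 1 + 2 ≤ 4 ^ (k + 1) := by
          intro k
          induction k with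
          | zero => norm_num
          | succ k ih => rw [pow_succ]; omega
        obtain ⟨k, rfl⟩ : ∃ k, m = k + 1 := ⟨m - 1, by omega⟩
        have := h4 k
        omega
      have h3 : (2 * r) ^ m * (2 * r) ^ 2 ≤ (2 * r) ^ m * 2 * (r * r) := by
        rw [← h1, he]
        calc 2 * ((m + 2) * (a * d)) = 2 * (m + 2) * (a * d) := by ring
          _ ≤ (2 * r) ^ m * 2 * (r * r) := Nat.mul_le_mul h2 had
      have h4 : 0 < (2 * r) ^ m := Nat.pow_pos (by omega)
      have h5 : (2 * r) ^ 2 ≤ 2 * (r * r) := by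
        apply Nat.le_of_mul_le_mul_left _ h4
        calc (2 * r) ^ m * (2 * r) ^ 2 ≤ (2 * r) ^ m * 2 * (r * r) := h3
          _ = (2 * r) ^ m * (2 * (r * r)) := by ring
      nlinarith
    subst hm
    right; right; right
    have h1 : r * r = a * d := by
      have e1 : (2 * r) ^ (0 + 2) = 4 * (r * r) := by ring
      have e2 : 2 * ((0 + 2) * (a * d)) = 4 * (a * d) := by ring
      omega
    have h2 : a = r := by
      apply le_antisymm har
      by_contra hlt
      have h3 : a * d < r * r := Nat.mul_lt_mul_of_lt_of_le (not_le.1 hlt) hd'' (by omega)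
      omega
    subst h2
    exact ⟨rfl, h2r, rfl, (Nat.eq_of_mul_eq_mul_left (by omega) h1).symm⟩

namespace Wr

variable (h : Wr V E D F v e)
include h

theorem cent_P [Finite G] (hn : ∀ i : ι, ∃ j, j ≠ i) (i : ι) :
    sub h.co {i} ⊓ E ≤ sub h.co {i} ⊓ centralizer (h.F0 : Set G) := by
  rintro x ⟨hx, hxE⟩
  refine ⟨hx, mem_centralizer_iff.2 fun f hf => ?_⟩
  exact (comm_of_c (h.c_E hn hx hxE hf)).symm

theorem card_cent_aux [Finite G] (hn : ∀ i : ι, ∃ j, j ≠ i) (s : Finset ι) :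
    Nat.card ↥(sub h.co (s : Set ι)) ≤
      2 ^ s.card * Nat.card ↥(sub h.co (s : Set ι) ⊓ centralizer (h.F0 : Set G)) := by
  classical
  induction s using Finset.induction_on with
  | empty =>
    rw [Finset.coe_empty, sub_empty, Finset.card_empty, pow_zero, one_mul, bot_inf_eq]
  | insert j s hj ih =>
    have h1 := h.card_sub j (insert j s)
    rw [Finset.card_insert_of_notMem hj, pow_succ, ← h.card_sub j s] at h1
    have hPE : ¬ sub h.co {j} ≤ E := fun h1 => h.w_E j (h1 (h.w_sub j))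
    have h2 := h.card_two (sub_le h.co _) hPE
    have h3 : Nat.card ↥(sub h.co {j} ⊓ E) ≤
        Nat.card ↥(sub h.co {j} ⊓ centralizer (h.F0 : Set G)) :=
      Nat.card_le_card_of_injective _ (Subgroup.inclusion_injective (h.cent_P hn j))
    have h4 : Nat.card ↥(sub h.co {j} ⊓ centralizer (h.F0 : Set G)) *
        Nat.card ↥(sub h.co (s : Set ι) ⊓ centralizer (h.F0 : Set G)) ≤
        Nat.card ↥(sub h.co ((insert j s : Finset ι) : Set ι) ⊓ centralizer (h.F0 : Set G)) := by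
      rw [← Nat.card_prod]
      refine Nat.card_le_card_of_injective (fun x : ↥(sub h.co {j} ⊓ centralizer (h.F0 : Set G)) ×
          ↥(sub h.co (s : Set ι) ⊓ centralizer (h.F0 : Set G)) =>
        (⟨x.1 * x.2, mul_mem (sub_mono h.co (by simp) x.1.2.1)
          (sub_mono h.co (by simp [Finset.subset_insert]) x.2.2.1), mul_mem x.1.2.2 x.2.2.2⟩ :
            ↥(sub h.co ((insert j s : Finset ι) : Set ι) ⊓ centralizer (h.F0 : Set G)))) ?_
      rintro ⟨a, b⟩ ⟨a', b'⟩ hab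
      have h1 : (a : G) * b = a' * b' := congrArg Subtype.val hab
      have h2 : (a' : G)⁻¹ * a = b' * (b : G)⁻¹ := by
        rw [eq_mul_inv_iff_mul_eq, mul_assoc, h1, inv_mul_cancel_left]
      have h3 : (a' : G)⁻¹ * a = 1 := by
        refine sub_disj h.co (s := {j}) (t := (s : Set ι)) ?_ (mul_mem (inv_mem a'.2.1) a.2.1) ?_
        · exact Set.disjoint_singleton_left.2 hj
        · rw [h2]; exact mul_mem b'.2.1 (inv_mem b.2.1)
      have h4 : (a : G) = a' := (inv_mul_eq_one.1 h3).symm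
      rw [h3] at h2
      have h5 : (b : G) = b' := (mul_inv_eq_one.1 h2.symm).symm
      exact Prod.ext (Subtype.ext h4) (Subtype.ext h5)
    rw [Finset.card_insert_of_notMem hj, h1, h2, pow_succ]
    calc Nat.card ↥(sub h.co (s : Set ι)) * (2 * Nat.card ↥(sub h.co {j} ⊓ E))
        ≤ (2 ^ s.card * Nat.card ↥(sub h.co (s : Set ι) ⊓ centralizer (h.F0 : Set G))) *
          (2 * Nat.card ↥(sub h.co {j} ⊓ centralizer (h.F0 : Set G))) :=
          Nat.mul_le_mul ih (Nat.mul_le_mul_left _ h3)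
      _ = 2 ^ s.card * 2 * (Nat.card ↥(sub h.co {j} ⊓ centralizer (h.F0 : Set G)) *
          Nat.card ↥(sub h.co (s : Set ι) ⊓ centralizer (h.F0 : Set G))) := by ring
      _ ≤ _ := Nat.mul_le_mul_left _ h4

/-- `|V : C_V(F₀)| ≤ 2 ^ n` -/
theorem card_cent [Finite G] [Finite ι] (hn : ∀ i : ι, ∃ j, j ≠ i) :
    Nat.card V ≤ 2 ^ Nat.card ι * Nat.card ↥(V ⊓ centralizer (h.F0 : Set G)) := by
  have := Fintype.ofFinite ι
  have h1 := h.card_cent_aux hn Finset.univ
  rwa [Finset.coe_univ, sub_univ, Finset.card_univ, ← Nat.card_eq_fintype_card (α := ι)] at h1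

/-- `C_{F₀}(V) = D` -/
theorem F0_inf_cent [Finite G] : h.F0 ⊓ centralizer (V : Set G) = D := by
  apply le_antisymm
  · exact (inf_le_inf_right _ h.F0_le).trans h.near.F_inf_cent.le
  · refine le_inf h.D_le_F0 fun x hx => h.near.Vcomm (h.near.DV hx)

/-- **(WR)**: `n = |ι|`, `|P i| = 2 r`, `a = |F₀ : D|`, `d = |D|`. -/
theorem main [Finite G] [Finite ι] (hn : 2 ≤ Nat.card ι) (i : ι) :
    ∃ r, Nat.card ↥(sub h.co {i}) = 2 * r ∧
      ((Nat.card ι = 2 ∧ r = 1 ∧ D.relIndex h.F0 = 1 ∧ Nat.card D = 1) ∨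
      (Nat.card ι = 2 ∧ r = 2 ∧ D.relIndex h.F0 = 1 ∧ Nat.card D = 4) ∨
      (Nat.card ι = 4 ∧ r = 1 ∧ D.relIndex h.F0 = 1 ∧ Nat.card D = 2) ∨
      (Nat.card ι = 2 ∧ 2 ≤ r ∧ D.relIndex h.F0 = r ∧ Nat.card D = r)) := by
  have hne : Nonempty ι := ⟨i⟩
  have hn' : ∀ i : ι, ∃ j, j ≠ i := by
    intro i
    have : Nontrivial ι := Finite.one_lt_card_iff_nontrivial.1 (by omega)
    exact exists_ne i
  have hPE : ¬ sub h.co {i} ≤ E := fun h1 => h.w_E i (h1 (h.w_sub i))
  have hP := h.card_two (sub_le h.co _) hPE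
  refine ⟨Nat.card ↥(sub h.co {i} ⊓ E), hP, ?_⟩
  have ha : 0 < D.relIndex h.F0 := Nat.pos_of_ne_zero (index_ne_zero_of_finite)
  refine arith hn ha (h.card_F0 hn' i) (hP ▸ h.card_D i) (fun h1 => ?_) ?_
  · refine h.card_D' (fun h2 => h1 ?_) i
    rw [← h2, relIndex_self]
  · rw [← hP, ← h.card_V i, h.card_V']

/-- **(WR)**, `F₀` no over-offender: `|P i| ≤ 8`. -/
theorem le_eight [Finite G] [Finite ι] (hn : 2 ≤ Nat.card ι) (i : ι)
    (hover : Nat.card h.F0 * Nat.card ↥(V ⊓ centralizer (h.F0 : Set G)) ≤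
      Nat.card V * Nat.card ↥(h.F0 ⊓ centralizer (V : Set G))) : Nat.card ↥(sub h.co {i}) ≤ 8 := by
  have hn' : ∀ i : ι, ∃ j, j ≠ i := by
    intro i
    have : Nontrivial ι := Finite.one_lt_card_iff_nontrivial.1 (by omega)
    exact exists_ne i
  obtain ⟨r, hr, h1 | h1 | h1 | ⟨h1, h2, h3, h4⟩⟩ := h.main hn i
  · omega
  · omega
  · omega
  · have h5 := h.card_cent hn'
    rw [h1] at h5
    have h6 := relIndex_mul_relIndex ⊥ D h.F0 bot_le h.D_le_F0
    rw [relIndex_bot_left, relIndex_bot_left, h3] at h6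
    rw [h.F0_inf_cent, ← h6] at hover
    have hD : 0 < Nat.card D := Nat.card_pos
    have hC : 0 < Nat.card ↥(V ⊓ centralizer (h.F0 : Set G)) := Nat.card_pos
    have h7 : r * Nat.card ↥(V ⊓ centralizer (h.F0 : Set G)) ≤
        2 ^ 2 * Nat.card ↥(V ⊓ centralizer (h.F0 : Set G)) := by
      refine le_trans ?_ h5
      apply Nat.le_of_mul_le_mul_left _ hD
      calc Nat.card D * (r * Nat.card ↥(V ⊓ centralizer (h.F0 : Set G)))
          = Nat.card D * r * Nat.card ↥(V ⊓ centralizer (h.F0 : Set G)) := by ring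
        _ ≤ Nat.card V * Nat.card D := hover
        _ = Nat.card D * Nat.card V := by ring
    have h8 : r ≤ 2 ^ 2 := Nat.le_of_mul_le_mul_right h7 hC
    omega

/-- **(WR)**, `F₀` no offender: `|P i| ≤ 4`. -/
theorem le_four [Finite G] [Finite ι] (hn : 2 ≤ Nat.card ι) (i : ι)
    (hoff : Nat.card h.F0 * Nat.card ↥(V ⊓ centralizer (h.F0 : Set G)) <
      Nat.card V * Nat.card ↥(h.F0 ⊓ centralizer (V : Set G))) : Nat.card ↥(sub h.co {i}) ≤ 4 := by
  have hn' : ∀ i : ι, ∃ j, j ≠ i := by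
    intro i
    have : Nontrivial ι := Finite.one_lt_card_iff_nontrivial.1 (by omega)
    exact exists_ne i
  obtain ⟨r, hr, h1 | h1 | h1 | ⟨h1, h2, h3, h4⟩⟩ := h.main hn i
  · omega
  · omega
  · omega
  · have h5 := h.card_cent hn'
    rw [h1] at h5
    have h6 := relIndex_mul_relIndex ⊥ D h.F0 bot_le h.D_le_F0
    rw [relIndex_bot_left, relIndex_bot_left, h3] at h6
    rw [h.F0_inf_cent, ← h6] at hoff
    have hD : 0 < Nat.card D := Nat.card_pos
    have hC : 0 < Nat.card ↥(V ⊓ centralizer (h.F0 : Set G)) := Nat.card_pos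
    have h7 : r * Nat.card ↥(V ⊓ centralizer (h.F0 : Set G)) <
        2 ^ 2 * Nat.card ↥(V ⊓ centralizer (h.F0 : Set G)) := by
      refine lt_of_lt_of_le ?_ h5
      apply Nat.lt_of_mul_lt_mul_left (a := Nat.card D)
      calc Nat.card D * (r * Nat.card ↥(V ⊓ centralizer (h.F0 : Set G)))
          = Nat.card D * r * Nat.card ↥(V ⊓ centralizer (h.F0 : Set G)) := by ring
        _ < Nat.card V * Nat.card D := hoff
        _ = Nat.card D * Nat.card V := by ring
    have h8 : r < 2 ^ 2 := Nat.lt_of_mul_lt_mul_right h7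
    have hP : IsPGroup 2 ↥(sub h.co {i}) := fun x => ⟨1, by
      have h9 := h.near.Vsq (x : G) (sub_le h.co _ x.2)
      exact Subtype.ext (by simpa using h9)⟩
    have : Fact (Nat.Prime 2) := ⟨Nat.prime_two⟩
    obtain ⟨k, hk⟩ := IsPGroup.iff_card.1 hP
    rw [hr] at hk
    by_contra hcon
    have hr3 : r = 3 := by omega
    subst hr3
    have h10 : 3 ∣ 2 ^ k := ⟨2, by omega⟩
    exact absurd (Nat.prime_three.dvd_of_dvd_pow h10) (by norm_num)

end Wr

end act

end Cfsg.Agent.Omega.NO1.WR
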